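/- Tower WU (S4793, the conjugation character of PSU_n(q) misses exactly the Weil character):
definitions and job statements. Paper proof: blueprints/WU.md. -/
import Cfsg.Agent.H59.LS
import Cfsg.Agent.H59.Heis
import Cfsg.Agent.H28.CharKer

set_option autoImplicit false

namespace H53.WU

open Cfsg H59 Module

/-- A finite unitary space. -/
structure HS where
  F : Type
  [fld : Field F]
  [fin : Fintype F]
  q : ℕ
  hF : Fintype.card F = q ^ 2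
  V : Type
  [acg : AddCommGroup V]
  [mod : Module F V]
  [fd : FiniteDimensional F V]
  B : V →ₛₗ[frob hF] V →ₗ[F] F
  h : IsHerm B

attribute [instance] HS.fld HS.fin HS.acg HS.mod HS.fd

namespace HS

variable (S : HS)

noncomputable abbrev n : ℕ := finrank S.F S.V

/-- `GU`. -/
abbrev Γ : Subgroup (S.V ≃ₗ[S.F] S.V) := isom S.B

/-- `SU`. -/
noncomputable abbrev G : Subgroup (S.V ≃ₗ[S.F] S.V) := sisom S.B

/-- The elements of norm one. -/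
abbrev μ : Subgroup S.Fˣ := normOne S.F S.q

instance : Finite S.V := Module.finite_of_finite S.F

instance : Finite (S.V ≃ₗ[S.F] S.V) := finite_linearEquiv

/-- A nondegenerate subspace. -/
def sub (W : Submodule S.F S.V) (hW : Disjoint W (perp S.B W)) : HS where
  F := S.F
  q := S.q
  hF := S.hF
  V := W
  B := S.B.domRestrict₁₂ W W
  h := S.h.restrict hW

/-- The total Weil character. -/
noncomputable def zt (g : S.V ≃ₗ[S.F] S.V) : ℂ :=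
  (-1) ^ S.n * (-(S.q : ℂ)) ^ finrank S.F (LinearMap.ker ((g : Module.End S.F S.V) - 1))

/-- The part of the Weil character with central character `a`. -/
noncomputable def za (a : S.μ →* ℂˣ) (g : S.G) : ℂ :=
  ((S.q : ℂ) + 1)⁻¹ * ∑ᶠ c : S.μ, ((a c⁻¹ : ℂˣ) : ℂ) * S.zt (scalarEquiv S.V c.1 * g.1)

/-- The unipotent Weil character. -/
noncomputable abbrev ω : S.G → ℂ := S.za 1

def Iso (e : S.V) : Prop := e ≠ 0 ∧ S.B e e = 0

/-- The transvections with centre `e`. -/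
noncomputable def Zs (e : S.V) : Subgroup S.G := (axisGrp S.B e).subgroupOf S.G

/-- The unipotent radical of the stabiliser of `e`. -/
noncomputable def Qs (e : S.V) : Subgroup S.G := (unipRad S.B e).subgroupOf S.G

/-- The stabiliser of the vector `e`. -/
noncomputable def Rs (e : S.V) : Subgroup S.G where
  carrier := {g | g.1 e = e}
  mul_mem' {a _} ha hb := (congrArg a.1 hb).trans ha
  one_mem' := rfl
  inv_mem' {a} ha := a.1.symm_apply_eq.2 ha.symm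

/-- The stabiliser of the point `⟨e⟩`. -/
noncomputable def Ps (e : S.V) : Subgroup S.G where
  carrier := {g | ∃ a : S.Fˣ, g.1 e = (a : S.F) • e}
  mul_mem' {a b} := fun ⟨s, hs⟩ ⟨t, ht⟩ => ⟨t * s, by
    change a.1 (b.1 e) = _
    rw [ht, map_smul, hs, smul_smul, Units.val_mul]⟩
  one_mem' := ⟨1, (one_smul _ _).symm⟩
  inv_mem' {a} := fun ⟨s, hs⟩ => ⟨s⁻¹, a.1.symm_apply_eq.2 (by rw [map_smul, hs, smul_smul]; simp)⟩

/-- The pointwise stabiliser of `⟨e, x⟩^⊥` (abelian when `⟨e, x⟩` is totally isotropic). -/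
noncomputable def As (e x : S.V) : Subgroup S.G where
  carrier := {g | ∀ v, S.B e v = 0 → S.B x v = 0 → g.1 v = v}
  mul_mem' {a _} ha hb v h1 h2 := (congrArg a.1 (hb v h1 h2)).trans (ha v h1 h2)
  one_mem' _ _ _ := rfl
  inv_mem' {a} ha v h1 h2 := a.1.symm_apply_eq.2 (ha v h1 h2).symm

variable {S}

theorem mem_Zs {e : S.V} {g : S.G} : g ∈ S.Zs e ↔ g.1 ∈ axisGrp S.B e := Iff.rfl
theorem mem_Qs {e : S.V} {g : S.G} : g ∈ S.Qs e ↔ g.1 ∈ unipRad S.B e := Iff.rfl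
theorem mem_Rs {e : S.V} {g : S.G} : g ∈ S.Rs e ↔ g.1 e = e := Iff.rfl
theorem mem_Ps {e : S.V} {g : S.G} : g ∈ S.Ps e ↔ ∃ a : S.Fˣ, g.1 e = (a : S.F) • e := Iff.rfl
theorem mem_As {e x : S.V} {g : S.G} : g ∈ S.As e x ↔ ∀ v, S.B e v = 0 → S.B x v = 0 → g.1 v = v := Iff.rfl

theorem Zs_le_Qs {e : S.V} (he : S.Iso e) : S.Zs e ≤ S.Qs e := fun _ h => axisGrp_le_unipRad he.2 h
theorem Qs_le_Rs (e : S.V) : S.Qs e ≤ S.Rs e := fun _ h => h.2.1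
theorem Rs_le_Ps (e : S.V) : S.Rs e ≤ S.Ps e := fun _ h => ⟨1, h.trans (one_smul _ _).symm⟩

end HS

/-- The average over a subgroup. -/
noncomputable def av {G : Type} [Group G] (H : Subgroup G) (χ : G → ℂ) : ℂ :=
  (Nat.card H : ℂ)⁻¹ * ∑ᶠ x : H, χ x

/-- Some centraliser has a nonzero fixed vector. -/
def Fx {G : Type} [Group G] (χ : G → ℂ) : Prop := ∃ g : G, av (Subgroup.centralizer {g}) χ ≠ 0

/-- `η` is contained in the restriction of `χ`. -/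
def Con {G : Type} [Group G] (H : Subgroup G) (χ : G → ℂ) (η : H → ℂ) : Prop :=
  ∃ η', IsCharacter H η' ∧ ∀ x : H, χ x = η x + η' x

namespace HS

variable (S : HS)

/-- The Weil property of a character. -/
def W (χ : S.G → ℂ) : Prop := ∀ e, S.Iso e → av (S.Zs e) χ = av (S.Qs e) χ

/-- The Weil property of a module: the vectors fixed by `Z_e` are fixed by `Q_e`. -/
def WW {N : Type} [AddCommGroup N] [Module ℂ N] (ρ : Representation ℂ S.G N) : Prop :=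
  ∀ e, S.Iso e → ∀ m, (∀ t ∈ S.Zs e, ρ t m = m) → ∀ u ∈ S.Qs e, ρ u m = m

def Good : Prop := Odd S.n ∧ 3 ≤ S.n ∧ S.n.Coprime (S.q + 1)

end HS

/-- Gauss sums of skew-hermitian forms. -/
def JobGs : Prop := ∀ (F : Type) [Field F] [Fintype F] (q : ℕ) (hF : Fintype.card F = q ^ 2) (U : Type)
  [AddCommGroup U] [Module F U] [Finite U] (C : U →ₛₗ[frob hF] U →ₗ[F] F) (ψ : AddChar F ℂ),
  (∀ x, C x x + frob hF (C x x) = 0) → (∃ c, c + frob hF c = 0 ∧ ψ c ≠ 1) →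
  ∃ m : ℕ, ∑ᶠ x, ψ (C x x) = (-(q : ℂ)) ^ m

/-- The Weil representation. -/
def JobZ : Prop := ∀ S : HS, IsCharacter S.Γ fun g => S.zt g

/-- The Weil characters of `SU`. -/
def JobZa : Prop := ∀ S : HS, S.Good → (∀ a, IsIrrCharacter S.G (S.za a)) ∧ Function.Injective S.za ∧
  S.ω 1 * (S.q + 1) = S.q ^ S.n - S.q ∧ (∀ a, a ≠ 1 → S.za a 1 * (S.q + 1) = S.q ^ S.n + 1) ∧
  ∀ g : S.G, ∑ᶠ a, S.za a g = S.zt g

def JobWZ : Prop := ∀ S : HS, S.Good → ∀ a, S.W (S.za a)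

/-- Orthogonally indecomposable elements. -/
def JobA2 : Prop := ∀ S : HS, Odd S.n → ∀ g : S.Γ,
  (∀ U : Submodule S.F S.V, (∀ v ∈ U, g.1 v ∈ U) → Disjoint U (perp S.B U) → U = ⊥ ∨ U = ⊤) →
  ∃ C ≤ Subgroup.centralizer ({g} : Set S.Γ), ∑ᶠ x : C, S.zt x.1.1 = 0

/-- In odd dimension no centraliser fixes a vector of the Weil module. -/
def JobA : Prop := ∀ S : HS, Odd S.n → ∀ g : S.Γ, ∑ᶠ x : Subgroup.centralizer ({g} : Set S.Γ), S.zt x.1.1 = 0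

/-- The Coxeter torus. -/
def JobIrr : Prop := ∀ S : HS, Odd S.n → ∃ t : S.Γ, orderOf t = S.q ^ S.n + 1 ∧
  ∀ x : Module.End S.F S.V, x * (t.1 : Module.End S.F S.V) = (t.1 : Module.End S.F S.V) * x → x = 0 ∨ IsUnit x

/-- Characters without the Weil property. -/
def JobNW : Prop := ∀ S : HS, S.Good → ∀ χ, IsIrrCharacter S.G χ → ¬ S.W χ →
  Fx χ ∧ ∀ d : ℕ, χ 1 = d → S.q ^ (S.n - 1) < d

/-- An eigenvector of `As e x` is fixed by the transvection group of some point of the line `⟨e, x⟩`. -/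
def JobEv : Prop := ∀ (S : HS) (e x : S.V), S.Iso e → S.Iso x → S.B e x = 0 → (∀ c : S.F, x ≠ c • e) →
  ∀ (N : Type) [AddCommGroup N] [Module ℂ N] [FiniteDimensional ℂ N] (ρ : Representation ℂ S.G N)
    (X X' : Submodule ℂ N), (∀ g ∈ S.As e x, ∀ v ∈ X, ρ g v ∈ X) →
    (∀ r s : S.F, r • e + s • x ≠ 0 → ∀ v ∈ X, (∀ t ∈ S.Zs (r • e + s • x), ρ t v = v) → v ∈ X') → X ≤ X'

/-- The `G`-span of a `P`-submodule of `[N, Z]`. -/
def JobSp : Prop := ∀ (S : HS) (e : S.V), 4 ≤ S.n → S.Iso e →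
  ∀ (N : Type) [AddCommGroup N] [Module ℂ N] [FiniteDimensional ℂ N] (ρ : Representation ℂ S.G N), S.WW ρ →
    ∀ Y : Submodule ℂ N, (∀ p ∈ S.Ps e, ∀ y ∈ Y, ρ p y ∈ Y) → (∀ y ∈ Y, (∀ t ∈ S.Zs e, ρ t y = y) → y = 0) →
      ∀ g, ∀ y ∈ Y, ∃ y' ∈ Y, ∀ t ∈ S.Zs e, ρ t (ρ g y - y') = ρ g y - y'

def JobKey : Prop := ∀ (S : HS) (e : S.V), 4 ≤ S.n → S.Iso e → ∀ χ χ' (σ : S.Ps e → ℂ),
  IsIrrCharacter S.G χ → IsIrrCharacter S.G χ' → S.W χ → S.W χ' → IsIrrCharacter _ σ →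
  Con _ χ σ → Con _ χ' σ → (∃ z : S.Ps e, z.1 ∈ S.Zs e ∧ σ z ≠ σ 1) → χ = χ'

/-- Generation of the stabiliser of an isotropic vector. -/
def JobGE : Prop := ∀ (S : HS) (e : S.V), S.Iso e → ∀ K : Subgroup S.G, S.Qs e ≤ K →
  (∀ y, S.Iso y → S.B e y = 0 → S.Qs y ⊓ S.Rs e ≤ K) → S.Rs e ≤ K

def JobHom : Prop := ∀ (S : HS) (e : S.V), S.Iso e → ∀ χ χ' (η η' : S.Rs e → ℂ),
  IsCharacter S.G χ → IsCharacter S.G χ' → S.W χ → S.W χ' → IsIrrCharacter _ η → IsIrrCharacter _ η' →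
  Con _ χ η → Con _ χ' η' → (∀ z : S.Rs e, z.1 ∈ S.Zs e → η z * η' 1 = η' z * η 1) →
  (∃ z : S.Rs e, z.1 ∈ S.Zs e ∧ η z ≠ η 1) → η = η'

def JobBd : Prop := ∀ S : HS, S.Good → 4 ≤ S.n → ∀ s : Finset (S.G → ℂ),
  (∀ χ ∈ s, IsIrrCharacter S.G χ ∧ S.W χ ∧ χ ≠ fun _ => 1) → s.card ≤ S.q + 1

def JobP3 : Prop := ∀ (S : HS) (e : S.V), S.n = 3 → S.Iso e → ∀ s : Finset (S.G → ℂ),
  (∀ χ ∈ s, IsIrrCharacter S.G χ ∧ S.W χ ∧ av (S.Qs e) χ ≠ 0) → s.card ≤ S.q + 1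

def JobS3 : Prop := ∀ (S : HS) (e : S.V), S.Good → S.n = 3 → S.Iso e → ∀ χ, IsCharacter S.G χ →
  av (S.Zs e) χ = 0 → ∃ ξ : S.Ps e → ℂ, IsCharacter _ ξ ∧ (∀ u : S.Ps e, u.1 ∈ S.Qs e → ξ u = ξ 1) ∧
    ∀ p : S.Ps e, χ p = S.ω p * ξ p

def JobD3 : Prop := ∀ (S : HS) (e : S.V), S.Good → S.n = 3 → S.Iso e → ∀ χ (ξ : S.Ps e → ℂ),
  IsCharacter S.G χ → IsCharacter _ ξ → (∀ u : S.Ps e, u.1 ∈ S.Qs e → ξ u = ξ 1) →
  (∀ p : S.Ps e, χ p = S.ω p * ξ p) →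
  (ξ 1 = 1 → ∀ p ∈ S.Ps e, χ p = S.ω p) ∧ (Fx χ ∨ ∀ p ∈ S.Ps e, χ p = ξ 1 * S.ω p)

def JobE3 : Prop := ∀ (S : HS) (e : S.V), S.Good → S.n = 3 → S.Iso e → ∀ χ (b : ℂ), IsIrrCharacter S.G χ →
  (∀ p ∈ S.Ps e, χ p = b * S.ω p) → χ = S.ω

end H53.WU
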