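/- Tower DG (S4984, the degree graph of PSp / POmega is complete): definitions, kit and job statements.
Paper proof: blueprints/DG.md. -/
import Cfsg.Agent.H56.OmegaFin
import Cfsg.Agent.H54.SpIso
import Cfsg.Agent.H30.PermChar
import Cfsg.Prelude.Def_DegreeGraph

set_option autoImplicit false

namespace H53.DG

open Cfsg Matrix Module
open scoped ComplexConjugate

/-- A symplectic (`o = false`, `Q = 0`) or orthogonal (`o = true`, `B` the polar form of `Q`) space. -/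
structure FS (F V : Type) [Field F] [AddCommGroup V] [Module F V] where
  o : Bool
  B : LinearMap.BilinForm F V
  Q : QuadraticForm F V
  hO : o = true → B = Q.polarBilin
  hS : o = false → Q = 0 ∧ B.IsAlt
  nd : B.Nondegenerate

/-- The space `W ⊕ V ⊕ W'` with `W = W' = F^k`. -/
abbrev EV (F : Type) (k : ℕ) (V : Type) : Type := (Fin k → F) × V × (Fin k → F)

namespace FS

variable {F V V' : Type} [Field F] [AddCommGroup V] [Module F V] [AddCommGroup V'] [Module F V']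
  (S : FS F V)

def ε : F := if S.o then 1 else -1
def κ : F := if S.o then 1 else 0

theorem ε_mul_self : S.ε * S.ε = 1 := by unfold ε; split_ifs <;> simp

theorem symm (u v : V) : S.B v u = S.ε * S.B u v := by
  unfold ε
  cases h : S.o
  · simp [← (S.hS h).2.neg_eq u v]
  · simp [S.hO h, QuadraticMap.polar_comm S.Q v u]

theorem Q_add (u v : V) : S.Q (u + v) = S.Q u + S.Q v + S.κ * S.B u v := by
  unfold κ
  cases h : S.o
  · simp [(S.hS h).1]
  · simp [S.hO h, QuadraticMap.polar]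

theorem B_self (v : V) : S.B v v = 2 * S.Q v := by
  cases h : S.o
  · simp [(S.hS h).1, (S.hS h).2.self_eq_zero]
  · simp [S.hO h, two_mul]

theorem κ_mul_Q (v : V) : S.κ * S.Q v = S.Q v := by
  unfold κ
  cases h : S.o
  · simp [(S.hS h).1]
  · simp

theorem κ_mul_ε : S.κ * S.ε = S.κ := by unfold κ ε; split_ifs <;> simp

theorem ε_mul_Q (v : V) : S.ε * S.Q v = S.Q v := by
  unfold ε
  cases h : S.o
  · simp [(S.hS h).1]
  · simp

theorem eq_zero {v : V} (h : ∀ u, S.B v u = 0) : v = 0 := S.nd.1 v h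

/-- The isometry group. -/
def I : Subgroup (V ≃ₗ[F] V) where
  carrier := {g | (∀ u v, S.B (g u) (g v) = S.B u v) ∧ ∀ v, S.Q (g v) = S.Q v}
  mul_mem' {a b} ha hb := ⟨fun u v => by rw [LinearEquiv.mul_apply, LinearEquiv.mul_apply, ha.1, hb.1],
    fun v => by rw [LinearEquiv.mul_apply, ha.2, hb.2]⟩
  one_mem' := ⟨fun _ _ => rfl, fun _ => rfl⟩
  inv_mem' {a} ha := ⟨fun u v => by rw [← ha.1]; simp, fun v => by rw [← ha.2]; simp⟩

theorem I_B (g : S.I) (u v : V) : S.B (g.1 u) (g.1 v) = S.B u v := g.2.1 u v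
theorem I_Q (g : S.I) (v : V) : S.Q (g.1 v) = S.Q v := g.2.2 v

theorem I_eq_OG (h : S.o = true) : S.I = H56.OG S.Q := by
  ext g
  refine ⟨fun hg => hg.2, fun hg => ⟨fun u v => ?_, hg⟩⟩
  simp only [S.hO h, QuadraticMap.polarBilin_apply_apply, QuadraticMap.polar, ← map_add, hg _]

theorem I_eq_Isom (h : S.o = false) : S.I = H54.Isom S.B := by
  ext g
  exact ⟨fun hg => hg.1, fun hg => ⟨hg, fun v => by simp [(S.hS h).1]⟩⟩

/-- The isometry `-1`. -/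
def neg : S.I := ⟨LinearEquiv.neg F, fun u v => by simp, fun v => by simp⟩

@[simp] theorem neg_apply (v : V) : S.neg.1 v = -v := rfl

/-- An isometry from a linear map. -/
noncomputable def ofLin [FiniteDimensional F V] (f : V →ₗ[F] V) (hB : ∀ u v, S.B (f u) (f v) = S.B u v)
    (hQ : ∀ v, S.Q (f v) = S.Q v) : S.I :=
  ⟨LinearEquiv.ofInjectiveEndo f (H54.injective_of_isometry S.nd f hB), hB, hQ⟩

@[simp] theorem ofLin_apply [FiniteDimensional F V] (f : V →ₗ[F] V)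
    (hB : ∀ u v, S.B (f u) (f v) = S.B u v) (hQ : ∀ v, S.Q (f v) = S.Q v) (v : V) :
    (S.ofLin f hB hQ).1 v = f v := rfl

/-- Witt's lemma. -/
theorem witt [FiniteDimensional F V] {X : Type} [AddCommGroup X] [Module F X] (a b : X →ₗ[F] V)
    (ha : Function.Injective a) (hb : Function.Injective b)
    (hB : ∀ x y, S.B (b x) (b y) = S.B (a x) (a y)) (hQ : ∀ x, S.Q (b x) = S.Q (a x)) :
    ∃ g : S.I, ∀ x, g.1 (a x) = b x := by
  cases h : S.o
  · obtain ⟨g, hg⟩ := H54.isom_witt_linearMap S.nd (S.hS h).2 a b ha hb fun x y => (hB x y).symm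
    exact ⟨⟨g.1, (S.I_eq_Isom h).ge g.2⟩, hg⟩
  · obtain ⟨g, hg⟩ := H56.witt_maps (S.hO h ▸ S.nd) a b ha hb hQ
    exact ⟨⟨g.1, (S.I_eq_OG h).ge g.2⟩, hg⟩

/-- Eichler transformations (in the symplectic case: products of commuting transvections). -/
theorem exists_eich [FiniteDimensional F V] {s f : V} (hs : S.Q s = 0) (hf : S.B s f = 0) :
    ∃ g : S.I, ∀ v, g.1 v = v + S.B v f • s - (S.ε * S.B v s) • f - (S.Q f * S.B v s) • s := by
  have h1 : S.B s s = 0 := by rw [S.B_self, hs, mul_zero]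
  have h2 : S.B f s = 0 := by rw [S.symm, hf, mul_zero]
  let L : V →ₗ[F] V := LinearMap.id + (S.B.flip f).smulRight s - S.ε • (S.B.flip s).smulRight f -
    S.Q f • (S.B.flip s).smulRight s
  have hL : ∀ v, L v = v + S.B v f • s - (S.ε * S.B v s) • f - (S.Q f * S.B v s) • s := fun v => by
    simp [L, mul_smul]
  refine ⟨S.ofLin L (fun u v => ?_) fun v => ?_, hL⟩
  · have e1 := S.ε_mul_self
    have e2 := S.ε_mul_Q f
    simp only [hL, map_add, map_sub, map_smul, LinearMap.add_apply, LinearMap.sub_apply,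
      LinearMap.smul_apply, smul_eq_mul, h1, h2, hf, S.B_self f, S.symm v s, S.symm v f]
    linear_combination (S.B u s * S.B v s * 2 * S.Q f - S.B u s * S.B v f) * e1 -
      S.B u s * S.B v s * e2
  · cases h : S.o
    · simp [(S.hS h).1]
    · have e1 : S.ε = 1 := by simp [ε, h]
      have e2 : S.κ = 1 := by simp [κ, h]
      simp only [hL, sub_eq_add_neg, ← neg_smul, S.Q_add, QuadraticMap.map_smul, hs, e1, e2, map_add,
        map_smul, LinearMap.add_apply, LinearMap.smul_apply, smul_eq_mul, h1, h2, hf]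
      ring

/-- The form on `W ⊕ V ⊕ W'`. -/
def extB (k : ℕ) : LinearMap.BilinForm F (EV F k V) :=
  LinearMap.mk₂ F (fun z z' => z.1 ⬝ᵥ z'.2.2 + S.ε * (z.2.2 ⬝ᵥ z'.1) + S.B z.2.1 z'.2.1)
    (fun a b c => by simp; ring) (fun a b c => by simp; ring) (fun a b c => by simp; ring)
    (fun a b c => by simp; ring)

/-- The quadratic form on `W ⊕ V ⊕ W'`. -/
def extQ (k : ℕ) : QuadraticForm F (EV F k V) :=
  S.κ • LinearMap.BilinMap.toQuadraticMap (LinearMap.mk₂ F (fun z z' : EV F k V => z.1 ⬝ᵥ z'.2.2)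
    (fun a b c => by simp) (fun a b c => by simp) (fun a b c => by simp) (fun a b c => by simp)) +
    S.Q.comp ((LinearMap.fst F V _).comp (LinearMap.snd F _ _))

theorem extB_apply (k : ℕ) (z z' : EV F k V) :
    S.extB k z z' = z.1 ⬝ᵥ z'.2.2 + S.ε * (z.2.2 ⬝ᵥ z'.1) + S.B z.2.1 z'.2.1 := rfl

theorem extQ_apply (k : ℕ) (z : EV F k V) : S.extQ k z = S.κ * (z.1 ⬝ᵥ z.2.2) + S.Q z.2.1 := rfl

/-- `W ⊕ V ⊕ W'` with `W, W'` totally singular of dimension `k`, in duality. -/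
def ext (k : ℕ) : FS F (EV F k V) where
  o := S.o
  B := S.extB k
  Q := S.extQ k
  hO h := LinearMap.ext₂ fun z z' => by
    simp only [extB_apply, QuadraticMap.polarBilin_apply_apply, QuadraticMap.polar, extQ_apply, ε, κ, h,
      S.hO h, Prod.fst_add, Prod.snd_add, add_dotProduct, dotProduct_add, if_true, one_mul,
      dotProduct_comm z.2.2]
    ring
  hS h := ⟨QuadraticMap.ext fun z => by simp [extQ_apply, κ, h, (S.hS h).1], fun z => by
    simp [extB_apply, ε, h, (S.hS h).2.self_eq_zero, dotProduct_comm z.2.2]⟩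
  nd := by
    have hε : S.ε ≠ 0 := left_ne_zero_of_mul_eq_one S.ε_mul_self
    refine ⟨fun z h => ?_, fun z h => ?_⟩
    · refine Prod.ext (dotProduct_eq_zero _ fun y => by simpa [extB_apply] using h (0, 0, y))
        (Prod.ext (S.nd.1 _ fun v => by simpa [extB_apply] using h (0, v, 0))
          (dotProduct_eq_zero _ fun y => by simpa [extB_apply, hε] using h (y, 0, 0)))
    · refine Prod.ext (dotProduct_eq_zero _ fun y => by
          simpa [extB_apply, hε, dotProduct_comm y] using h (0, 0, y))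
        (Prod.ext (S.nd.2 _ fun v => by simpa [extB_apply] using h (0, v, 0))
          (dotProduct_eq_zero _ fun y => by simpa [extB_apply, dotProduct_comm y] using h (y, 0, 0)))

@[simp] theorem ext_o (k : ℕ) : (S.ext k).o = S.o := rfl
@[simp] theorem ext_ε (k : ℕ) : (S.ext k).ε = S.ε := rfl
@[simp] theorem ext_κ (k : ℕ) : (S.ext k).κ = S.κ := rfl
@[simp] theorem ext_B (k : ℕ) (z z' : EV F k V) :
    (S.ext k).B z z' = z.1 ⬝ᵥ z'.2.2 + S.ε * (z.2.2 ⬝ᵥ z'.1) + S.B z.2.1 z'.2.1 := rfl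
@[simp] theorem ext_Q (k : ℕ) (z : EV F k V) : (S.ext k).Q z = S.κ * (z.1 ⬝ᵥ z.2.2) + S.Q z.2.1 := rfl

/-- The stabiliser of `W` in the isometry group of `W ⊕ V ⊕ W'`. -/
def P (k : ℕ) : Subgroup (S.ext k).I where
  carrier := {g | ∀ z, (g.1 z).2 = 0 ↔ z.2 = 0}
  mul_mem' {a b} ha hb z := (ha _).trans (hb z)
  one_mem' _ := Iff.rfl
  inv_mem' {a} ha z := by rw [← ha]; simp

/-- `π` is the action of `P` on `W` and on `W^⊥ / W`. -/
def IsPi (k : ℕ) (π : S.P k →* GL (Fin k) F × S.I) : Prop := ∀ g : S.P k,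
  (∀ x, g.1.1 (x, 0, 0) = (((π g).1 : Matrix (Fin k) (Fin k) F) *ᵥ x, 0, 0)) ∧
    ∀ v, ∃ x, g.1.1 (0, v, 0) = (x, (π g).2.1 v, 0)

/-- `w` exchanges `W` and `W'` and is the identity on `V`. -/
def IsW (k : ℕ) (M : GL (Fin k) F) (w : (S.ext k).I) : Prop := ∀ x v y,
  w.1 (x, v, y) = ((M : Matrix (Fin k) (Fin k) F) *ᵥ y, v,
    S.ε • (((M⁻¹ : GL (Fin k) F) : Matrix (Fin k) (Fin k) F)ᵀ *ᵥ x))

/-- `l` is the element `(a, h)` of the Levi subgroup. -/
def IsL (k : ℕ) (a : GL (Fin k) F) (h : S.I) (l : (S.ext k).I) : Prop := ∀ x v y,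
  l.1 (x, v, y) = ((a : Matrix (Fin k) (Fin k) F) *ᵥ x, h.1 v,
    ((a⁻¹ : GL (Fin k) F) : Matrix (Fin k) (Fin k) F)ᵀ *ᵥ y)

/-- The data of an element of the unipotent radical of `P`. -/
def Adm (k : ℕ) (u : Fin k → V) (φ : Matrix (Fin k) (Fin k) F) : Prop :=
  (∀ i j, φ i j + S.ε * φ j i + S.B (u j) (u i) = 0) ∧ ∀ i, S.κ * φ i i + S.Q (u i) = 0

/-- `g` is the element of the unipotent radical with data `(u, φ)`. -/
def IsU (k : ℕ) (u : Fin k → V) (φ : Matrix (Fin k) (Fin k) F) (g : (S.ext k).I) : Prop := ∀ x v y,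
  g.1 (x, v, y) = (x + φ *ᵥ y - (fun i => S.B v (u i)), v + ∑ i, y i • u i, y)

/-- The holonomy on `V` of the triangle `W, W', g W'`. -/
noncomputable def hol (k : ℕ) (u : Fin k → V) (φ : Matrix (Fin k) (Fin k) F) (v : V) : V :=
  v + ∑ i, (φ⁻¹ *ᵥ fun j => S.B v (u j)) i • u i

/-- Singular points. -/
def Pt : Type := {p : Submodule F V // finrank F p = 1 ∧ ∀ v ∈ p, S.Q v = 0}

instance : MulAction S.I S.Pt where
  smul g p := ⟨p.1.map g.1.toLinearMap, (LinearEquiv.finrank_map_eq g.1 p.1).trans p.2.1, by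
    rintro _ ⟨v, hv, rfl⟩; exact (g.2.2 v).trans (p.2.2 v hv)⟩
  one_smul p := Subtype.ext (Submodule.map_id p.1)
  mul_smul a b p := Subtype.ext (Submodule.map_comp b.1.toLinearMap a.1.toLinearMap p.1)

theorem smul_val (g : S.I) (p : S.Pt) : (g • p).1 = p.1.map g.1.toLinearMap := rfl

instance [Finite V] : Finite S.Pt := Subtype.finite

instance [Finite V] : Finite S.I :=
  Finite.of_injective (fun g : S.I => (g.1 : V → V)) fun _ _ h => Subtype.ext (DFunLike.coe_injective h)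

noncomputable instance [Finite V] : Fintype S.I := Fintype.ofFinite _

/-- The permutation character on singular points. -/
noncomputable def pc : S.I → ℂ := H30.fixChar S.I S.Pt

/-- Anisotropic (for a symplectic space: zero). -/
def An : Prop := ∀ v, S.Q v = 0 → v = 0

/-- The parameter `q ^ e` of the polar spaces `S.ext r`, `S` anisotropic. -/
noncomputable def a : ℕ := Nat.card V * if S.o then 1 else Nat.card F

/-- An irreducible character of degree `d`. -/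
def Deg' (d : ℕ) : Prop := ∃ χ, IsIrrCharacter S.I χ ∧ χ 1 = d

/-- An irreducible character of degree `d` with `-1` in its kernel. -/
def Deg (d : ℕ) : Prop := ∃ χ, IsIrrCharacter S.I χ ∧ χ 1 = d ∧ χ S.neg = χ 1

/-- `τ` is a constituent of the permutation character on points. -/
def Le (τ : S.I → ℂ) : Prop := ∃ τ', IsCharacter S.I τ' ∧ S.pc = τ + τ'

/-- There is no totally singular `k`-space. -/
def NoTs (k : ℕ) : Prop := ∀ u : Fin k → V, LinearIndependent F u → (∀ i, S.Q (u i) = 0) →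
  (∀ i j, S.B (u i) (u j) = 0) → False

/-- A constituent of degree `d` of the permutation character on points. -/
def PS (d : ℕ) : Prop := ∃ τ, IsIrrCharacter S.I τ ∧ τ 1 = d ∧ S.Le τ

/-- Isometric spaces. -/
def Iso (S' : FS F V') : Prop :=
  S.o = S'.o ∧ ∃ e : V ≃ₗ[F] V', (∀ u v, S'.B (e u) (e v) = S.B u v) ∧ ∀ v, S'.Q (e v) = S.Q v

/-- The projective group `PΩ`. -/
abbrev PO : Type := commutator S.I ⧸ Subgroup.center (commutator S.I)

/-- `G` is transitive on pairs of independent singular vectors with given product. -/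
def PT (G : Subgroup S.I) : Prop := ∀ x y x' y' : V, LinearIndependent F ![x, y] →
  LinearIndependent F ![x', y'] → S.Q x = 0 → S.Q y = 0 → S.Q x' = 0 → S.Q y' = 0 → S.B x y = S.B x' y' →
    ∃ g ∈ G, g.1 x = x' ∧ g.1 y = y'

/-- A function on `S.I`, extended by zero to all maps. -/
noncomputable def xt (τ : S.I → ℂ) : (V → V) → ℂ := Function.extend (fun g : S.I => (g.1 : V → V)) τ 0

theorem xt_apply (τ : S.I → ℂ) (g : S.I) : S.xt τ g.1 = τ g :=
  Function.Injective.extend_apply (f := fun g : S.I => (g.1 : V → V))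
    (fun _ _ h => Subtype.ext (DFunLike.coe_injective h)) τ 0 g

end FS

/-- The zero space. -/
def zero (F : Type) [Field F] (o : Bool) : FS F PUnit where
  o := o
  B := 0
  Q := 0
  hO _ := Subsingleton.elim _ _
  hS _ := ⟨rfl, fun _ => rfl⟩
  nd := ⟨fun _ _ => rfl, fun _ _ => rfl⟩

/-- The form `x ^ 2`. -/
def one (F : Type) [Field F] (h : (2 : F) ≠ 0) : FS F F where
  o := true
  B := (QuadraticMap.sq : QuadraticForm F F).polarBilin
  Q := QuadraticMap.sq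
  hO _ := rfl
  hS h := nomatch h
  nd := H56.nondegenerate_of_polar fun x hx => by
    have := hx 1
    simp only [QuadraticMap.polar, QuadraticMap.sq_apply] at this
    exact (mul_eq_zero.1 (by linear_combination this : 2 * x = 0)).resolve_left h

/-- The binary form `z₀² + a z₀ z₁ + b z₁²`. -/
def q2 {F : Type} [Field F] (a b : F) : QuadraticForm F (Fin 2 → F) :=
  QuadraticMap.proj 0 0 + a • QuadraticMap.proj 0 1 + b • QuadraticMap.proj 1 1

theorem q2_apply {F : Type} [Field F] (a b : F) (z : Fin 2 → F) :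
    q2 a b z = z 0 ^ 2 + a * z 0 * z 1 + b * z 1 ^ 2 := by
  simp [q2]; ring

/-- Anisotropy of `z₀² + a z₀ z₁ + b z₁²`. -/
def An2 {F : Type} [Field F] (a b : F) : Prop :=
  ∀ z₁ z₂ : F, z₁ ^ 2 + a * z₁ * z₂ + b * z₂ ^ 2 = 0 → z₁ = 0 ∧ z₂ = 0

theorem An2.disc {F : Type} [Field F] [Finite F] {a b : F} (h : An2 a b) : a ^ 2 - 4 * b ≠ 0 := fun e => by
  by_cases h2 : (2 : F) = 0
  · have : CharP F 2 := CharTwo.of_one_ne_zero_of_two_eq_zero one_ne_zero h2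
    obtain ⟨c, hc⟩ := FiniteField.isSquare_of_char_two (ringChar.eq F 2) b
    have ha : a = 0 := pow_eq_zero_iff (two_ne_zero) |>.1 (by linear_combination e + 2 * b * h2)
    exact one_ne_zero (h c 1 (by rw [ha]; linear_combination hc + c ^ 2 * h2)).2
  · exact h2 (h (-a) 2 (by linear_combination -e)).2

/-- The anisotropic plane. -/
def two {F : Type} [Field F] [Finite F] {a b : F} (h : An2 a b) : FS F (Fin 2 → F) where
  o := true
  B := (q2 a b).polarBilin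
  Q := q2 a b
  hO _ := rfl
  hS h := nomatch h
  nd := H56.nondegenerate_of_polar fun x hx => by
    have h0 := hx (Pi.single 0 1)
    have h1 := hx (Pi.single 1 1)
    simp only [QuadraticMap.polar, q2_apply, Pi.add_apply, Pi.single_eq_same, ne_eq, one_ne_zero,
      zero_ne_one, not_false_eq_true, Pi.single_eq_of_ne] at h0 h1
    ext i
    fin_cases i
    · exact (mul_eq_zero.1 (by linear_combination a * h1 - 2 * b * h0 :
        (a ^ 2 - 4 * b) * x 0 = 0)).resolve_left h.disc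
    · exact (mul_eq_zero.1 (by linear_combination a * h0 - 2 * h1 :
        (a ^ 2 - 4 * b) * x 1 = 0)).resolve_left h.disc

/-- The number of nonzero singular vectors of `S.ext r`, `S` anisotropic with parameter `a`. -/
def sv (q a r : ℕ) : ℕ := (q ^ r - 1) * (q ^ (r - 1) * a + 1)

/-- The unipotent radical of the stabiliser of `T` in `GL_k`. -/
def Rad {F : Type} [Field F] {k : ℕ} (T : Submodule F (Fin k → F)) : Subgroup (GL (Fin k) F) where
  carrier := {a | (∀ x, (a : Matrix (Fin k) (Fin k) F) *ᵥ x - x ∈ T) ∧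
    ∀ x ∈ T, (a : Matrix (Fin k) (Fin k) F) *ᵥ x = x}
  mul_mem' {a b} ha hb := ⟨fun x => by
    simpa [← mulVec_mulVec] using T.add_mem (ha.1 (b.1 *ᵥ x)) (hb.1 x), fun x hx => by
    simp [← mulVec_mulVec, hb.2 x hx, ha.2 x hx]⟩
  one_mem' := by simp
  inv_mem' {a} ha := ⟨fun x => by
    simpa [mulVec_mulVec] using T.neg_mem (ha.1 ((a⁻¹).1 *ᵥ x)), fun x hx => by
    conv_lhs => rw [← ha.2 x hx]
    simp [mulVec_mulVec]⟩

/-- Cuspidal (and not the trivial character, which matters for `k = 1`). -/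
def Cusp {F : Type} [Field F] {k : ℕ} (σ : GL (Fin k) F → ℂ) : Prop :=
  (∀ T : Submodule F (Fin k → F), T ≠ ⊥ → T ≠ ⊤ → ∑ᶠ a : Rad T, σ a = 0) ∧ ∑ᶠ a, σ a = 0

/-- A function on `GL_k`, extended by zero to all matrices. -/
noncomputable def xm {F : Type} [Field F] {k : ℕ} (σ : GL (Fin k) F → ℂ) : Matrix (Fin k) (Fin k) F → ℂ :=
  Function.extend Units.val σ 0

theorem xm_apply {F : Type} [Field F] {k : ℕ} (σ : GL (Fin k) F → ℂ) (a : GL (Fin k) F) : xm σ a = σ a :=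
  Units.val_injective.extend_apply σ 0 a

/-- The Mackey term of `x` (the format of `H54.PS.irr_ind`). -/
noncomputable def MT {G : Type} [Group G] [Fintype G] (H : Subgroup G) (θ : H → ℂ) (x : G) : ℂ :=
  ∑ g : G, extendByZero H θ g * conj (extendByZero H θ (x⁻¹ * g * x))

/-- `∏_{1 ≤ i ≤ n} (q ^ (2 i) - 1)`. -/
def NN (q n : ℕ) : ℕ := ∏ i ∈ Finset.Icc 1 n, (q ^ (2 * i) - 1)

/-! ### Jobs: character theory -/

/-- A character that has no fixed vector on a subgroup of the image of `α` sums to zero on cosets. -/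
def JobKZ : Prop := ∀ (G A : Type) [Group G] [Finite G] [Group A] [Finite A] (χ : G → ℂ) (α : A →* G)
  (R : Subgroup G), IsCharacter G χ → R ≤ α.range → ∑ᶠ r : R, χ r = 0 → ∀ g, ∑ᶠ x : A, χ (g * α x) = 0

/-- Mackey terms depend on the double coset; the irreducibility criterion; constituents of `Ind`. -/
def JobMK : Prop := ∀ (G : Type) [Group G] [Fintype G] (H : Subgroup G) (θ : H → ℂ), IsIrrCharacter H θ →
  (∀ p ∈ H, ∀ p' ∈ H, ∀ x, MT H θ (p * x * p') = MT H θ x) ∧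
  ((∀ x ∉ H, MT H θ x = 0) → IsIrrCharacter G (indFun H θ)) ∧ indFun H θ 1 = H.index * θ 1 ∧
  ∀ z : H, (z : G) ∈ Subgroup.center G → θ z = θ 1 → ∀ χ ψ, IsCharacter G χ → IsCharacter G ψ →
    indFun H θ = χ + ψ → χ z = χ 1

/-- The two-dimensional Hecke algebra. -/
def JobT2 : Prop := ∀ (G : Type) [Group G] [Fintype G] (P U : Subgroup G) (ρ : P → ℂ) (w : G)
  (T : Finset G) (lam : G → P), IsIrrCharacter P ρ → U ≤ P → (∀ p ∈ P, ∀ u ∈ U, p * u * p⁻¹ ∈ U) →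
  (∀ u : P, (u : G) ∈ U → ρ u = ρ 1) → w ∉ P → (∃ h : w * w ∈ P, ρ ⟨w * w, h⟩ = ρ 1) →
  (∀ p ∈ P, ∃ l ∈ P, ∃ u ∈ U, p = l * u ∧ ∃ h : w * l * w⁻¹ * l⁻¹ ∈ P, ρ ⟨_, h⟩ = ρ 1) →
  (∀ u ∈ U, w⁻¹ * u * w ∈ P → u = 1) →
  (∀ x, x ∉ P → (∀ p ∈ P, ∀ p' ∈ P, x ≠ p * w * p') → MT P ρ x = 0) →
  (∀ u, u ∈ T ↔ u ∈ U ∧ ∃ p ∈ P, ∃ p' ∈ P, w * u * w = p * w * p') →
  (∀ u ∈ T, ∃ v ∈ U, w * u * w = v * w * lam u) →
  ∃ (χ₁ χ₂ : G → ℂ) (a₁ a₂ : ℂ), IsIrrCharacter G χ₁ ∧ IsIrrCharacter G χ₂ ∧ indFun P ρ = χ₁ + χ₂ ∧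
    χ₁ 1 * a₁ + χ₂ 1 * a₂ = 0 ∧ a₁ * a₂ = -Nat.card U ∧ (a₁ + a₂) * ρ 1 = ∑ u ∈ T, ρ (lam u)

/-- An element of the group algebra that is a scalar on a permutation module is that scalar on every
constituent. -/
def JobSC : Prop := ∀ (G X ι : Type) [Group G] [Finite G] [MulAction G X] [Finite X] [DecidableEq X]
  (s : Finset ι) (c : ι → ℂ) (h : ι → G) (e : ℂ) (τ τ' : G → ℂ),
  (∀ x y : X, ∑ i ∈ s, (if h i • x = y then c i else 0) = if x = y then e else 0) →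
  IsIrrCharacter G τ → IsCharacter G τ' → H30.fixChar G X = τ + τ' → ∑ i ∈ s, c i * τ (h i) = e * τ 1

/-- Rank 3: the degrees of the constituents. `R` is an invariant symmetric irreflexive relation of valency
`k`, two distinct non-adjacent points have `μ` common neighbours. -/
def JobSRG : Prop := ∀ (G X : Type) [Group G] [Finite G] [MulAction G X] [Fintype X] (R : X → X → Prop)
  (k k' μ : ℕ) (s t : ℂ), (∀ x y, R x y → R y x) → (∀ x, ¬ R x x) → (∀ (g : G) x y, R x y → R (g • x) (g • y)) →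
  (∀ x y x' y', R x y → R x' y' → ∃ g : G, g • x = x' ∧ g • y = y') →
  (∀ x y x' y', x ≠ y → ¬ R x y → x' ≠ y' → ¬ R x' y' → ∃ g : G, g • x = x' ∧ g • y = y') →
  (∀ x, {y | R x y}.ncard = k) → Fintype.card X = 1 + k + k' → k ≠ 0 → k' ≠ 0 →
  (∀ x y, x ≠ y → ¬ R x y → {z | R x z ∧ R y z}.ncard = μ) →
  s * t = μ - k → k * (s + t + μ) = k ^ 2 - k - μ * k' → s ≠ t →
  ∃ f g : G → ℂ, IsIrrCharacter G f ∧ IsIrrCharacter G g ∧ H30.fixChar G X = 1 + f + g ∧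
    k + f 1 * s + g 1 * t = 0

section
variable (F : Type) [Field F] [Fintype F] [DecidableEq F]

local notation "q" => Fintype.card F

/-- Non-real cuspidal characters of `GL_k`. -/
def JobCusp : Prop := ∀ k : ℕ, 1 ≤ k → ¬ (q = 2 ∧ k ≤ 2) → ¬ (q = 3 ∧ k = 1) →
  ∃ σ : GL (Fin k) F → ℂ, IsIrrCharacter _ σ ∧ σ 1 = (∏ i ∈ Finset.Ico 1 k, (q ^ i - 1) : ℕ) ∧ Cusp σ ∧
    ∑ a, σ a * σ a = 0 ∧ (3 ≤ k ∨ (k = 2 ∧ 4 ≤ q) → σ (-1) = σ 1)

/-- A cuspidal character of `PGL_2`. -/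
def JobCusp2 : Prop := ∃ σ : GL (Fin 2) F → ℂ, IsIrrCharacter _ σ ∧ σ 1 = (q - 1 : ℕ) ∧ Cusp σ ∧
  (∀ c : F, c ≠ 0 → xm σ (c • 1) = σ 1) ∧
  (∑ m : Matrix (Fin 2) (Fin 2) F with m.trace = 0, xm σ m) ^ 2 = (q * (q - 1) ^ 2) ^ 2

variable (V : Type) [AddCommGroup V] [Module F V] [Fintype V]

/-- The parabolic subgroup. -/
def JobPar : Prop := ∀ (S : FS F V) (k : ℕ), (∃ π, S.IsPi k π) ∧ (∀ M, ∃ w, S.IsW k M w) ∧
  (∀ a h, ∃ l, S.IsL k a h l) ∧ (∀ u φ, S.Adm k u φ → ∃ g, S.IsU k u φ g) ∧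
  (∀ g ∈ S.P k, ∀ z, (g.1 z).2.2 = 0 ↔ z.2.2 = 0) ∧
  ∀ π, S.IsPi k π → Function.Surjective π ∧
    (∀ a h l, S.IsL k a h l → ∃ hl : l ∈ S.P k, π ⟨l, hl⟩ = (a, h)) ∧
    (∀ g : (S.ext k).I, (∃ hg : g ∈ S.P k, π ⟨g, hg⟩ = 1) ↔ ∃ u φ, S.Adm k u φ ∧ S.IsU k u φ g) ∧
    (∀ M w, S.IsW k M w → ∀ g ∈ S.P k, w⁻¹ * g * w ∈ S.P k → ∃ a h, S.IsL k a h g) ∧
    ∀ M w, S.IsW k M w → ∀ x : (S.ext k).I,
      (∃ p ∈ S.P k, ∃ p' ∈ S.P k, x = p * w * p') ↔ ∀ z, (x.1 (z, 0, 0)).2.2 = 0 → z = 0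

/-- The intermediate double cosets: `x W` meets `W`, or meets `W^⊥` without lying in it. -/
def JobM1 : Prop := ∀ (S : FS F V) (k : ℕ) π, S.IsPi k π → ∀ σ τ, IsCharacter _ σ → IsCharacter _ τ → Cusp σ →
  ∀ x : (S.ext k).I, x ∉ S.P k → (∃ z, z ≠ 0 ∧ (x.1 (z, 0, 0)).2.2 = 0) →
    ((∃ z, z ≠ 0 ∧ (x.1 (z, 0, 0)).2 = 0) ∨ ∃ z, (x.1 (z, 0, 0)).2.2 ≠ 0) →
    MT (S.P k) (fun p => σ (π p).1 * τ (π p).2) x = 0

/-- The double coset `x W ≤ W^⊥`, `x W ∩ W = 0`. -/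
def JobM2 : Prop := ∀ (S : FS F V) (k : ℕ) π, S.IsPi k π → ∀ σ τ, IsCharacter _ σ → IsCharacter _ τ → Cusp σ →
  S.Le τ ∨ S.NoTs k → k ≠ 0 → ∀ x : (S.ext k).I, (∀ z, (x.1 (z, 0, 0)).2.2 = 0) →
    (∀ z, (x.1 (z, 0, 0)).2 = 0 → z = 0) → MT (S.P k) (fun p => σ (π p).1 * τ (π p).2) x = 0

/-- Harish-Chandra induction of a non-real cuspidal character. -/
def JobInd : Prop := ∀ (S : FS F V) (k : ℕ) (σ : GL (Fin k) F → ℂ) (τ : S.I → ℂ), IsIrrCharacter _ σ →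
  IsIrrCharacter _ τ → Cusp σ → S.Le τ ∨ S.NoTs k → k ≠ 0 → ∑ a, σ a * σ a = 0 →
  ∃ χ, IsIrrCharacter (S.ext k).I χ ∧ χ 1 = (S.P k).index * (σ 1 * τ 1) ∧
    (σ (-1) * τ S.neg = σ 1 * τ 1 → χ (S.ext k).neg = χ 1)

open Classical in
/-- Harish-Chandra induction of a cuspidal character fixed by `w`. -/
def JobHol : Prop := ∀ (S : FS F V) (k : ℕ) (M : GL (Fin k) F) (σ : GL (Fin k) F → ℂ) (τ : S.I → ℂ),
  IsIrrCharacter _ σ → IsIrrCharacter _ τ → Cusp σ → S.Le τ ∨ S.NoTs k → k ≠ 0 →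
  (∀ a : GL (Fin k) F, xm σ (M.1 * (a⁻¹).1ᵀ * (M⁻¹).1 * (a⁻¹).1) = σ 1) →
  xm σ (S.ε • (M.1 * (M⁻¹).1ᵀ)) = σ 1 →
  ∃ (χ₁ χ₂ : (S.ext k).I → ℂ) (a₁ a₂ : ℂ), IsIrrCharacter _ χ₁ ∧ IsIrrCharacter _ χ₂ ∧
    χ₁ 1 + χ₂ 1 = (S.P k).index * (σ 1 * τ 1) ∧ χ₁ 1 * a₁ + χ₂ 1 * a₂ = 0 ∧
    a₁ * a₂ = -Nat.card {d : (Fin k → V) × Matrix (Fin k) (Fin k) F // S.Adm k d.1 d.2} ∧
    (a₁ + a₂) * (σ 1 * τ 1) = ∑ d : (Fin k → V) × Matrix (Fin k) (Fin k) F with S.Adm k d.1 d.2,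
      xm σ (S.ε • (d.2 * (M⁻¹).1ᵀ)) * S.xt τ (S.hol k d.1 d.2) ∧
    (∀ u φ, S.Adm k u φ → IsUnit φ → ∃ h : S.I, ∀ v, h.1 v = S.hol k u φ v) ∧
    (σ (-1) * τ S.neg = σ 1 * τ 1 → χ₁ (S.ext k).neg = χ₁ 1 ∧ χ₂ (S.ext k).neg = χ₂ 1)

/-- Counting singular vectors and points. -/
def JobSv : Prop := ∀ (S : FS F V), S.An → ∀ r, Nat.card {v // v ≠ 0 ∧ (S.ext r).Q v = 0} = sv q S.a r ∧
  Nat.card (S.ext r).Pt * (q - 1) = sv q S.a r

/-- Transport along isometries, associativity of `ext`. -/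
def JobIso : Prop := ∀ (S : FS F V), (∀ m k, ((S.ext m).ext k).Iso (S.ext (m + k))) ∧ (S.ext 0).Iso S ∧
  ∀ (V' : Type) [AddCommGroup V'] [Module F V'] (S' : FS F V'), S.Iso S' → S'.Iso S ∧
    (∃ e : S.I ≃* S'.I, e S.neg = S'.neg ∧ ∀ g, S'.pc (e g) = S.pc g) ∧
    ∀ d, (S.Deg d → S'.Deg d) ∧ (S.Deg' d → S'.Deg' d) ∧ (S.PS d → S'.PS d)

/-- The number of totally singular `k`-spaces. -/
def JobIdx : Prop := ∀ (S : FS F V), S.An → ∀ m k,
  ((S.ext m).P k).index * ∏ i ∈ Finset.Icc 1 k, (q ^ i - 1) = ∏ j ∈ Finset.Ioc m (m + k), sv q S.a j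

/-- Witt index one. -/
def JobR2 : Prop := ∀ (S : FS F V), S.An → 1 < S.a → (S.ext 1).PS S.a

/-- Witt index at least two: rank 3 on points. -/
def JobR3 : Prop := ∀ (S : FS F V), S.An → ∀ r, 2 ≤ r → (S.ext r).PT ⊤ ∧ ∀ G : Subgroup (S.ext r).I,
  (S.ext r).PT G → ∃ (f g : G → ℂ) (d e : ℕ), IsIrrCharacter G f ∧ IsIrrCharacter G g ∧
    (fun x : G => (S.ext r).pc x) = 1 + f + g ∧ f 1 = d ∧ g 1 = e ∧
    d * ((q - 1) * (q + S.a)) = q * S.a * (q ^ r - 1) * (q ^ (r - 2) * S.a + 1) ∧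
    e * ((q - 1) * (q + S.a)) = q ^ 2 * (q ^ (r - 1) - 1) * (q ^ (r - 1) * S.a + 1)

/-- The generic family. -/
def JobGen : Prop := ∀ (S : FS F V), S.An → ∀ m k d, 1 ≤ k → ¬ (q = 2 ∧ k ≤ 2) → ¬ (q = 3 ∧ k = 1) →
  d = 1 ∨ (S.ext m).PS d → ∃ D, D * (q ^ k - 1) = d * ∏ j ∈ Finset.Ioc m (m + k), sv q S.a j ∧
    (S.ext (m + k)).Deg' D ∧ (3 ≤ k ∨ (k = 2 ∧ 4 ≤ q) → (S.ext (m + k)).Deg D)

/-- The rank 3 degrees in `I`. -/
def JobPS : Prop := ∀ (S : FS F V), S.An → ∀ r, 2 ≤ r →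
  (∃ d, (S.ext r).PS d ∧ (S.ext r).Deg d ∧
    d * ((q - 1) * (q + S.a)) = q * S.a * (q ^ r - 1) * (q ^ (r - 2) * S.a + 1)) ∧
  ∃ e, (S.ext r).PS e ∧ (S.ext r).Deg e ∧
    e * ((q - 1) * (q + S.a)) = q ^ 2 * (q ^ (r - 1) - 1) * (q ^ (r - 1) * S.a + 1)

/-- From `O` to `PΩ`. -/
def JobRes : Prop := ∀ (S : FS F V), S.An → S.o = true → ∀ r, 3 ≤ r →
  (∀ d, (S.ext r).Deg d ∨ ((S.ext r).Deg' d ∧ (S.ext r).neg ∉ commutator (S.ext r).I) →
    ∃ d' ∈ charDegrees (S.ext r).PO, d ∣ 4 * d' ∧ (Even q → d ∣ 2 * d')) ∧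
  (∃ d ∈ charDegrees (S.ext r).PO,
    d * ((q - 1) * (q + S.a)) = q * S.a * (q ^ r - 1) * (q ^ (r - 2) * S.a + 1)) ∧
  ∃ e ∈ charDegrees (S.ext r).PO,
    e * ((q - 1) * (q + S.a)) = q ^ 2 * (q ^ (r - 1) - 1) * (q ^ (r - 1) * S.a + 1)

end

/-- A job for all finite fields. -/
def All1 (J : ∀ (F : Type) [Field F] [Fintype F] [DecidableEq F], Prop) : Prop :=
  ∀ (F : Type) [Field F] [Fintype F] [DecidableEq F], J F

/-- A job for all finite fields and spaces. -/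
def All2 (J : ∀ (F : Type) [Field F] [Fintype F] [DecidableEq F] (V : Type) [AddCommGroup V] [Module F V]
    [Fintype V], Prop) : Prop :=
  ∀ (F : Type) [Field F] [Fintype F] [DecidableEq F] (V : Type) [AddCommGroup V] [Module F V] [Fintype V],
    J F V

section
variable (F : Type) [Field F] [Fintype F] [DecidableEq F]

local notation "q" => Fintype.card F

/-- The larger constituent of the induced real cuspidal character of `GL_2` in `Sp_2n(q)`. -/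
def JobTS : Prop := ∀ n, 2 ≤ n → ∃ D, ((zero F false).ext n).Deg D ∧
  D * ((q ^ 2 - 1) * (q + 1)) = q * ((q ^ (2 * n) - 1) * (q ^ (2 * n - 2) - 1))

/-- `Ω₁₀⁺(2)`. -/
def JobE6 : Prop := ∃ D, ((zero (ZMod 2) true).ext 5).Deg D ∧ 28 ∣ D

/-- `Ω₈⁻(3)`. -/
def JobE7 : Prop := ∀ (a b : ZMod 3) (h : An2 a b), ∃ D, ((two h).ext 3).Deg' D ∧ 195 ∣ D

/-- `Ω₈⁻(2)`. -/
def JobE8 : Prop := ∀ (h : An2 (1 : ZMod 2) 1), ∃ D, ((two h).ext 3).Deg D ∧ 4760 ∣ D

/-- Every two primes dividing `N` divide a common degree of `G`. -/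
def Full (G : Type) [Group G] (N : ℕ) : Prop :=
  ∀ r s : ℕ, r.Prime → s.Prime → r ≠ s → r ∣ N → s ∣ N → ∃ d ∈ charDegrees G, r * s ∣ d

/-- Type `C`. -/
def JobFC : Prop := ∀ n, 2 ≤ n → (n = 2 → 3 ≤ q) → ∀ r s : ℕ, r.Prime → s.Prime → r ≠ s →
  r ∣ q * NN q n → s ∣ q * NN q n → ∃ d, ((zero F false).ext n).Deg d ∧ r * s ∣ d

/-- Type `B`. -/
def JobFB : Prop := ∀ (h : (2 : F) ≠ 0) n, 3 ≤ n → Full ((one F h).ext n).PO (q * NN q n)

/-- Type `D`. -/
def JobFP : Prop := ∀ n, 4 ≤ n → ¬ (n = 5 ∧ q = 2) →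
  Full ((zero F true).ext n).PO (q * (q ^ n - 1) * NN q (n - 1))

/-- Type `²D`. -/
def JobFM : Prop := ∀ (a b : F) (h : An2 a b) n, 4 ≤ n → ¬ (n = 4 ∧ q ≤ 3) →
  Full ((two h).ext (n - 1)).PO (q * (q ^ n + 1) * NN q (n - 1))

/-- The three small groups. -/
def JobFS : Prop := Full ((zero (ZMod 2) true).ext 5).PO (2 * (2 ^ 5 - 1) * NN 2 4) ∧
  (∀ (a b : ZMod 2) (h : An2 a b), Full ((two h).ext 3).PO (2 * (2 ^ 4 + 1) * NN 2 3)) ∧
  ∀ (a b : ZMod 3) (h : An2 a b), Full ((two h).ext 3).PO (3 * (3 ^ 4 + 1) * NN 3 3)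

/-- The bridge to the symplectic groups of the Prelude. -/
def JobBS : Prop := ∀ n, 2 ≤ n → (∀ d, ((zero F false).ext n).Deg d → d ∈ charDegrees (PSp n F)) ∧
  ∀ r : ℕ, r.Prime → r ∣ Nat.card (PSp n F) → r ∣ q * NN q n

/-- The bridge to the orthogonal groups of the Prelude, and the cases with `-1 ∉ Ω`. -/
def JobBO : Prop :=
  (∀ (h : (2 : F) ≠ 0) n, 3 ≤ n → Nonempty (POmega F (quadFormOdd n F) ≃* ((one F h).ext n).PO) ∧
    ((one F h).ext n).neg ∉ commutator ((one F h).ext n).I ∧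
    ∀ r : ℕ, r.Prime → r ∣ Nat.card ((one F h).ext n).PO → r ∣ q * NN q n) ∧
  (∀ n, 4 ≤ n → Nonempty (POmega F (quadFormPlus n F) ≃* ((zero F true).ext n).PO) ∧
    (q ^ n % 4 = 3 → ((zero F true).ext n).neg ∉ commutator ((zero F true).ext n).I) ∧
    ∀ r : ℕ, r.Prime → r ∣ Nat.card ((zero F true).ext n).PO → r ∣ q * (q ^ n - 1) * NN q (n - 1)) ∧
  ∀ (a b : F) (h : An2 a b) n, 4 ≤ n →
    Nonempty (POmega F (quadFormMinus (n - 1) F a b) ≃* ((two h).ext (n - 1)).PO) ∧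
    (q ^ n % 4 = 1 → ((two h).ext (n - 1)).neg ∉ commutator ((two h).ext (n - 1)).I) ∧
    ∀ r : ℕ, r.Prime → r ∣ Nat.card ((two h).ext (n - 1)).PO → r ∣ q * (q ^ n + 1) * NN q (n - 1)

end

theorem zero_an (F : Type) [Field F] (o : Bool) : (zero F o).An := fun _ _ => rfl

theorem one_an (F : Type) [Field F] (h : (2 : F) ≠ 0) : (one F h).An := fun _ hv => mul_self_eq_zero.1 hv

theorem two_an {F : Type} [Field F] [Finite F] {a b : F} (h : An2 a b) : (two h).An := fun v hv => by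
  obtain ⟨h0, h1⟩ := h (v 0) (v 1) ((q2_apply a b v).symm.trans hv)
  ext i
  fin_cases i
  exacts [h0, h1]

theorem zero_a_false (F : Type) [Field F] [Fintype F] : (zero F false).a = Fintype.card F := by
  simp [FS.a, zero]

theorem zero_a_true (F : Type) [Field F] : (zero F true).a = 1 := by simp [FS.a, zero]

theorem one_a (F : Type) [Field F] [Fintype F] (h : (2 : F) ≠ 0) : (one F h).a = Fintype.card F := by
  simp [FS.a, one]

theorem two_a {F : Type} [Field F] [Fintype F] {a b : F} (h : An2 a b) : (two h).a = Fintype.card F ^ 2 := by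
  simp [FS.a, two]

end H53.DG
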