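/- Tower WU: kit. -/
import Cfsg.Agent.H53.WUSpec
import Cfsg.Agent.H8.DGKZ

set_option autoImplicit false

namespace H53.WU

open Cfsg H28 H59 Module

section Av

variable {G : Type} [Group G] [Finite G]

/-- The vectors fixed by a subgroup. -/
def fx {N : Type} [AddCommGroup N] [Module ℂ N] (ρ : Representation ℂ G N) (H : Subgroup G) : Submodule ℂ N :=
  eigSub (ρ.comp H.subtype) 1

omit [Finite G] in
theorem mem_fx {N : Type} [AddCommGroup N] [Module ℂ N] {ρ : Representation ℂ G N} {H : Subgroup G} {m : N} :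
    m ∈ fx ρ H ↔ ∀ t ∈ H, ρ t m = m := mem_eigSub_one.trans ⟨fun h t ht => h ⟨t, ht⟩, fun h t => h t.1 t.2⟩

theorem av_rep {N : Type} [AddCommGroup N] [Module ℂ N] [FiniteDimensional ℂ N] (ρ : Representation ℂ G N)
    (H : Subgroup G) : av H ρ.character = finrank ℂ (fx ρ H) := by
  have := Fintype.ofFinite H
  have h := card_mul_finrank_eigSub (ρ.comp H.subtype) 1
  rw [av, finsum_eq_sum_of_fintype, inv_mul_eq_iff_eq_mul₀ (card_ne_zero' H), fx, h]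
  exact Finset.sum_congr rfl fun a _ => by simp; rfl

theorem av_nat {χ : G → ℂ} (h : IsCharacter G χ) (H : Subgroup G) : ∃ m : ℕ, av H χ = m := by
  obtain ⟨N, ρ, rfl⟩ := h
  exact ⟨_, av_rep ρ H⟩

theorem av_le {χ : G → ℂ} (h : IsCharacter G χ) {K H : Subgroup G} (hle : K ≤ H) :
    ∃ m : ℕ, av K χ = av H χ + m := by
  obtain ⟨N, ρ, rfl⟩ := h
  obtain ⟨m, hm⟩ := Nat.exists_eq_add_of_le (Submodule.finrank_mono (show fx ρ H ≤ fx ρ K from
    fun v hv => mem_fx.2 fun t ht => mem_fx.1 hv t (hle ht)))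
  exact ⟨m, by rw [av_rep, av_rep, hm, Nat.cast_add]⟩

theorem av_add (H : Subgroup G) (χ χ' : G → ℂ) : av H (χ + χ') = av H χ + av H χ' := by
  have := Fintype.ofFinite H
  simp only [av, finsum_eq_sum_of_fintype, Pi.add_apply, Finset.sum_add_distrib, mul_add]

theorem av_eq_zero {H : Subgroup G} {χ : G → ℂ} : av H χ = 0 ↔ ∑ᶠ x : H, χ x = 0 :=
  mul_eq_zero_iff_left (inv_ne_zero (card_ne_zero' H))

theorem av_eq_zero_of_add {χ χ' : G → ℂ} (h : IsCharacter G χ) (h' : IsCharacter G χ') {H : Subgroup G}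
    (h0 : av H (χ + χ') = 0) : av H χ = 0 := by
  obtain ⟨a, ha⟩ := av_nat h H
  obtain ⟨b, hb⟩ := av_nat h' H
  rw [av_add, ha, hb, ← Nat.cast_add, Nat.cast_eq_zero] at h0
  rw [ha, show a = 0 by omega, Nat.cast_zero]

/-- No fixed vector of a subgroup: the sum over every coset of an overgroup vanishes. -/
theorem sum_coset_eq_zero {χ : G → ℂ} (h : IsCharacter G χ) {K H : Subgroup G} (hle : K ≤ H)
    (h0 : av K χ = 0) (g : G) : ∑ᶠ x : H, χ (g * x) = 0 :=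
  H8.DG.jobKZ G H χ H.subtype K h (by rwa [Subgroup.range_subtype]) (av_eq_zero.1 h0) g

theorem av_mono {χ : G → ℂ} (h : IsCharacter G χ) {K H : Subgroup G} (hle : K ≤ H) (h0 : av K χ = 0) :
    av H χ = 0 := av_eq_zero.2 (by simpa using sum_coset_eq_zero h hle h0 1)

end Av

namespace HS

variable {S : HS}

theorem two_le_q (S : HS) : 2 ≤ S.q := H59.two_le_q S.hF

theorem Iso.exists_hyp {e : S.V} (he : S.Iso e) : ∃ f, IsHyp S.B e f := by
  obtain ⟨f, h1, h2⟩ := S.h.exists_partner he.2 he.1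
  exact ⟨f, S.h, he.2, h2, h1⟩

theorem iso_of_hyp {e f : S.V} (H : IsHyp S.B e f) : S.Iso e := ⟨H.e_ne, H.ee⟩

theorem Iso.map {e : S.V} (he : S.Iso e) (g : S.G) : S.Iso (g.1 e) :=
  ⟨g.1.map_ne_zero_iff.2 he.1, (g.2.1 e e).trans he.2⟩

theorem exists_iso (h : 2 ≤ S.n) : ∃ e, S.Iso e := by
  obtain ⟨e, -, h1, h2⟩ := S.h.exists_isotropic_mem (W := ⊤) (by rwa [finrank_top])
  exact ⟨e, h1, h2⟩

theorem card_tz (S : HS) : Nat.card (tz (frob S.hF)) = S.q :=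
  card_trace_eq S.hF (c := 0) (zero_pow (by have := S.two_le_q; omega))

theorem card_Zs {e : S.V} (he : S.Iso e) : Nat.card (S.Zs e) = S.q := by
  rw [← S.card_tz]
  exact (Nat.card_congr (Equiv.ofBijective (fun c : Multiplicative (tz (frob S.hF)) =>
    (⟨S.h.tvHom he.2 c, S.h.tvHom_mem he.2 c⟩ : S.Zs e))
    ⟨fun a b h => S.h.tvHom_injective he.1 he.2 (congrArg Subtype.val h), fun t =>
      (S.h.exists_tvHom_eq he.2 t.2).imp fun _ h => Subtype.ext h⟩)).symm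

theorem card_V (S : HS) (U : Submodule S.F S.V) : Nat.card U = S.q ^ (2 * finrank S.F U) := by
  rw [Module.natCard_eq_pow_finrank (K := S.F), Nat.card_eq_fintype_card, S.hF, pow_mul]

theorem card_Qs {e : S.V} (he : S.Iso e) : Nat.card (S.Qs e) = S.q ^ (2 * (S.n - 2) + 1) := by
  obtain ⟨f, H⟩ := he.exists_hyp
  have h1 := S.h.finrank_hypPerp H.ee H.ef
  have := Fintype.ofFinite (hypPerp S.B e f)
  rw [Nat.card_congr (Equiv.ofBijective (fun g : S.Qs e => (⟨H.cu g.1.1, H.ca g.1.1, H.ca_add g.2⟩ :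
    Σ u : hypPerp S.B e f, {a : S.F // a + a ^ S.q = S.B u u})) ⟨fun a b h => ?_, fun x => ?_⟩),
    Nat.card_sigma, Finset.sum_congr rfl fun u _ => card_trace_eq S.hF (S.h.self_fixed u.1),
    Finset.sum_const, Finset.card_univ, smul_eq_mul, ← Nat.card_eq_fintype_card, S.card_V, pow_succ,
    show S.n - 2 = finrank S.F (hypPerp S.B e f) by simp only [n]; omega]
  · exact Subtype.ext (Subtype.ext (H.ext a.2 b.2 (congrArg (·.1) h) (congrArg (·.2.1) h)))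
  · obtain ⟨g, h1, h2, h3⟩ := H.exists_cu_ca x.1 x.2.2
    obtain ⟨u, a, ha⟩ := x
    subst h2
    exact ⟨⟨g, h1⟩, Sigma.ext rfl (heq_of_eq (Subtype.ext h3))⟩

theorem W_iff {N : Type} [AddCommGroup N] [Module ℂ N] [FiniteDimensional ℂ N] (ρ : Representation ℂ S.G N) :
    S.W ρ.character ↔ S.WW ρ := by
  refine forall₂_congr fun e he => ?_
  have hle : fx ρ (S.Qs e) ≤ fx ρ (S.Zs e) := fun v hv => mem_fx.2 fun t ht => mem_fx.1 hv t (Zs_le_Qs he ht)
  rw [av_rep, av_rep, Nat.cast_inj]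
  exact ⟨fun h m hm => mem_fx.1 ((Submodule.eq_of_le_of_finrank_eq hle h.symm).ge (mem_fx.2 hm)),
    fun h => by rw [le_antisymm hle fun v hv => mem_fx.2 (h v (mem_fx.1 hv))]⟩

theorem W_of_add {χ χ' : S.G → ℂ} (h : IsCharacter _ χ) (h' : IsCharacter _ χ') (hW : S.W (χ + χ')) :
    S.W χ := fun e he => by
  obtain ⟨a, ha⟩ := av_le h (Zs_le_Qs he)
  obtain ⟨b, hb⟩ := av_le h' (Zs_le_Qs he)
  have := hW e he
  rw [av_add, av_add, ha, hb] at this
  have : a + b = 0 := by exact_mod_cast (by linear_combination this : (a : ℂ) + b = 0)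
  rw [ha, show a = 0 by omega, Nat.cast_zero, add_zero]

theorem trans (h : 3 ≤ S.n) {e e' : S.V} (he : S.Iso e) (he' : S.Iso e') : ∃ g : S.G, g.1 e = e' := by
  obtain ⟨g, hg, h⟩ := S.h.exists_sisom_isotropic h he.1 he'.1 he.2 he'.2
  exact ⟨⟨g, hg⟩, h⟩

/-- Every nonzero scalar is the eigenvalue of an element of `P`. -/
theorem exists_eig (h : 3 ≤ S.n) {e : S.V} (he : S.Iso e) (a : S.Fˣ) : ∃ p : S.G, p.1 e = (a : S.F) • e :=
  trans h he ⟨smul_ne_zero a.ne_zero he.1, by simp [he.2]⟩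

theorem conj_Zs {e : S.V} (g : S.G) {t : S.G} (ht : t ∈ S.Zs e) : g * t * g⁻¹ ∈ S.Zs (g.1 e) :=
  conj_mem_axisGrp g.2.1 ht

theorem conj_Qs {e : S.V} (g : S.G) {t : S.G} (ht : t ∈ S.Qs e) : g * t * g⁻¹ ∈ S.Qs (g.1 e) :=
  conj_mem_unipRad g.2.1 ht

theorem Zs_smul (e : S.V) {a : S.F} (ha : a ≠ 0) : S.Zs (a • e) = S.Zs e := by rw [Zs, axisGrp_smul e ha, Zs]

theorem Qs_smul (e : S.V) {a : S.F} (ha : a ≠ 0) : S.Qs (a • e) = S.Qs e := by rw [Qs, unipRad_smul e ha, Qs]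

theorem conj_Zs_of_Ps {e : S.V} {p t : S.G} (hp : p ∈ S.Ps e) (ht : t ∈ S.Zs e) : p * t * p⁻¹ ∈ S.Zs e := by
  obtain ⟨a, ha⟩ := hp
  simpa only [ha, Zs_smul e a.ne_zero] using conj_Zs p ht

theorem conj_Qs_of_Ps {e : S.V} {p t : S.G} (hp : p ∈ S.Ps e) (ht : t ∈ S.Qs e) : p * t * p⁻¹ ∈ S.Qs e := by
  obtain ⟨a, ha⟩ := hp
  simpa only [ha, Qs_smul e a.ne_zero] using conj_Qs p ht

/-- `Z_e` is central in the stabiliser of `e`. -/
theorem comm_Zs {e : S.V} {g t : S.G} (hg : g ∈ S.Rs e) (ht : t ∈ S.Zs e) : g * t = t * g := by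
  obtain ⟨-, c, hc⟩ := ht
  replace hc : ∀ x, t.1 x = x + (c * S.B e x) • e := hc
  have h1 : ∀ x, S.B e (g.1 x) = S.B e x := fun x => by rw [← g.2.1 e x, mem_Rs.1 hg]
  refine Subtype.ext (LinearEquiv.ext fun x => ?_)
  change g.1 (t.1 x) = t.1 (g.1 x)
  rw [hc, hc, map_add, map_smul, mem_Rs.1 hg, h1]

theorem Good.ne_two (h : S.Good) : ¬ (S.n = 3 ∧ S.q = 2) := fun ⟨a, b⟩ => by
  have := h.2.2
  rw [a, b] at this
  exact absurd this (by decide)

theorem Good.tgrp (h : S.Good) : tgrp S.B = S.G := IsHerm.tgrp_eq_sisom' S.hF S.h h.ne_two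

theorem Good.perfect (h : S.Good) : commutator S.G = ⊤ := S.h.commutator_sisom h.2.1 h.tgrp

/-- A nontrivial irreducible character is nontrivial on transvections. -/
theorem nontriv (h : S.Good) {χ : S.G → ℂ} (hχ : IsIrrCharacter S.G χ) (h1 : χ ≠ fun _ => 1) {e : S.V}
    (he : S.Iso e) : ∃ t ∈ S.Zs e, χ t ≠ χ 1 := by
  by_contra! h0
  refine h1 (hχ.charKer_eq_top_iff.1 (eq_top_iff.2 fun g _ => ?_))
  have : H59.tgrp S.B ≤ (charKer χ).map S.G.subtype := (Subgroup.closure_le _).2 fun t ⟨p, hp, ht⟩ => by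
    refine ⟨⟨t, axisGrp_le_sisom hp ht⟩, hχ.mem_charKer.2 ?_, rfl⟩
    by_cases hp0 : p = 0
    · obtain ⟨-, c, hc⟩ := ht
      exact congrArg χ (Subtype.ext (LinearEquiv.ext fun x => by simp [hc, hp0]))
    · obtain ⟨g, hg⟩ := trans h.2.1 (e := p) ⟨hp0, hp⟩ he
      rw [← hχ.isClassFunction _ g]
      exact h0 _ (hg ▸ conj_Zs g ht)
  obtain ⟨x, hx, e⟩ := this (h.tgrp.ge g.2)
  exact Subtype.ext e ▸ hx

/-- The coset `u Z` of an element `u` of `Q \ Z` consists of conjugates of `u`. -/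
theorem exists_conj {e : S.V} (he : S.Iso e) {u t : S.G} (hu : u ∈ S.Qs e) (hu' : u ∉ S.Zs e)
    (ht : t ∈ S.Zs e) : ∃ y ∈ S.Qs e, y * u * y⁻¹ = u * t := by
  obtain ⟨f, H⟩ := he.exists_hyp
  have hy : H.cu u.1 ≠ 0 := fun h => hu' ((H.mem_axisGrp_iff hu).2 h)
  have hT : t.1 ∈ unipRad S.B e := Zs_le_Qs he ht
  have hTu : H.cu t.1 = 0 := (H.mem_axisGrp_iff hT).1 ht
  obtain ⟨w, hw, -⟩ := (H.herm.isHerm_hypForm H.ee H.ef).exists_ne_zero_ne_zero hy hy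
  replace hw : S.B (H.cu u.1) w ≠ 0 := hw
  obtain ⟨s, hs⟩ := exists_sub_eq_of_trace_zero H.herm.ne_id H.herm.invol (c := -H.ca t.1) (by
    have := H.ca_add hT
    rw [hTu] at this
    rw [map_neg, ← neg_add, this]
    simp)
  obtain ⟨y, hy', hyu⟩ := H.exists_cu ((s / S.B (H.cu u.1) w) • w)
  refine ⟨y, hy', ?_⟩
  rw [mul_inv_eq_iff_eq_mul]
  have hu2 : u.1 ∈ unipRad S.B e := hu
  have h4 : S.B (H.cu u.1) (H.cu y.1) = s := by
    rw [hyu, Submodule.coe_smul, form_smul_right, div_mul_cancel₀ _ hw]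
  refine Subtype.ext (H.ext (Subgroup.mul_mem _ hy' hu2)
    (Subgroup.mul_mem _ (Subgroup.mul_mem _ hu2 hT) hy') ?_ ?_)
  · simp only [Subgroup.coe_mul, H.cu_mul hy' hu2, H.cu_mul (Subgroup.mul_mem _ hu2 hT) hy',
      H.cu_mul hu2 hT, hTu]
    abel
  · simp only [Subgroup.coe_mul, H.ca_mul hy' hu2, H.ca_mul (Subgroup.mul_mem _ hu2 hT) hy',
      H.ca_mul hu2 hT, H.cu_mul hu2 hT, hTu, add_zero, h4, Submodule.coe_zero, map_zero,
      ← H.herm.symm (H.cu u.1) (H.cu y.1)]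
    linear_combination -hs

/-- A character of an overgroup `H` of `Q` without `Z`-fixed vectors vanishes on `Q \ Z`. -/
theorem off_Z {e : S.V} (he : S.Iso e) {H : Subgroup S.G} (hH : S.Qs e ≤ H) {η : H → ℂ}
    (hη : IsCharacter H η) (h0 : av ((S.Zs e).subgroupOf H) η = 0) {u : H} (hu : u.1 ∈ S.Qs e)
    (hu' : u.1 ∉ S.Zs e) : η u = 0 := by
  have h := sum_coset_eq_zero hη le_rfl h0 u
  have := Fintype.ofFinite ((S.Zs e).subgroupOf H)
  rw [finsum_eq_sum_of_fintype, Finset.sum_congr rfl (g := fun _ => η u) fun t _ => ?_, Finset.sum_const,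
    Finset.card_univ, nsmul_eq_mul, ← Nat.card_eq_fintype_card] at h
  · exact (mul_eq_zero.1 h).resolve_left (card_ne_zero' _)
  · obtain ⟨y, hy, e⟩ := exists_conj he hu hu' t.2
    rw [← hη.isClassFunction u ⟨y, hH hy⟩]
    exact congrArg η (Subtype.ext e.symm)

theorem card_μ (S : HS) : Nat.card S.μ = S.q + 1 := card_normOne S.hF

theorem card_dual (S : HS) : Nat.card (S.μ →* ℂˣ) = S.q + 1 := by
  rw [CommGroup.card_monoidHom_of_hasEnoughRootsOfUnity, S.card_μ]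

instance (S : HS) : Finite (S.μ →* ℂˣ) := Nat.finite_of_card_ne_zero (by rw [S.card_dual]; omega)

theorem sc_mem (c : S.μ) : scalarEquiv S.V c.1 ∈ S.Γ := scalarEquiv_mem_isom ((mem_normOne' S.hF).1 c.2)

theorem det_sc (c : S.Fˣ) : LinearEquiv.det (scalarEquiv S.V c) = c ^ S.n :=
  Units.ext ((det_of_scalar (scalarEquiv_apply c)).trans (Units.val_pow_eq_pow_val _ _).symm)

theorem pow_bij (h : S.n.Coprime (S.q + 1)) : Function.Bijective fun c : S.μ => c ^ S.n :=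
  (powCoprime (by rw [S.card_μ]; exact h.symm)).bijective

theorem sc_eq_one (h : S.n.Coprime (S.q + 1)) {c : S.μ} (hc : scalarEquiv S.V c.1 ∈ S.G) : c = 1 :=
  (pow_bij h).1 (Subtype.ext (by simpa [det_sc] using hc.2))

/-- `GU = μ × SU`. -/
theorem exists_sc (h : S.n.Coprime (S.q + 1)) (g : S.Γ) : ∃ c : S.μ, scalarEquiv S.V c.1 * g.1 ∈ S.G := by
  obtain ⟨c, hc⟩ := (pow_bij h).2 ⟨LinearEquiv.det g.1, (mem_normOne' S.hF).2 (S.h.det_norm_one g.2)⟩⁻¹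
  refine ⟨c, mul_mem (sc_mem c) g.2, ?_⟩
  have : c.1 ^ S.n = (LinearEquiv.det g.1)⁻¹ := congrArg Subtype.val hc
  simp [det_sc, this]

end HS

end H53.WU
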