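/- Tower KU (S2196, rank 3 actions of PSU_n(q), n ≥ 6, q ≥ 3): definitions and job statements.
Paper proof: blueprints/KU.md. -/
import Cfsg.Agent.H53.WUKit
import Cfsg.Agent.H26.MinU6

set_option autoImplicit false

namespace H53.KU

open Cfsg H59 H53.WU Module

/-! ### The torus and its characters -/

section Tor

variable {F : Type} [Field F] {m : ℕ}

/-- The eigenvalue of `diag a` on `e i` (`s = false`) or `f i` (`s = true`). -/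
def eig (q : ℕ) (a : Fin m → Fˣ) (i : Fin m) (s : Bool) : Fˣ := if s then (a i ^ q)⁻¹ else a i

/-- Signed permutations. -/
def sw (q : ℕ) (π : Equiv.Perm (Fin m)) (ε : Fin m → Bool) : (Fin m → Fˣ) →* (Fin m → Fˣ) where
  toFun a i := eig q a (π i) (ε i)
  map_one' := by funext i; unfold eig; split_ifs <;> simp
  map_mul' a b := by funext i; unfold eig; split_ifs <;> simp [*, mul_pow, mul_comm]

theorem sw_apply (q : ℕ) (π : Equiv.Perm (Fin m)) (ε : Fin m → Bool) (a : Fin m → Fˣ) (i : Fin m) :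
    sw q π ε a i = eig q a (π i) (ε i) := rfl

variable (F m) in
/-- The torus of `SU`; `o` says that the dimension is odd. -/
def Tor (q : ℕ) (o : Prop) : Subgroup (Fin m → Fˣ) where
  carrier := {a | o ∨ (∏ i, a i) ^ (q - 1) = 1}
  mul_mem' {a b} ha hb := ha.elim Or.inl fun ha => hb.elim Or.inl fun hb => Or.inr (by
    simp only [Pi.mul_apply, Finset.prod_mul_distrib, mul_pow, ha, hb, mul_one])
  one_mem' := Or.inr (by simp)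
  inv_mem' {a} ha := ha.elim Or.inl fun ha => Or.inr (by
    simp only [Pi.inv_apply, Finset.prod_inv_distrib, inv_pow, ha, inv_one])

theorem mem_Tor {q : ℕ} {o : Prop} {a : Fin m → Fˣ} :
    a ∈ Tor F m q o ↔ o ∨ (∏ i, a i) ^ (q - 1) = 1 := Iff.rfl

variable (q : ℕ) (o : Prop)

/-- Conjugate characters of the torus. -/
def Cj (l l' : (Fin m → Fˣ) →* ℂˣ) : Prop := ∃ π ε, ∀ a ∈ Tor F m q o, l' a = l (sw q π ε a)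

/-- Nontrivial on the torus, trivial on `D`. -/
def In (D : Subgroup (Fin m → Fˣ)) (l : (Fin m → Fˣ) →* ℂˣ) : Prop :=
  (∃ a ∈ Tor F m q o, l a ≠ 1) ∧ ∀ a ∈ D, l a = 1

/-- The order of a character on the torus. -/
noncomputable def od (l : (Fin m → Fˣ) →* ℂˣ) : ℕ := Nat.card ((Tor F m q o).map l)

def H3 (D : Subgroup (Fin m → Fˣ)) : Prop :=
  ∀ l₁ l₂ l₃, In q o D l₁ → In q o D l₂ → In q o D l₃ → Cj q o l₁ l₂ ∨ Cj q o l₁ l₃ ∨ Cj q o l₂ l₃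

def Two (D : Subgroup (Fin m → Fˣ)) : Prop := ∃ l₁ l₂, In q o D l₁ ∧ In q o D l₂ ∧ ¬ Cj q o l₁ l₂

def Inv (D : Subgroup (Fin m → Fˣ)) : Prop := ∀ π ε, ∀ a ∈ D, sw q π ε a ∈ D

def Sing (D : Subgroup (Fin m → Fˣ)) : Prop := ∀ i (c : Fˣ), c ^ (q - 1) = 1 → Pi.mulSingle i c ∈ D

/-- Multiplication by `x` is irreducible on the additive group. -/
def Gn (x : F) : Prop := ∀ M : AddSubgroup F, (∀ y ∈ M, x * y ∈ M) → M = ⊥ ∨ M = ⊤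

/-- The root `a 0 / a 1`. -/
def al {r : ℕ} : (Fin (r + 3) → Fˣ) →* Fˣ := Pi.evalMonoidHom (fun _ => Fˣ) 0 / Pi.evalMonoidHom (fun _ => Fˣ) 1

theorem al_apply {r : ℕ} (a : Fin (r + 3) → Fˣ) : al a = a 0 / a 1 := rfl

def Sep {r : ℕ} (D : Subgroup (Fin (r + 3) → Fˣ)) : Prop :=
  (∀ i j s s', i ≠ 0 → j ≠ 0 → i ≠ j → ∃ d ∈ D, d 0 = d 1 ∧ eig q d i s ≠ eig q d j s') ∧
  (o → ∀ i s, i ≠ 0 → ∃ d ∈ D, d 0 = d 1 ∧ eig q d i s ≠ (∏ k, d k) ^ (q - 1))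

def Good {r : ℕ} (D : Subgroup (Fin (r + 3) → Fˣ)) : Prop :=
  (∃ d ∈ D, Gn ((d 0 / d 1 : Fˣ) : F)) ∧ (∃ d ∈ D, Gn ((d 0 * d 1 ^ q : Fˣ) : F)) ∧ Sep q o D

/-- Three divisors greater than one. -/
def Big (N : ℕ) : Prop := ∃ a b c, 1 < a ∧ a < b ∧ b < c ∧ a ∣ N ∧ b ∣ N ∧ c ∣ N

end Tor

/-- Characters through a homomorphism to the cyclic group `Fˣ`. -/
def JobK1 : Prop := ∀ (F : Type) [Field F] [Fintype F] (m q : ℕ) (o : Prop) (D : Subgroup (Fin m → Fˣ)),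
  D ≤ Tor F m q o → ∀ (ν : (Fin m → Fˣ) →* Fˣ) (d : ℕ), 1 < d →
  d ∣ (D.map ν).relIndex ((Tor F m q o).map ν) →
  ∃ φ : Fˣ →* ℂˣ, In q o D (φ.comp ν) ∧ od q o (φ.comp ν) = d

def JobK2 : Prop := ∀ (F : Type) [Field F] (r q : ℕ) (o : Prop) (φ φ' : Fˣ →* ℂˣ),
  Cj q o (φ.comp (al (r := r))) (φ'.comp al) →
  φ' = 1 ∨ φ' = φ ∨ φ' = φ⁻¹ ∨ φ' = φ ^ q ∨ φ' = (φ ^ q)⁻¹

def JobAr1 : Prop := ∀ (F : Type) [Field F] [Fintype F] (r q : ℕ) (o : Prop), Fintype.card F = q ^ 2 → 3 ≤ q →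
  ∀ D : Subgroup (Fin (r + 3) → Fˣ), D ≤ Tor F _ q o → H3 q o D →
  (∃ d ∈ D, Gn ((d 0 / d 1 : Fˣ) : F)) ∨ (Two q o D ∧ Sing q D)

def JobRed : Prop := ∀ (F : Type) [Field F] [Fintype F] (A : Type) [CommGroup A] (D : Subgroup A)
  (α ρ : A →* Fˣ), (∀ d ∈ D, α d = 1 → ρ d = 1) →
  ∃ ν : A →* Fˣ, (∀ d ∈ D, ν d = 1) ∧ ∀ a, α a = 1 → ν a = ρ a

def JobIm : Prop := ∀ (F : Type) [Field F] [Fintype F] (r q : ℕ) (o : Prop), Fintype.card F = q ^ 2 → 3 ≤ q →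
  ∀ (H : Subgroup Fˣ) (i : Fin (r + 3)) (s : Bool), i ≠ 0 →
  (∀ j s', j ≠ 0 → i ≠ j → (∀ a ∈ Tor F _ q o, a 0 = a 1 → eig q a i s / eig q a j s' ∈ H) →
    Big (Nat.card H) ∨ (q = 3 ∧ 1 ≤ r ∧ Nat.card H = 4)) ∧
  ((∀ a : Fin (r + 3) → Fˣ, a 0 = a 1 → eig q a i s / (∏ k, a k) ^ (q - 1) ∈ H) → Big (Nat.card H))

def JobX3 : Prop := ∀ (F : Type) [Field F] [Fintype F] (r : ℕ) (o : Prop), Fintype.card F = 3 ^ 2 → 1 ≤ r →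
  ∀ D : Subgroup (Fin (r + 3) → Fˣ), H3 3 o D → Inv 3 D →
  ∀ l₂ l₄, In 3 o D l₂ → In 3 o D l₄ → od 3 o l₂ = 2 → od 3 o l₄ = 4 → Sing 3 D

def JobAr : Prop := ∀ (F : Type) [Field F] [Fintype F] (r q : ℕ) (o : Prop), Fintype.card F = q ^ 2 → 3 ≤ q →
  ∀ D : Subgroup (Fin (r + 3) → Fˣ), D ≤ Tor F _ q o → H3 q o D → (Two q o D → Inv q D) →
  Good q o D ∨ (Two q o D ∧ Sing q D)

/-! ### Rank three, abstractly -/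

section Rk

variable {G : Type} [Group G]

def Rk3 (K : Subgroup G) : Prop := Nat.card (MulAction.orbitRel.Quotient K (G ⧸ K)) = 3

/-- `g` and `g'` lie in the same `(K, P)` double coset. -/
def DC (K P : Subgroup G) (g g' : G) : Prop := ∃ k ∈ K, ∃ p ∈ P, g' = k * g * p

/-- The Mackey relation. -/
def Mk (B : Subgroup G) (μ μ' : B →* ℂˣ) : Prop :=
  ∃ g : G, ∀ b b' : B, b.1 = g⁻¹ * b'.1 * g → μ' b' = μ b

/-- A nontrivial linear character of `B` trivial on `K ∩ B`. -/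
def Ap (K B : Subgroup G) (μ : B →* ℂˣ) : Prop := μ ≠ 1 ∧ ∀ b : B, b.1 ∈ K → μ b = 1

def Four (K : Subgroup G) : Prop := ∀ g : Fin 4 → G, ∃ i j, i ≠ j ∧ DC K K (g i) (g j)

end Rk

def JobM1 : Prop := ∀ (G : Type) [Group G] [Finite G] (K B : Subgroup G), Rk3 K →
  (∀ μ₁ μ₂ μ₃, Ap K B μ₁ → Ap K B μ₂ → Ap K B μ₃ → Mk B μ₁ μ₂ ∨ Mk B μ₁ μ₃ ∨ Mk B μ₂ μ₃) ∧
  ∀ μ₁ μ₂, Ap K B μ₁ → Ap K B μ₂ → ¬ Mk B μ₁ μ₂ → ¬ Mk B 1 μ₁ → ¬ Mk B 1 μ₂ → ∀ g, DC K B 1 g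

def JobM3 : Prop := ∀ (G : Type) [Group G] [Finite G] (K P : Subgroup G), Rk3 K → Rk3 P →
  ∀ a b c : G, ¬ DC K P a b → ¬ DC K P a c → ¬ DC K P b c → K.index = P.index

def JobDc : Prop := ∀ (G : Type) [Group G] [Finite G] (K : Subgroup G),
  (Rk3 K → Four K ∧ K ≠ ⊤) ∧ ∀ a b c : G, ¬ DC K K a b → ¬ DC K K a c → ¬ DC K K b c →
    (∀ g, DC K K a g ∨ DC K K b g ∨ DC K K c g) → Rk3 K

/-! ### Frames -/

/-- `m` mutually orthogonal hyperbolic pairs. -/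
structure Fr (S : HS) (m : ℕ) where
  e : Fin m → S.V
  f : Fin m → S.V
  ee : ∀ i j, S.B (e i) (e j) = 0
  ff : ∀ i j, S.B (f i) (f j) = 0
  ef : ∀ i j, S.B (e i) (f j) = if i = j then 1 else 0

namespace Fr

variable {S : HS} {m : ℕ} (Φ : Fr S m)

theorem fe (i j : Fin m) : S.B (Φ.f i) (Φ.e j) = if i = j then 1 else 0 := by
  rw [← S.h.symm, Φ.ef]
  by_cases h : i = j
  · simp [h]
  · simp [h, Ne.symm h]

/-- The flag of the frame. -/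
def W (k : ℕ) : Submodule S.F S.V := Submodule.span S.F (Φ.e '' {i | i.1 < k})

/-- The orthogonal complement of the frame. -/
def Pp (w : S.V) : Prop := (∀ i, S.B (Φ.e i) w = 0) ∧ ∀ i, S.B (Φ.f i) w = 0

/-- `g` fixes the flag with eigenvalues `a`. -/
def Ev (g : S.G) (a : Fin m → S.Fˣ) : Prop :=
  ∀ i : Fin m, g.1 (Φ.e i) - (a i : S.F) • Φ.e i ∈ Φ.W i.1

/-- `g` is diagonal with eigenvalues `a`. -/
def Dg (g : S.G) (a : Fin m → S.Fˣ) : Prop :=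
  (∀ i, g.1 (Φ.e i) = (a i : S.F) • Φ.e i) ∧ (∀ i, g.1 (Φ.f i) = (((a i ^ S.q)⁻¹ : S.Fˣ) : S.F) • Φ.f i) ∧
  ∀ w, Φ.Pp w → g.1 w = (((∏ i, a i) ^ (S.q - 1) : S.Fˣ) : S.F) • w

/-- The same flag. -/
def Sm (Ψ : Fr S m) : Prop := ∀ k, Φ.W k = Ψ.W k

def sw (π : Equiv.Perm (Fin m)) (ε : Fin m → Bool) : Fr S m where
  e i := if ε i then Φ.f (π i) else Φ.e (π i)
  f i := if ε i then Φ.e (π i) else Φ.f (π i)
  ee i j := by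
    by_cases h : i = j
    · subst h; split_ifs <;> simp [Φ.ee, Φ.ff]
    · split_ifs <;> simp [Φ.ee, Φ.ff, Φ.ef, Φ.fe, h]
  ff i j := by
    by_cases h : i = j
    · subst h; split_ifs <;> simp [Φ.ee, Φ.ff]
    · split_ifs <;> simp [Φ.ee, Φ.ff, Φ.ef, Φ.fe, h]
  ef i j := by
    by_cases h : i = j
    · subst h; split_ifs <;> simp_all [Φ.ef, Φ.fe]
    · split_ifs <;> simp_all [Φ.ee, Φ.ff, Φ.ef, Φ.fe]

def map (g : S.G) : Fr S m where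
  e i := g.1 (Φ.e i)
  f i := g.1 (Φ.f i)
  ee i j := (g.2.1 _ _).trans (Φ.ee i j)
  ff i j := (g.2.1 _ _).trans (Φ.ff i j)
  ef i j := (g.2.1 _ _).trans (Φ.ef i j)

theorem e_mem_W {i : Fin m} {k : ℕ} (h : i.1 < k) : Φ.e i ∈ Φ.W k := Submodule.subset_span ⟨i, h, rfl⟩

theorem W_mono {k l : ℕ} (h : k ≤ l) : Φ.W k ≤ Φ.W l :=
  Submodule.span_mono (Set.image_mono fun _ hi => lt_of_lt_of_le hi h)

theorem f_W {i : Fin m} {k : ℕ} (h : k ≤ i.1) {v : S.V} (hv : v ∈ Φ.W k) : S.B (Φ.f i) v = 0 := by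
  refine (Submodule.span_le (p := LinearMap.ker (S.B (Φ.f i)))).2 ?_ hv
  rintro _ ⟨j, hj, rfl⟩
  have : i ≠ j := by rintro rfl; exact absurd hj (not_lt.2 h)
  simp [Φ.fe, this]

theorem e_W (i : Fin m) {k : ℕ} {v : S.V} (hv : v ∈ Φ.W k) : S.B (Φ.e i) v = 0 := by
  refine (Submodule.span_le (p := LinearMap.ker (S.B (Φ.e i)))).2 ?_ hv
  rintro _ ⟨j, -, rfl⟩
  simp [Φ.ee]

variable {Φ}

theorem Ev.map_W {g : S.G} {a : Fin m → S.Fˣ} (h : Φ.Ev g a) (k : ℕ) {v : S.V} (hv : v ∈ Φ.W k) :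
    g.1 v ∈ Φ.W k := by
  refine (Submodule.span_le (p := (Φ.W k).comap g.1.toLinearMap)).2 ?_ hv
  rintro _ ⟨j, hj, rfl⟩
  have := (Φ.W k).add_mem (Φ.W_mono (le_of_lt hj) (h j)) ((Φ.W k).smul_mem (a j : S.F) (Φ.e_mem_W hj))
  simpa using this

theorem Ev.one : Φ.Ev 1 1 := fun i => by simp

theorem Ev.mul {g h : S.G} {a b : Fin m → S.Fˣ} (hg : Φ.Ev g a) (hh : Φ.Ev h b) : Φ.Ev (g * h) (a * b) :=
  fun i => by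
  have := (Φ.W i).add_mem (hg.map_W _ (hh i)) ((Φ.W i).smul_mem (b i : S.F) (hg i))
  convert this using 1
  simp only [Subgroup.coe_mul, LinearEquiv.mul_apply, Pi.mul_apply, Units.val_mul, map_sub, map_smul]
  module

theorem Ev.pow {g : S.G} {a : Fin m → S.Fˣ} (hg : Φ.Ev g a) (k : ℕ) : Φ.Ev (g ^ k) (a ^ k) := by
  induction k with
  | zero => simpa using Ev.one
  | succ k ih => simpa [pow_succ] using ih.mul hg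

theorem Ev.unique {g : S.G} {a b : Fin m → S.Fˣ} (ha : Φ.Ev g a) (hb : Φ.Ev g b) : a = b := by
  funext i
  have := Φ.f_W le_rfl ((Φ.W i).sub_mem (ha i) (hb i))
  simp only [map_sub, map_smul, Φ.fe, if_true, smul_eq_mul, mul_one] at this
  exact Units.ext (by linear_combination -this)

theorem Ev.inv {g : S.G} {a : Fin m → S.Fˣ} (hg : Φ.Ev g a) : Φ.Ev g⁻¹ a⁻¹ := by
  have h0 := orderOf_pos g
  have h1 : g ^ (orderOf g - 1) * g = 1 := by rw [pow_sub_one_mul h0.ne', pow_orderOf_eq_one]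
  have h2 := (hg.pow (orderOf g - 1)).mul hg
  rw [h1] at h2
  rw [← eq_inv_of_mul_eq_one_left h1, ← eq_inv_of_mul_eq_one_left (h2.unique Ev.one)]
  exact hg.pow _

theorem Dg.ev {g : S.G} {a : Fin m → S.Fˣ} (h : Φ.Dg g a) : Φ.Ev g a := fun i => by simp [h.1 i]

variable (Φ)

/-- The eigenvalue group of `K` at the flag. -/
def D (K : Subgroup S.G) : Subgroup (Fin m → S.Fˣ) where
  carrier := {a | ∃ k ∈ K, Φ.Ev k a}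
  mul_mem' := fun ⟨k, hk, h⟩ ⟨k', hk', h'⟩ => ⟨k * k', K.mul_mem hk hk', h.mul h'⟩
  one_mem' := ⟨1, K.one_mem, Ev.one⟩
  inv_mem' := fun ⟨k, hk, h⟩ => ⟨k⁻¹, K.inv_mem hk, h.inv⟩

theorem mem_D {K : Subgroup S.G} {a : Fin m → S.Fˣ} : a ∈ Φ.D K ↔ ∃ k ∈ K, Φ.Ev k a := Iff.rfl

/-- The stabiliser of the flag. -/
def Bo : Subgroup S.G where
  carrier := {g | ∃ a, Φ.Ev g a}
  mul_mem' := fun ⟨_, h⟩ ⟨_, h'⟩ => ⟨_, h.mul h'⟩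
  one_mem' := ⟨1, Ev.one⟩
  inv_mem' := fun ⟨_, h⟩ => ⟨_, h.inv⟩

theorem mem_Bo {g : S.G} : g ∈ Φ.Bo ↔ ∃ a, Φ.Ev g a := Iff.rfl

/-- The eigenvalues. -/
noncomputable def ev : Φ.Bo →* (Fin m → S.Fˣ) :=
  MonoidHom.mk' (fun g => g.2.choose) fun g h =>
    (g * h).2.choose_spec.unique (g.2.choose_spec.mul h.2.choose_spec)

theorem ev_spec (g : Φ.Bo) : Φ.Ev g.1 (Φ.ev g) := g.2.choose_spec

/-- The unipotent radical of the stabiliser of the flag. -/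
def U : Subgroup S.G where
  carrier := {g | Φ.Ev g 1}
  mul_mem' h h' := by simpa using Ev.mul h h'
  one_mem' := Ev.one
  inv_mem' h := by simpa using Ev.inv h

theorem mem_U {g : S.G} : g ∈ Φ.U ↔ Φ.Ev g 1 := Iff.rfl

end Fr

/-- A `p`-element. -/
def PE {S : HS} (u : S.G) : Prop := ∃ j, u ^ (ringChar S.F ^ j) = 1

def JobPp : Prop := ∀ (S : HS) (m : ℕ) (Φ : Fr S m), S.n / 2 = m → ∀ w, Φ.Pp w → w ≠ 0 →
  Odd S.n ∧ S.B w w ≠ 0 ∧ ∀ w', Φ.Pp w' → ∃ c : S.F, w' = c • w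

def JobFrm : Prop := ∀ (S : HS) (m : ℕ) (e : Fin m → S.V), (∀ i j, S.B (e i) (e j) = 0) →
  LinearIndependent S.F e → ∃ Φ : Fr S m, Φ.e = e

def JobExt : Prop := ∀ (S : HS) (u : S.G) (R : Submodule S.F S.V), PE u → (∀ x ∈ R, ∀ y ∈ R, S.B x y = 0) →
  (∀ x ∈ R, u.1 x ∈ R) → finrank S.F R < S.n / 2 →
  ∃ y, y ∉ R ∧ S.B y y = 0 ∧ (∀ x ∈ R, S.B x y = 0) ∧ u.1 y - y ∈ R

def JobCh : Prop := ∀ (S : HS) (m : ℕ) (u : S.G), S.n / 2 = m → PE u → ∀ (k : ℕ) (hk : k ≤ m) (x : Fin k → S.V),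
  (∀ i j, S.B (x i) (x j) = 0) → LinearIndependent S.F x →
  (∀ i, u.1 (x i) - x i ∈ Submodule.span S.F (x '' {j | j < i})) →
  ∃ Φ : Fr S m, (∀ i, Φ.e (Fin.castLE hk i) = x i) ∧ Φ.Ev u 1

def JobUp : Prop := ∀ (S : HS) (m : ℕ) (Φ : Fr S m), S.n / 2 = m → ∀ u, Φ.Ev u 1 → PE u

def JobDg : Prop := ∀ (S : HS) (m : ℕ) (Φ : Fr S m), S.n / 2 = m →
  (∀ a ∈ Tor S.F m S.q (Odd S.n), ∃ t, Φ.Dg t a) ∧
  ∀ (t : S.G) (a : Fin m → S.Fˣ), (∀ i, t.1 (Φ.e i) = (a i : S.F) • Φ.e i) →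
    (∀ i, t.1 (Φ.f i) = (((a i ^ S.q)⁻¹ : S.Fˣ) : S.F) • Φ.f i) → Φ.Dg t a

def JobEt : Prop := ∀ (S : HS) (m : ℕ) (Φ : Fr S m), S.n / 2 = m → ∀ g a, Φ.Ev g a → a ∈ Tor S.F m S.q (Odd S.n)

def JobTr : Prop := ∀ (S : HS) (m : ℕ) (Φ Ψ : Fr S m), S.n / 2 = m → 0 < m →
  ∃ (g : S.G) (c : Fin m → S.Fˣ), ∀ i, g.1 (Φ.e i) = (c i : S.F) • Ψ.e i

/-- Two chambers lie in a common apartment. -/
def JobCA : Prop := ∀ (m : ℕ) (S : HS) (Φ Φ' : Fr S m), S.n / 2 = m →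
  ∃ (Ψ : Fr S m) (π : Equiv.Perm (Fin m)) (ε : Fin m → Bool), Ψ.Sm Φ ∧ (Ψ.sw π ε).Sm Φ'

def JobMk : Prop := ∀ (S : HS) (m : ℕ) (Φ : Fr S m), S.n / 2 = m → ∀ l l' : (Fin m → S.Fˣ) →* ℂˣ,
  Mk Φ.Bo (l.comp Φ.ev) (l'.comp Φ.ev) → Cj S.q (Odd S.n) l l'

/-- A frame adapted to `K`. -/
def JobFD : Prop := ∀ (S : HS) (m : ℕ) (Φ : Fr S m) (K : Subgroup S.G), S.n / 2 = m →
  ∃ Ψ : Fr S m, Ψ.Sm Φ ∧ ∀ a ∈ Φ.D K, ∃ t ∈ K, Ψ.Dg t a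

def JobCW : Prop := ∀ (S : HS) (M : AddSubgroup S.V), S.q ^ 2 < Nat.card M → ∃ v ∈ M, S.Iso v

/-- A polarity of a finite projective plane has an absolute point. -/
def JobBa : Prop := ∀ (F V : Type) [Field F] [Finite F] [AddCommGroup V] [Module F V] (P : Submodule F V)
  (H : V → Submodule F V), finrank F P = 3 →
  (∀ x ∈ P, x ≠ 0 → x ∉ H x ∧ ∀ v ∈ P, ∃ s : F, v - s • x ∈ H x) →
  (∀ x ∈ P, ∀ y ∈ P, x ≠ 0 → y ≠ 0 → y ∈ H x → x ∈ H y) → False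

/-! ### The subgroup -/

structure KS extends HS where
  r : ℕ
  hr : toHS.n / 2 = r + 3
  hq : 3 ≤ q
  K : Subgroup toHS.G

namespace KS

variable (S : KS)

abbrev Fm : Type := Fr S.toHS (S.r + 3)

/-- A basis of a totally isotropic line. -/
def TI (x y : S.V) : Prop := S.Iso x ∧ S.B y y = 0 ∧ S.B x y = 0 ∧ ∀ c : S.F, y ≠ c • x

/-- A basis of a totally isotropic plane. -/
def TI3 (x y z : S.V) : Prop :=
  S.TI x y ∧ S.B z z = 0 ∧ S.B x z = 0 ∧ S.B y z = 0 ∧ ∀ c d : S.F, z ≠ c • x + d • y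

/-- Centres of full transvection groups. -/
def O (x : S.V) : Prop := S.Iso x ∧ S.Zs x ≤ S.K

def NF : Prop := ∀ x, ¬ S.O x

def Rel (x y : S.V) : Prop := ∃ k ∈ S.K, ∃ c : S.Fˣ, k.1 x = (c : S.F) • y

/-- At most two orbits on isotropic points. -/
def O2 : Prop := ∀ x y z, S.Iso x → S.Iso y → S.Iso z → S.Rel x y ∨ S.Rel x z ∨ S.Rel y z

def CT : Prop := ∀ Φ Ψ : S.Fm, ∃ k ∈ S.K, (Φ.map k).Sm Ψ

def AG : Prop := ∀ Φ : S.Fm, Good S.q (Odd S.n) (Φ.D S.K)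

def G1 : Prop := ∀ x y, S.TI x y → ∃ h ∈ S.K, ∃ (a b : S.Fˣ) (c : S.F),
  h.1 x = (a : S.F) • x ∧ h.1 y = (b : S.F) • y + c • x ∧ Gn ((a / b : S.Fˣ) : S.F)

def G2 : Prop := ∀ x y, S.TI x y → ∃ h ∈ S.K, ∃ (a b : S.Fˣ) (c : S.F),
  h.1 x = (a : S.F) • x ∧ h.1 (y + c • x) = (b : S.F) • (y + c • x) ∧ Gn ((a * b ^ S.q : S.Fˣ) : S.F)

def G3 : Prop := ∀ x y z, S.TI3 x y z → ∃ h ∈ S.K, ∃ (a b : S.Fˣ) (c : S.F),
  h.1 x = (a : S.F) • x ∧ h.1 y = (b : S.F) • y + c • x ∧ a ≠ b ∧ h.1 z ∈ Submodule.span S.F {x, y, z}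

def CT2 : Prop := ∀ x y x' y', S.TI x y → S.TI x' y' → ∃ k ∈ S.K, ∃ (a b : S.Fˣ) (c : S.F),
  k.1 x = (a : S.F) • x' ∧ k.1 y = (b : S.F) • y' + c • x'

def HR : Prop := ∀ x, S.Iso x → ∀ c : S.Fˣ, c ^ (S.q - 1) = 1 → ∃ h ∈ S.K, ∃ f, S.B x f ≠ 0 ∧
  h.1 x = (c : S.F) • x ∧ ∀ v, S.B x v = 0 → S.B f v = 0 → h.1 v = v

def RA : Prop := ∀ x y, S.TI x y → ∀ g ∈ S.K, g ∈ S.As x y → ∃ z, ∀ v, ∃ s : S.F, g.1 v = v + s • z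

def RB : Prop := ∀ x, S.Iso x → ∀ g ∈ S.K, g ∈ S.Qs x → ∀ v, S.B x v = 0 → g.1 v = v

def RC : Prop := ∀ k ∈ S.K, ∀ x y, S.Iso x → S.B y y = 0 → S.B x y = 0 → k.1 x = x → k.1 y ≠ y + x

def Sp : Prop := Submodule.span S.F {x | S.O x} = ⊤

def Conn : Prop := ∀ P : S.V → Prop, (∃ x, S.O x ∧ P x) →
  (∀ x y, S.O x → S.O y → P x → S.B x y ≠ 0 → P y) → ∀ y, S.O y → P y

/-- A real form meeting every point of `O`. -/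
def RF (M : AddSubgroup S.V) : Prop :=
  (∀ c : S.F, c ^ S.q = c → ∀ v ∈ M, c • v ∈ M) ∧ (∀ v ∈ M, ∀ w ∈ M, S.B v w + S.B v w ^ S.q = 0) ∧
  ∀ z, S.O z → ∃ s : S.F, s ≠ 0 ∧ s • z ∈ M

end KS

def JobP3 : Prop := ∀ S : KS, Rk3 S.K → S.O2 ∨ S.K.index * (S.q ^ 2 - 1) = numIso S.q S.n

def JobM : Prop := ∀ (S : KS) (Φ : S.Fm), Rk3 S.K →
  H3 S.q (Odd S.n) (Φ.D S.K) ∧ (Two S.q (Odd S.n) (Φ.D S.K) → S.CT)

def JobGl1 : Prop := ∀ S : KS, S.AG → S.G1 ∧ S.G2 ∧ S.G3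

def JobGl2 : Prop := ∀ S : KS, S.CT → S.CT2 ∧ (∀ Φ : S.Fm, Inv S.q (Φ.D S.K)) ∧
  ∀ Φ : S.Fm, Sing S.q (Φ.D S.K) → S.HR

def JobRa : Prop := ∀ S : KS, S.NF → S.G2 → S.RA

def JobRb : Prop := ∀ S : KS, S.NF → S.G1 → S.RA → S.RB

/-- The commutator step of `RC`. -/
def JobRc1 : Prop := ∀ (S : KS) (Φ : S.Fm), S.RB → Sep S.q (Odd S.n) (Φ.D S.K) →
  (∀ a ∈ Φ.D S.K, ∃ t ∈ S.K, Φ.Dg t a) → ∀ g ∈ S.K, Φ.Ev g 1 →
  (∀ t ∈ S.K, ∀ a, Φ.Dg t a → a 0 = a 1 → g * t = t * g) → g.1 (Φ.e 1) ≠ Φ.e 1 →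
  ∀ a ∈ Φ.D S.K, (a 0 / a 1) ^ (S.q - 1) = 1

/-- The coprime action step of `RC`. -/
def JobRc2 : Prop := ∀ (S : KS) (Φ : S.Fm), ∀ u ∈ S.K, Φ.Ev u 1 → u.1 (Φ.e 1) ≠ Φ.e 1 →
  ∃ g ∈ S.K, Φ.Ev g 1 ∧ (∀ t ∈ S.K, ∀ a, Φ.Dg t a → a 0 = a 1 → g * t = t * g) ∧ g.1 (Φ.e 1) ≠ Φ.e 1

def JobRc : Prop := ∀ S : KS, S.RB → S.AG → S.RC

def JobPo : Prop := ∀ S : KS, S.G3 → S.RC → False

def JobBC1 : Prop := ∀ S : KS, S.NF → S.CT2 → S.HR → S.RB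

def JobBC2 : Prop := ∀ S : KS, S.HR → S.RB → False

def JobB1a : Prop := ∀ S : KS, S.O2 → Four S.K → ∀ R : Submodule S.F S.V, R ≠ ⊥ →
  (∀ x ∈ R, ∀ y ∈ R, S.B x y = 0) → (∀ k ∈ S.K, ∀ x ∈ R, k.1 x ∈ R) → False

def JobB1b : Prop := ∀ S : KS, Four S.K → ∀ v, S.B v v ≠ 0 → (∀ k ∈ S.K, ∃ c : S.F, k.1 v = c • v) → False

def JobB1 : Prop := ∀ S : KS, S.O2 → Four S.K → (∃ x, S.O x) → S.Sp

def JobConn : Prop := ∀ S : KS, S.O2 → S.Sp → S.Conn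

/-- A nondegenerate plane spanned by `O`: `K` acts on it as `SU_3`. -/
def JobB2a : Prop := ∀ (S : KS) (x y z : S.V), S.O x → S.O y → S.O z →
  S.B x y * S.B y z * S.B z x + (S.B x y * S.B y z * S.B z x) ^ S.q ≠ 0 →
  ∃ E : Submodule S.F S.V, finrank S.F E = 3 ∧ Disjoint E (perp S.B E) ∧ (∀ a ∈ E, S.Iso a → S.O a) ∧
    ∀ a ∈ E, ∀ a' ∈ E, a ≠ 0 → a' ≠ 0 → S.B a a = S.B a' a' →
      ∃ k ∈ S.K, k.1 a = a' ∧ ∀ w ∈ perp S.B E, k.1 w = w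

def JobB2b : Prop := ∀ (S : KS) (E : Submodule S.F S.V), S.Sp → S.Conn → finrank S.F E = 3 →
  Disjoint E (perp S.B E) → (∀ a ∈ E, S.Iso a → S.O a) →
  (∀ a ∈ E, ∀ a' ∈ E, a ≠ 0 → a' ≠ 0 → S.B a a = S.B a' a' →
    ∃ k ∈ S.K, k.1 a = a' ∧ ∀ w ∈ perp S.B E, k.1 w = w) → ∀ v, S.Iso v → S.O v

def JobB3a : Prop := ∀ S : KS, S.Sp → S.Conn →
  (∀ x y z, S.O x → S.O y → S.O z → S.B x y * S.B y z * S.B z x + (S.B x y * S.B y z * S.B z x) ^ S.q = 0) →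
  ∃ M, S.RF M ∧ ∀ M', S.RF M' → ∃ s : S.F, s ≠ 0 ∧ ∀ v ∈ M, s • v ∈ M'

def JobB3b : Prop := ∀ (S : KS) (M : AddSubgroup S.V), S.Sp → S.RF M →
  (∀ M', S.RF M' → ∃ s : S.F, s ≠ 0 ∧ ∀ v ∈ M, s • v ∈ M') → ¬ S.G1

def JobMain : Prop := ∀ S : KS, Rk3 S.K → S.K.index * (S.q ^ 2 - 1) = numIso S.q S.n

end H53.KU
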