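import Cfsg.Agent.H53.CLay
import Cfsg.Agent.H53.GUClass
import Cfsg.Agent.H57.SLCard

/-! Bounds for the class numbers of `GL`, `SL`, `PSL` and `SU`. -/

set_option autoImplicit false

open Polynomial Finset Module Matrix

namespace H53

section num
variable {α e n : ℕ}

theorem SB_split (a α q e : ℕ) (hn : 0 < n) : SB a α q e n = (if e ∣ n then PC α q n (n / e) else 0) +
    ∑ d ∈ (a.gcd n).divisors.erase 1, (d ^ 2 - 1) * if e * d ∣ n then PC α q (n / d) (n / (e * d)) else 0 := by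
  rw [SB, ← add_sum_erase _ _ (Nat.one_mem_divisors.2 (Nat.gcd_pos_of_pos_right a hn).ne')]
  refine congrArg₂ _ (by simp) (sum_congr rfl fun d hd => ?_)
  have h1 := Nat.pos_of_mem_divisors (mem_of_mem_erase hd)
  have h2 := ne_of_mem_erase hd
  rw [max_eq_right (Nat.le_sub_of_add_le (by nlinarith [show 2 ≤ d by omega]))]

theorem card_erase_le {a : ℕ} (ha : 0 < a) : #((a.gcd n).divisors.erase 1) ≤ a - 1 :=
  (card_le_card (t := Icc 2 a) fun d hd => by
    have h1 := Nat.pos_of_mem_divisors (mem_of_mem_erase hd)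
    have h2 := ne_of_mem_erase hd
    exact mem_Icc.2 ⟨by omega, Nat.le_of_dvd ha ((Nat.dvd_of_mem_divisors (mem_of_mem_erase hd)).trans
      (Nat.gcd_dvd_left _ _))⟩).trans_eq (by simp)

theorem sum_erase_le {a : ℕ} (ha : 0 < a) (hn : 0 < n) (f : ℕ → ℕ) :
    ∑ d ∈ (a.gcd n).divisors.erase 1, f d ≤ ∑ d ∈ n.divisors.erase 1, if d ≤ a then f d else 0 := by
  rw [← sum_filter]
  refine sum_le_sum_of_subset fun d hd => ?_
  have h := Nat.dvd_of_mem_divisors (mem_of_mem_erase hd)
  exact mem_filter.2 ⟨mem_erase.2 ⟨ne_of_mem_erase hd, Nat.mem_divisors.2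
    ⟨h.trans (Nat.gcd_dvd_right _ _), hn.ne'⟩⟩, Nat.le_of_dvd ha (h.trans (Nat.gcd_dvd_left _ _))⟩

theorem PC_gl' {J N : ℕ} (hJ : 0 < J) (hN : 0 < N) : PC α (α + 1) J N + 1 ≤ (α + 1) ^ N :=
  PC_gl α.succ_pos hJ hN

theorem ite_PC_le {d m : ℕ} (hn : 0 < n) (h : n / (e * d) ≤ m) :
    (if e * d ∣ n then PC α (α + 1) (n / d) (n / (e * d)) else 0) ≤ (α + 1) ^ m := by
  split_ifs with h1
  · have h2 := Nat.pos_of_dvd_of_pos h1 hn
    exact (Nat.le_succ _).trans ((PC_gl' (Nat.div_pos (Nat.le_of_dvd hn (dvd_of_mul_left_dvd h1))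
      (Nat.pos_of_mul_pos_left h2)) (Nat.div_pos (Nat.le_of_dvd hn h1) h2)).trans
        (Nat.pow_le_pow_right α.succ_pos h))
  · simp

theorem rest_le (hα : 0 < α) (he : 0 < e) (hn : 0 < n) : ∑ d ∈ (α.gcd n).divisors.erase 1, (d ^ 2 - 1) *
    (if e * d ∣ n then PC α (α + 1) (n / d) (n / (e * d)) else 0) ≤
      (α - 1) * (α + 1) ^ (2 + n / (e * 2)) := by
  refine (sum_le_card_nsmul _ _ _ fun d hd => ?_).trans (Nat.mul_le_mul_right _ (card_erase_le hα))
  have h1 := Nat.pos_of_mem_divisors (mem_of_mem_erase hd)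
  have h2 := ne_of_mem_erase hd
  have h3 := Nat.le_of_dvd hα ((Nat.dvd_of_mem_divisors (mem_of_mem_erase hd)).trans
    (Nat.gcd_dvd_left _ _))
  rw [pow_add]
  exact Nat.mul_le_mul ((Nat.sub_le _ _).trans (Nat.pow_le_pow_left (by omega) _))
    (ite_PC_le hn (Nat.div_le_div_left (Nat.mul_le_mul_left _ (by omega)) (by omega)))

theorem SB_one_two (hα : 0 < α) :
    SB α α (α + 1) 1 2 ≤ α * (α + 2 + if 2 ≤ α then 3 else 0) := by
  have h1 := PC_gl' (α := α) two_pos two_pos
  have h2 := PC_gl' (α := α) one_pos one_pos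
  rw [SB_split _ _ _ _ two_pos]
  refine (Nat.add_le_add_left (sum_erase_le hα two_pos _) _).trans ?_
  rw [show (Nat.divisors 2).erase 1 = {2} by decide]
  norm_num
  split_ifs <;> nlinarith

theorem SB_one (hα : 0 < α) (hn : 3 ≤ n) :
    SB α α (α + 1) 1 n ≤ α * ((α + 1) ^ (n - 1) + 3 * (α + 1) ^ (n - 2)) := by
  have h0 : 0 < n := by omega
  have h := fun N (hN : 0 < N) => PC_gl' (α := α) hN hN
  rw [SB_split _ _ _ _ h0]
  obtain ⟨β, rfl⟩ := Nat.exists_eq_add_one_of_ne_zero hα.ne'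
  rcases le_or_gt 7 n with h7 | h7
  · have h1 := (rest_le hα one_pos h0).trans (Nat.mul_le_mul_left _
      (Nat.pow_le_pow_right (by omega) (show _ ≤ n - 2 by omega)))
    have h2 := h n h0
    obtain ⟨m, rfl⟩ := Nat.exists_eq_add_of_le' (show 2 ≤ n by omega)
    simp only [one_dvd, if_true, Nat.div_one, Nat.add_sub_cancel, show m + 2 - 1 = m + 1 from rfl,
      pow_succ _ (m + 1), pow_succ _ m] at h1 h2 ⊢
    nlinarith [Nat.zero_le (β * (β + 1 + 1) ^ m), Nat.zero_le ((β + 1 + 1) ^ m)]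
  refine (Nat.add_le_add_left (sum_erase_le hα h0 _) _).trans ?_
  have h1 := h 1 one_pos
  have h2 := h 2 two_pos
  have h3 := h 3 three_pos
  have h4 := h n h0
  have h5 := PC_gl_three (q := β + 1 + 1) (by omega)
  interval_cases n
  · rw [show (Nat.divisors 3).erase 1 = {3} by decide]
    norm_num at h5 ⊢
    split_ifs <;> nlinarith
  · rw [show (Nat.divisors 4).erase 1 = {2, 4} by decide]
    norm_num
    split_ifs <;> nlinarith [Nat.zero_le (β ^ 3), Nat.zero_le (β ^ 2)]
  · rw [show (Nat.divisors 5).erase 1 = {5} by decide]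
    norm_num
    split_ifs <;> nlinarith [Nat.zero_le (β ^ 4), Nat.zero_le (β ^ 3), Nat.zero_le (β ^ 2)]
  · rw [show (Nat.divisors 6).erase 1 = {2, 3, 6} by decide]
    norm_num
    split_ifs <;> nlinarith [Nat.zero_le (β ^ 5), Nat.zero_le (β ^ 4), Nat.zero_le (β ^ 3),
      Nat.zero_le (β ^ 2)]

theorem SB_two_two (he : 2 ≤ e) : SB α α (α + 1) e 2 ≤ α := by
  rw [SB_split _ _ _ _ two_pos, sum_eq_zero fun d hd => ?_]
  · split_ifs with h
    · obtain rfl := le_antisymm he (Nat.le_of_dvd two_pos h)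
      simpa using PC_gl' (α := α) two_pos one_pos
    · simp
  · have h1 := Nat.pos_of_mem_divisors (mem_of_mem_erase hd)
    have h2 := ne_of_mem_erase hd
    rw [if_neg fun h => by nlinarith [Nat.le_of_dvd two_pos h, show 2 ≤ d by omega], mul_zero]

theorem SB_two (hα : 0 < α) (he : 2 ≤ e) (hn : 3 ≤ n) :
    SB α α (α + 1) e n ≤ 2 * (α + 1) ^ (n - 2) := by
  have h0 : 0 < n := by omega
  rw [SB_split _ _ _ _ h0, two_mul]
  refine Nat.add_le_add (by
    simpa using ite_PC_le (α := α) (e := e) (d := 1) (m := n - 2) h0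
      ((Nat.div_le_div_left (show 2 ≤ e * 1 by omega) two_pos).trans (by omega))) ?_
  rcases le_or_gt 6 n with h6 | h6
  · refine (rest_le hα (by omega) h0).trans ((Nat.mul_le_mul_right _ (show _ ≤ α + 1 by omega)).trans ?_)
    rw [← pow_succ']
    have := Nat.div_le_div_left (a := n) (show 4 ≤ e * 2 by omega) four_pos
    exact Nat.pow_le_pow_right α.succ_pos (by omega)
  refine (sum_le_sum_of_ne_zero (t := {2}) fun d hd h => ?_).trans ?_
  · have h1 := Nat.pos_of_mem_divisors (mem_of_mem_erase hd)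
    have h2 := ne_of_mem_erase hd
    have h3 := Nat.le_of_dvd h0 (of_not_not fun h4 => h (by rw [if_neg h4, mul_zero]) : e * d ∣ n)
    exact mem_singleton.2 (by nlinarith [show 2 ≤ d by omega])
  rw [sum_singleton]
  split_ifs with h
  · have h3 := Nat.le_of_dvd h0 h
    obtain rfl : e = 2 := by omega
    obtain rfl : n = 4 := by omega
    have := PC_gl' (α := α) two_pos one_pos
    norm_num
    nlinarith
  · simp

theorem ev_RS {q : ℕ} {y : ℝ} (hy : 0 < y) (he : 0 < e) (h : q < y ^ e) :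
    Ev y (RS α q e) (1 + α * (1 / y ^ e) * (1 / (1 - q / y ^ e))) := by
  rw [RS_eq he]
  exact (ev_one hy).add (((ev_C hy α).mul hy (ev_X_pow hy e)).mul hy (ev_GS hy he h))

/-- the constant for the unitary groups -/
noncomputable def CU (y : ℝ) (J : ℕ) : ℝ := ∏ k ∈ Icc 2 J, (1 + 1 / y ^ k) / (1 - y / y ^ k)

theorem CU_le {y c K : ℝ} (hy : 2 ≤ y) (hc : c + 1 ≤ (c - 1) * y) (hK : 0 ≤ K) {I J : ℕ} (hI : 1 ≤ I)
    (h : CU y I ≤ K * (1 - c / y ^ I)) (hJ : I ≤ J) : CU y J ≤ K * (1 - c / y ^ J) := by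
  induction J, hJ using Nat.le_induction with
  | base => exact h
  | succ J hJ ih =>
    have h1 : 1 < y ^ J := one_lt_pow₀ (by linarith) (by omega)
    have h2 : 0 < 1 - y / y ^ (J + 1) := by
      rw [pow_succ, sub_pos, div_lt_one (by positivity)]; nlinarith
    rw [CU, prod_Icc_succ_top (by omega)]
    refine (mul_le_mul_of_nonneg_right ih (by positivity)).trans ?_
    rw [mul_assoc, ← mul_div_assoc]
    refine mul_le_mul_of_nonneg_left ((div_le_iff₀ h2).2 ?_) hK
    have h3 : y / y ^ (J + 1) = 1 / y ^ J := by rw [pow_succ]; field_simp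
    have h4 : ∀ a, a / y ^ (J + 1) = a * (1 / y ^ J) * (1 / y) := fun a => by
      rw [pow_succ]; field_simp
    have h5 : (c + 1) * (1 / y) ≤ c - 1 := by rwa [mul_one_div, div_le_iff₀ (by positivity)]
    rw [h3, h4, h4, div_eq_mul_one_div c]
    have h6 : 0 < 1 / y ^ J := by positivity
    have h7 : 0 < 1 / y := by positivity
    have h8 : 0 ≤ c := by nlinarith
    generalize 1 / y ^ J = x at *
    generalize 1 / y = z at *
    nlinarith [mul_le_mul_of_nonneg_left h5 h6.le, mul_nonneg h8 (mul_pos (mul_pos h6 h6) h7).le]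

theorem PC_gu {q : ℕ} (hq : 2 ≤ q) {N : ℕ} (hN : 0 < N) :
    (PC (q + 1) q N N : ℝ) ≤ (q + 1) * (CU q N * q ^ (N - 1)) := by
  have hy : (2 : ℝ) ≤ q := by exact_mod_cast hq
  have h0 : (0 : ℝ) < q := by positivity
  have h1 : Bd q (RS (q + 1) q 1) ((q + 1) / q) := fun N => by
    rcases N with _ | N
    · simp [RS, le_div_iff₀ h0]
    · simp only [RS, PowerSeries.coeff_mk, N.succ_ne_zero, if_false, one_dvd, if_true, Nat.div_one,
        Nat.add_sub_cancel]
      push_cast
      exact le_of_eq (by rw [pow_succ]; field_simp)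
  have h2 := h1.mul h0 (Ev.prod h0 (s := Icc 2 N) (ρ := fun k => (1 + 1 / q ^ k) / (1 - q / q ^ k))
    fun k hk => by
      have h3 : (q : ℝ) < q ^ k := lt_self_pow₀ (by linarith) (mem_Icc.1 hk).1
      refine (ev_RS (α := q + 1) h0 (by linarith [(mem_Icc.1 hk).1]) h3).mono (le_of_eq ?_)
      have h4 : (q : ℝ) ^ k - q ≠ 0 := (sub_pos.2 h3).ne'
      push_cast
      field_simp
      ring) N
  obtain ⟨N, rfl⟩ := Nat.exists_eq_add_one_of_ne_zero hN.ne'
  rw [PC, ← insert_Icc_succ_left_eq_Icc (by omega), prod_insert (by simp)]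
  refine h2.trans_eq ?_
  rw [CU, Nat.add_sub_cancel, pow_succ]
  field_simp

theorem SB_gu {q : ℕ} (hq : 2 ≤ q) (hn : 2 ≤ n) :
    100 * SB (q + 1) (q + 1) q 1 n ≤ (q + 1) * (826 * q ^ (n - 1)) := by
  have h0 : 0 < n := by omega
  rw [SB_split _ _ _ _ h0]
  simp only [one_dvd, if_true, Nat.div_one, one_mul]
  rcases hq.lt_or_eq with hq | rfl
  · have hy : (3 : ℝ) ≤ q := by exact_mod_cast hq
    have h1 : ∀ N, 0 < N → PC (q + 1) q N N ≤ (q + 1) * (3 * q ^ (N - 1)) := fun N hN => by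
      have h2 := CU_le (y := q) (c := 2) (K := 3) (by linarith) (by linarith) (by norm_num) le_rfl
        (by rw [CU, pow_one]; simp; field_simp; linarith) hN
      have h3 : (0 : ℝ) ≤ 2 / q ^ N := by positivity
      have := (PC_gu hq.le hN).trans (show _ ≤ ((q : ℝ) + 1) * (3 * q ^ (N - 1)) by gcongr; linarith)
      exact_mod_cast this
    have h2 : ∑ d ∈ ((q + 1).gcd n).divisors.erase 1, (d ^ 2 - 1) * (if d ∣ n then
        PC (q + 1) q (n / d) (n / d) else 0) ≤ (q + 1) * (5 * q ^ (n - 1)) := by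
      rcases le_or_gt 5 n with h5 | h5
      · refine (sum_le_card_nsmul _ _ ((q + 1) * (5 * q ^ (n - 2))) fun d hd => ?_).trans ?_
        · have h2 := Nat.pos_of_mem_divisors (mem_of_mem_erase hd)
          have h3 := ne_of_mem_erase hd
          have h4 := Nat.dvd_of_mem_divisors (mem_of_mem_erase hd)
          have h6 := Nat.le_of_dvd q.succ_pos (h4.trans (Nat.gcd_dvd_left _ _))
          have h7 := h4.trans (Nat.gcd_dvd_right _ _)
          have h8 := Nat.div_le_div_left (a := n) (show 2 ≤ d by omega) two_pos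
          have h9 : (d ^ 2 - 1) * 3 ≤ 5 * q ^ 2 := by
            have := Nat.pow_le_pow_left h6 2
            have : d ^ 2 - 1 ≤ q ^ 2 + 2 * q := Nat.sub_le_of_le_add (this.trans_eq (by simp; ring))
            nlinarith
          rw [if_pos h7]
          calc _ ≤ (d ^ 2 - 1) * ((q + 1) * (3 * q ^ (n - 4))) := Nat.mul_le_mul_left _
                ((h1 _ (Nat.div_pos (Nat.le_of_dvd h0 h7) h2)).trans (Nat.mul_le_mul_left _
                  (Nat.mul_le_mul_left _ (Nat.pow_le_pow_right (by omega) (by omega)))))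
            _ = (q + 1) * ((d ^ 2 - 1) * 3 * q ^ (n - 4)) := by ring
            _ ≤ (q + 1) * (5 * q ^ 2 * q ^ (n - 4)) := by gcongr
            _ = _ := by rw [mul_assoc, ← pow_add]; congr 3; omega
        · refine (Nat.mul_le_mul_right _ (card_erase_le q.succ_pos)).trans_eq ?_
          rw [show n - 1 = n - 2 + 1 by omega, pow_succ, Nat.succ_sub_one]; ring
      refine (sum_erase_le q.succ_pos h0 _).trans ?_
      have h2 := h1 1 one_pos
      have h3 := h1 2 two_pos
      interval_cases n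
      · rw [show (Nat.divisors 2).erase 1 = {2} by decide]
        norm_num at h2 ⊢
        split_ifs <;> nlinarith
      · rw [show (Nat.divisors 3).erase 1 = {3} by decide]
        norm_num at h2 ⊢
        split_ifs <;> nlinarith
      · rw [show (Nat.divisors 4).erase 1 = {2, 4} by decide]
        norm_num at h2 h3 ⊢
        have : 9 * q + 45 ≤ 5 * q ^ 3 := by nlinarith [Nat.pow_le_pow_left hq 2]
        split_ifs <;> nlinarith
    nlinarith [h1 n h0, Nat.zero_le ((q + 1) * q ^ (n - 1))]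
  have h1 : CU 2 1 = 1 := by simp [CU]
  have h2 : CU 2 2 = 5 / 2 := by simp [CU]; norm_num
  have h3 : ∀ N, 3 ≤ N → CU 2 N ≤ 6 := fun N hN => by
    have h4 := CU_le (y := 2) (c := 3) (K := 6) (I := 3) le_rfl (by norm_num) (by norm_num) (by norm_num)
      (by rw [CU, prod_Icc_succ_top (by norm_num)]; simp; norm_num) hN
    have h5 : (0 : ℝ) ≤ 3 / 2 ^ N := by positivity
    linarith
  have h4 : ∀ N, 0 < N → ∀ K : ℕ, CU 2 N ≤ K → PC 3 2 N N ≤ 3 * (K * 2 ^ (N - 1)) := fun N hN K h => by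
    have := (PC_gu le_rfl hN).trans (show _ ≤ (2 + 1 : ℝ) * (K * 2 ^ (N - 1)) by
      push_cast; gcongr)
    exact_mod_cast this
  have h5 := h4 n h0 6 (by
    rcases hn.lt_or_eq with h | rfl
    · exact_mod_cast h3 n h
    · rw [h2]; norm_num)
  have h6 : ∑ d ∈ ((2 + 1).gcd n).divisors.erase 1, (d ^ 2 - 1) * (if d ∣ n then
      PC 3 2 (n / d) (n / d) else 0) ≤ 3 * (2 * 2 ^ (n - 1)) := by
    refine (sum_le_sum_of_subset (t := {3}) fun d hd => ?_).trans ?_
    · have := (Nat.dvd_prime Nat.prime_three).1 ((Nat.dvd_of_mem_divisors (mem_of_mem_erase hd)).trans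
        (Nat.gcd_dvd_left _ _))
      exact mem_singleton.2 (this.resolve_left (ne_of_mem_erase hd))
    rw [sum_singleton]
    split_ifs with h
    · obtain ⟨m, rfl⟩ := h
      rw [Nat.mul_div_cancel_left _ three_pos]
      rcases lt_trichotomy m 2 with h | rfl | h
      · obtain rfl : m = 1 := by omega
        have := h4 1 one_pos 1 (by simp [h1])
        omega
      · have := h4 2 two_pos 3 (by rw [h2]; norm_num)
        omega
      · have := h4 m (by omega) 6 (by exact_mod_cast h3 m h)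
        have h7 := Nat.pow_le_pow_right two_pos (show m - 1 + 6 ≤ 3 * m - 1 by omega)
        rw [pow_add] at h7
        omega
    · simp
  rw [show 2 + 1 = 3 from rfl] at *
  omega

end num

section groups
variable {G : Type*} [Group G]

/-- a representative of a conjugacy class -/
noncomputable def rep (C : ConjClasses G) : G := (ConjClasses.mk_surjective C).choose

theorem mk_rep (C : ConjClasses G) : ConjClasses.mk (rep C) = C :=
  (ConjClasses.mk_surjective C).choose_spec

theorem isConj_rep (g : G) : IsConj (rep (ConjClasses.mk g)) g :=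
  ConjClasses.mk_eq_mk_iff_isConj.1 (mk_rep _)

theorem card_classes_le_mul [Finite G] (Z : Subgroup G) (hZ : Z ≤ Subgroup.center G) [Z.Normal] :
    Nat.card (ConjClasses G) ≤ Nat.card Z * Nat.card (ConjClasses (G ⧸ Z)) := by
  rw [← Nat.card_prod]
  refine Nat.card_le_card_of_surjective (fun p => ConjClasses.mk (p.1.1 * (rep p.2).out)) fun C => ?_
  obtain ⟨g, rfl⟩ := ConjClasses.mk_surjective C
  obtain ⟨c, hc⟩ := isConj_iff.1 (isConj_rep (g : G ⧸ Z))
  obtain ⟨c, rfl⟩ := QuotientGroup.mk_surjective c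
  rw [← QuotientGroup.out_eq' (rep _), ← QuotientGroup.mk_inv, ← QuotientGroup.mk_mul,
    ← QuotientGroup.mk_mul, QuotientGroup.eq] at hc
  refine ⟨(⟨_, hc⟩, .mk g), ConjClasses.mk_eq_mk_iff_isConj.2 (isConj_iff.2 ⟨c, ?_⟩)⟩
  have h := Subgroup.mem_center_iff.1 (hZ hc)
  simp only at h ⊢
  rw [← mul_assoc, h c, mul_assoc _ c, mul_assoc, ← h]
  group

theorem card_mul_classes_le [Finite G] (Z : Subgroup G) (hZ : Z ≤ Subgroup.center G) [Z.Normal]
    [Fintype Z] : Nat.card Z * Nat.card (ConjClasses (G ⧸ Z)) ≤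
      ∑ z : Z, Nat.card {C : ConjClasses G // IsConj (z.1 * rep C) (rep C)} := by
  classical
  have h1 : ∀ (z : Z) {a b : G}, IsConj a b → IsConj (z.1 * a) (z.1 * b) := fun z a b h => by
    obtain ⟨c, rfl⟩ := isConj_iff.1 h
    exact isConj_iff.2 ⟨c, by simp only [← mul_assoc, Subgroup.mem_center_iff.1 (hZ z.2) c]⟩
  let _ : MulAction Z (ConjClasses G) :=
    { smul := fun z => Quotient.map (z.1 * ·) fun _ _ => h1 z
      one_smul := fun C => Quotient.inductionOn C fun g => congrArg ConjClasses.mk (one_mul g)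
      mul_smul := fun a b C => Quotient.inductionOn C fun g => congrArg ConjClasses.mk (mul_assoc _ _ g) }
  have h2 : ∀ (z : Z) (g : G), z • ConjClasses.mk g = ConjClasses.mk (z.1 * g) := fun _ _ => rfl
  have := Fintype.ofFinite (ConjClasses G)
  have := Fintype.ofFinite (MulAction.orbitRel.Quotient Z (ConjClasses G))
  have h3 := MulAction.sum_card_fixedBy_eq_card_orbits_mul_card_group Z (ConjClasses G)
  simp only [← Nat.card_eq_fintype_card] at h3
  refine le_trans ?_ (h3.symm.trans_le (sum_le_sum fun z _ => (Nat.card_congr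
    (Equiv.subtypeEquivRight fun C => ?_)).le))
  · rw [mul_comm]
    refine Nat.mul_le_mul_right _ (Nat.card_le_card_of_surjective (Quotient.lift
      (ConjClasses.map (QuotientGroup.mk' Z)) ?_) fun C => ?_)
    · rintro _ C ⟨z, rfl⟩
      obtain ⟨g, rfl⟩ := ConjClasses.mk_surjective C
      exact congrArg ConjClasses.mk (show ((z.1 * g : G) : G ⧸ Z) = g by simp)
    · obtain ⟨C, rfl⟩ := ConjClasses.map_surjective (QuotientGroup.mk'_surjective Z) C
      exact ⟨Quotient.mk _ C, rfl⟩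
  · rw [← ConjClasses.mk_eq_mk_iff_isConj, ← h2, mk_rep]; rfl

variable {F : Type*} [Field F] {n : ℕ}

theorem card_med_fiber_le [Finite G] (c : G → Matrix (Fin n) (Fin n) F) (p : ConjClasses G → Prop)
    (x : {C // p C}) : Nat.card {y : {C // p C} // med (c (rep y.1)) = med (c (rep x.1))} ≤
      Nat.card {C : ConjClasses G // ∃ g, ConjClasses.mk g = C ∧ IsConj (c (rep x.1)) (c g)} :=
  Nat.card_le_card_of_injective (fun y => ⟨y.1.1, _, mk_rep _, (isConj_iff_med_eq _ _).2 y.2.symm⟩)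
    fun _ _ h => Subtype.ext (Subtype.ext (Subtype.mk.inj h))

theorem coeff_zero_prod_med (A : Matrix (Fin n) (Fin n) F) :
    (med A).prod.coeff 0 = (-1) ^ n * A.det := by
  rw [det_eq_of_med, coeff_zero_multiset_prod, Fintype.card_fin, ← mul_assoc, ← mul_pow]
  simp

/-- a lower bound by characteristic polynomials -/
theorem exists_inj_classes (c : G →* Matrix (Fin n) (Fin n) F) (p : F[X] → Prop)
    (h : ∀ s : Multiset F[X], (∀ P ∈ s, IsPP P) → (s.map natDegree).sum = n →
      (∀ P ∈ s, P.Monic ∧ Irreducible P) → p s.prod → ∃ g, med (c g) = s) :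
    ∃ f : {P : F[X] // P.Monic ∧ P.natDegree = n ∧ p P} → ConjClasses G, Function.Injective f ∧
      ∀ P g, f P = .mk g → ∀ Q ∈ med (c g), Irreducible Q := by
  have h1 : ∀ P : {P : F[X] // P.Monic ∧ P.natDegree = n ∧ p P}, ∃ g,
      (med (c g)).prod = P ∧ ∀ Q ∈ med (c g), Irreducible Q := fun ⟨P, h1, h2, h3⟩ => by
    obtain ⟨s, h4, rfl⟩ := exists_prod_eq h1
    obtain ⟨g, rfl⟩ := h s (fun P h => isPP_of_irreducible (h4 P h).1 (h4 P h).2)
      ((natDegree_multiset_prod_of_monic _ fun P h => (h4 P h).1).symm.trans h2) h4 h3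
    exact ⟨g, rfl, fun P h => (h4 P h).2⟩
  choose f h2 h3 using h1
  have h4 : ∀ {a b : G}, ConjClasses.mk a = .mk b → med (c a) = med (c b) := fun h =>
    (isConj_iff_med_eq _ _).1 (c.map_isConj (ConjClasses.mk_eq_mk_iff_isConj.1 h))
  exact ⟨fun P => .mk (f P), fun P Q h => Subtype.ext (by rw [← h2, h4 h, h2]),
    fun P g h => h4 h ▸ h3 P⟩

theorem coeff_zero_ne_of_prod {s : Multiset F[X]} (h : s.prod.coeff 0 ≠ 0) : ∀ P ∈ s, P.coeff 0 ≠ 0 :=
  fun P hP h0 => h (by
    rw [coeff_zero_multiset_prod]; exact Multiset.prod_eq_zero (Multiset.mem_map.2 ⟨P, hP, h0⟩))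

theorem det_eq_one_of_med {A : Matrix (Fin n) (Fin n) F} (h : (med A).prod.coeff 0 = (-1) ^ n) :
    A.det = 1 := by
  rwa [coeff_zero_prod_med, mul_eq_left₀ (by simp)] at h

theorem exists_sl_med_eq {s : Multiset F[X]} (hs : ∀ P ∈ s, IsPP P) (hd : (s.map natDegree).sum = n)
    (h : s.prod.coeff 0 = (-1) ^ n) : ∃ g : SpecialLinearGroup (Fin n) F, med g.1 = s := by
  obtain ⟨A, rfl⟩ := exists_med_eq (n := Fin n) hs (hd.trans (Fintype.card_fin n).symm)
  exact ⟨⟨A, det_eq_one_of_med h⟩, rfl⟩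

variable [Finite F]

theorem card_gl_le (hn : 0 < n) : Nat.card (ConjClasses (GL (Fin n) F)) + 1 ≤ Nat.card F ^ n := by
  have h := count_lay0 (A := PUnit) (X := ConjClasses (GL (Fin n) F)) (n := n) (α := Nat.card F - 1)
    (q := Nat.card F) one_pos (fun C => med (rep C).1) (fun _ => med_isPP _)
    (fun _ => (sum_natDegree_med _).trans (Fintype.card_fin n)) (fun _ => 1) (fun P => P.coeff 0 ≠ 0)
    (fun C => coeff_zero_lay (med_isPP _) ((isUnit_iff_med _).1 (rep C).isUnit))
    (fun m a hm => by simp [← card_monic_coeff_zero_ne hm]) 1 rfl (fun _ => rfl) fun C =>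
      ⟨⊤, by
        rw [Subgroup.index_top, Finite.card_le_one_iff_subsingleton]
        exact ⟨fun a b => Subtype.ext (by
          rw [← mk_rep a.1, ← mk_rep b.1, ConjClasses.mk_eq_mk_iff_isConj, isConj_gl_iff_med_eq,
            a.2, b.2])⟩, by simp⟩
  simp only [SB, Nat.card_unique, one_mul, Nat.gcd_one_left, Nat.divisors_one, sum_singleton, one_dvd,
    if_true, Nat.div_one, one_pow, Nat.sub_self, zero_le, max_eq_left] at h
  exact (Nat.succ_le_succ h).trans (PC_gl Nat.card_pos hn hn)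

theorem card_sl_fixed_le (hn : 0 < n) (ζ : Fˣ) (p : ConjClasses (SpecialLinearGroup (Fin n) F) → Prop)
    (hp : ∀ C, p C → IsConj ((ζ : F) • (rep C).1) (rep C).1) :
    (Nat.card F - 1) * Nat.card {C // p C} ≤
      SB (Nat.card F - 1) (Nat.card F - 1) (Nat.card F) (orderOf ζ) n := by
  have : Nonempty (Fin n) := ⟨⟨0, hn⟩⟩
  have h0 : ∀ (g : SpecialLinearGroup (Fin n) F) k, (lay (med g.1) k).coeff 0 ≠ 0 := fun g =>
    coeff_zero_lay (med_isPP _) ((isUnit_iff_med _).1 (SpecialLinearGroup.toGL g).isUnit)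
  rw [← Nat.card_units]
  refine count_lay (orderOf_pos ζ) (fun C : {C // p C} => med (rep C.1).1) (fun _ => med_isPP _)
    (fun _ => (sum_natDegree_med _).trans (Fintype.card_fin n)) (Units.coeHom F) Units.val_injective
    (fun P => P.scaleRoots ζ = P) (fun C => scl_lay (med_isPP _) ?_)
    (fun C k => ⟨Units.mk0 _ (h0 _ k), rfl⟩) (fun m a hm => card_monic_scale hm rfl a.ne_zero)
    ((-1) ^ n) (fun C => ?_) fun C => ⟨detC (rep C.1).1, ?_, fun φ k h1 h2 h3 => pow_mem_detC h1 h2 h3⟩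
  · exact (med_smul ζ _).symm.trans ((isConj_iff_med_eq _ _).1 (hp C.1 C.2))
  · rw [coeff_zero_prod_med, (rep C.1).2, mul_one]
  · exact (card_med_fiber_le (fun g : SpecialLinearGroup (Fin n) F => g.1) p C).trans_eq
      (card_sl_classes _)

theorem le_card_gl (hn : 0 < n) :
    (Nat.card F - 1) * Nat.card F ^ (n - 1) ≤ Nat.card (ConjClasses (GL (Fin n) F)) := by
  obtain ⟨f, hf, -⟩ := exists_inj_classes (Units.coeHom (Matrix (Fin n) (Fin n) F))
    (fun P => P.coeff 0 ≠ 0) fun s h1 h2 _ h3 =>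
      exists_gl_med_eq h1 (coeff_zero_ne_of_prod h3) (h2.trans (Fintype.card_fin n).symm)
  exact (card_monic_coeff_zero_ne hn).symm.trans_le (Nat.card_le_card_of_injective f hf)

theorem lt_card_sl (hn : 2 ≤ n) :
    Nat.card F ^ (n - 1) < Nat.card (ConjClasses (SpecialLinearGroup (Fin n) F)) := by
  obtain ⟨f, hf, h⟩ := exists_inj_classes (G := SpecialLinearGroup (Fin n) F)
    ((Units.coeHom _).comp SpecialLinearGroup.toGL) (fun P => P.coeff 0 = (-1) ^ n)
    fun s h1 h2 _ h3 => exists_sl_med_eq h1 h2 h3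
  obtain ⟨g, hg⟩ := exists_sl_med_eq (n := n) (s := {(X - C (1 : F)) ^ n}) (by
    simpa using ⟨_, n, monic_X_sub_C 1, irreducible_X_sub_C 1, by omega, rfl⟩)
    (by simp only [Multiset.map_singleton, Multiset.sum_singleton, natDegree_pow, natDegree_X_sub_C,
      mul_one]) (by simp [coeff_zero_eq_eval_zero])
  rw [← card_monic_coeff_zero_eq (by omega) ((-1 : F) ^ n)]
  have := Fintype.ofFinite {P : F[X] // P.Monic ∧ P.natDegree = n ∧ P.coeff 0 = (-1) ^ n}
  have := Fintype.ofFinite (ConjClasses (SpecialLinearGroup (Fin n) F))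
  rw [Nat.card_eq_fintype_card, Nat.card_eq_fintype_card]
  refine Fintype.card_lt_of_injective_of_notMem f hf (b := .mk g) fun ⟨P, hP⟩ => ?_
  exact not_irreducible_pow (by omega) (h P g hP _ (hg ▸ Multiset.mem_singleton_self _ :))

theorem card_sl_le (hn : 0 < n) {α : ℕ} (hα : Nat.card F = α + 1) :
    α * Nat.card (ConjClasses (SpecialLinearGroup (Fin n) F)) ≤ SB α α (α + 1) 1 n := by
  have := card_sl_fixed_le hn (1 : Fˣ) (fun _ => True) fun C _ => by
    rw [Units.val_one, one_smul]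
  rwa [Nat.card_congr (Equiv.subtypeUnivEquiv fun _ => trivial), orderOf_one, hα] at this

theorem card_psl_le (hn : 0 < n) {α K : ℕ} (hα : Nat.card F = α + 1)
    (hK : ∀ e, 2 ≤ e → SB α α (α + 1) e n ≤ K) :
    α * (n.gcd α * Nat.card (ConjClasses (ProjectiveSpecialLinearGroup (Fin n) F))) ≤
      SB α α (α + 1) 1 n + (n.gcd α - 1) * K := by
  classical
  have : Nonempty (Fin n) := ⟨⟨0, hn⟩⟩
  have := Fintype.ofFinite (Subgroup.center (SpecialLinearGroup (Fin n) F))
  have h1 := H57.card_center_sl (ι := Fin n) (F := F)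
  rw [Fintype.card_fin, hα, Nat.add_sub_cancel] at h1
  rw [← h1]
  refine (Nat.mul_le_mul_left α (card_mul_classes_le _ le_rfl)).trans ?_
  rw [mul_sum, ← add_sum_erase _ _ (mem_univ 1)]
  refine Nat.add_le_add ((Nat.mul_le_mul_left _ (Finite.card_subtype_le _)).trans (card_sl_le hn hα))
    ((sum_le_card_nsmul _ _ K fun z hz => ?_).trans_eq
      (by rw [card_erase_of_mem (mem_univ _), card_univ, Nat.card_eq_fintype_card, smul_eq_mul]))
  obtain ⟨r, h2, h3⟩ := Matrix.SpecialLinearGroup.mem_center_iff.1 z.2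
  have h0 : r ≠ 0 := by rintro rfl; simp [hn.ne'] at h2
  have h4 := card_sl_fixed_le hn (Units.mk0 r h0) (fun C => IsConj (z.1 * rep C) (rep C)) fun C h => by
    have := isConj_coe_of_isConj_sl h
    rwa [Matrix.SpecialLinearGroup.coe_mul, ← h3, scalar_apply, ← smul_eq_diagonal_mul] at this
  rw [hα] at h4
  refine h4.trans (hK _ (Nat.one_lt_iff_ne_zero_and_ne_one.2 ⟨(orderOf_pos _).ne', fun h =>
    ne_of_mem_erase hz ?_⟩))
  obtain rfl : r = 1 := congrArg Units.val (orderOf_eq_one_iff.1 h)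
  exact Subtype.ext (Subtype.ext (h3.symm.trans (map_one _)))

end groups

section SU
variable {F : Type*} [Field F] [Fintype F] {n q : ℕ}
open H59 (frob)

theorem le_card_su (hF : Fintype.card F = q ^ 2) (hn : 0 < n) :
    q ^ (n - 1) ≤ Nat.card (ConjClasses (Cfsg.SU n F q)) := by
  obtain ⟨f, hf, -⟩ := exists_inj_classes (G := Cfsg.SU n F q)
    (((Units.coeHom _).comp SpecialLinearGroup.toGL).comp (Cfsg.SU n F q).subtype)
    (fun P => P.coeff 0 = (-1) ^ n ∧ pstar (frob hF) P = P) fun s h1 h2 h3 h4 => by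
      obtain ⟨g, hg⟩ := exists_GU_med_eq hF h1 (coeff_zero_ne_of_prod (h4.1.trans_ne (by simp)))
        (eq_of_prod_eq (fun P hP => by
          obtain ⟨Q, hQ, rfl⟩ := Multiset.mem_map.1 hP
          exact ⟨monic_pstar (h3 Q hQ).1.ne_zero,
            irreducible_pstar (H59.frob_frob hF) (h3 Q hQ).1 (h3 Q hQ).2⟩) h3
          ((pstar_multiset_prod s).symm.trans h4.2)) h2
      obtain ⟨g, rfl⟩ := (mem_range_suToGU hF g).2 (Subtype.ext (Units.ext
        (det_eq_one_of_med (hg ▸ h4.1 :))))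
      exact ⟨g, hg⟩
  exact (card_monic_pstar hF hn (by simp [← mul_pow])).symm.trans_le
    (Nat.card_le_card_of_injective f hf)

theorem card_su_le (hF : Fintype.card F = q ^ 2) (hn : 0 < n) :
    (q + 1) * Nat.card (ConjClasses (Cfsg.SU n F q)) ≤ SB (q + 1) (q + 1) q 1 n := by
  have h0 : ∀ (g : Cfsg.SU n F q) k, (lay (med g.1.1) k).coeff 0 ≠ 0 := fun g =>
    coeff_zero_lay (med_isPP _) ((isUnit_iff_med _).1 (SpecialLinearGroup.toGL g.1).isUnit)
  have h1 : ∀ (g : Cfsg.SU n F q) k, pstar (frob hF) (lay (med g.1.1) k) = lay (med g.1.1) k := fun g =>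
    pstar_lay (H59.frob_frob hF) (med_isPP _) (map_pstar_med_GU hF (suToGU n F q g))
  rw [← card_Mu hF, ← Nat.card_congr (Equiv.subtypeUnivEquiv
    (p := fun _ : ConjClasses (Cfsg.SU n F q) => True) fun _ => trivial)]
  refine count_lay one_pos (fun C : {_C : ConjClasses (Cfsg.SU n F q) // True} => med (rep C.1).1.1)
    (fun _ => med_isPP _) (fun _ => (sum_natDegree_med _).trans (Fintype.card_fin n))
    ((Units.coeHom F).comp (Mu F q).subtype) (Units.val_injective.comp Subtype.val_injective)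
    (fun P => pstar (frob hF) P = P) (fun C => h1 _)
    (fun C k => ⟨⟨Units.mk0 _ (h0 (rep C.1) k), (mem_Mu hF).2 ?_⟩, rfl⟩) (fun m a hm => ?_) ((-1) ^ n)
    (fun C => ?_) fun C => ⟨(Subgroup.centralizer {suToGU n F q (rep C.1)}).map (guDet hF n), ?_,
      fun φ k h1 h2 h3 => pow_mem_map_guDet hF _ h1 h2 h3⟩
  · have := coeff_zero_pstar (σ := frob hF) (monic_lay (med_isPP _) k) (h0 (rep C.1) k)
    rw [h1] at this
    exact (mul_eq_one_iff_eq_inv₀ ((_root_.map_ne_zero _).2 (h0 _ k))).2 this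
  · simpa using (card_monic_pstar hF hm ((mem_Mu hF).1 a.2)).le
  · rw [coeff_zero_prod_med, (rep C.1).1.2, mul_one]
  · exact (card_med_fiber_le (fun g : Cfsg.SU n F q => g.1.1) _ C).trans_eq (card_SU_classes hF hn _)

end SU

end H53
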