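import Cfsg.Agent.H53.C6Pre

/-! Tower C6P: diagonal and permutation matrices, the generators of the normaliser of `r^{1+2}`. -/

set_option autoImplicit false
set_option linter.unusedSectionVars false

namespace H53.C6

open Matrix Cfsg.Geo H25 Equiv

universe u

variable {F : Type u} [Field F]

section gen

variable {ι : Type} [Fintype ι] [DecidableEq ι]

/-- diagonal matrices -/
def dg : (ι → Fˣ) →* GL ι F where
  toFun v := ⟨diagonal fun i => v i, diagonal fun i => ((v i)⁻¹ : Fˣ), by simp, by simp⟩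
  map_one' := Units.ext (by simp)
  map_mul' v w := Units.ext (by simp)

/-- permutation matrices, `pm σ eⱼ = e_{σ j}` -/
def pm : Perm ι →* GL ι F := (permMatrixHom (n := ι) (R := F)).toHomUnits

/-- the homology with eigenvalue `ζ` at `eᵢ` -/
def hm (i : ι) (ζ : Fˣ) : GL ι F := dg (Pi.mulSingle i ζ)

/-- `G` contains the transvection with centre `eᵢ` and form `φ` -/
def Row (G : Subgroup (GL ι F)) (i : ι) (φ : ι → F) : Prop :=
  ∃ g ∈ G, g.val = 1 + vecMulVec (Pi.single i 1) φ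

theorem dg_val (v : ι → Fˣ) : (dg v).val = diagonal fun i => (v i : F) := rfl

theorem pm_apply (σ : Perm ι) (i j : ι) : (pm σ : GL ι F).val i j = if i = σ j then 1 else 0 := by
  simp [pm, PEquiv.toMatrix_apply, Equiv.symm_apply_eq]

theorem pm_mul_apply {κ : Type} (σ : Perm ι) (M : Matrix ι κ F) (i : ι) (j : κ) :
    ((pm σ : GL ι F).val * M) i j = M (σ⁻¹ i) j := by
  simp [mul_apply, pm_apply, ← Perm.inv_eq_iff_eq]

theorem mul_pm_apply {κ : Type} (σ : Perm ι) (M : Matrix κ ι F) (i : κ) (j : ι) :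
    (M * (pm σ : GL ι F).val) i j = M i (σ j) := by
  simp [mul_apply, pm_apply]

theorem pm_conj_apply (σ : Perm ι) (g : GL ι F) (i j : ι) :
    (pm σ * g * (pm σ)⁻¹).val i j = g.val (σ⁻¹ i) (σ⁻¹ j) := by
  rw [← map_inv, Units.val_mul, Units.val_mul, mul_pm_apply, pm_mul_apply]

theorem dg_conj_apply (v : ι → Fˣ) (g : GL ι F) (i j : ι) :
    (dg v * g * (dg v)⁻¹).val i j = v i * g.val i j * (v j : F)⁻¹ := by
  rw [← map_inv, Units.val_mul, Units.val_mul, dg_val, dg_val, mul_diagonal, diagonal_mul]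
  simp

theorem dg_pm_apply (v : ι → Fˣ) (σ : Perm ι) (i j : ι) :
    (dg v * pm σ).val i j = if i = σ j then (v i : F) else 0 := by
  rw [Units.val_mul, dg_val, diagonal_mul, pm_apply]; simp

theorem pm_conj_dg (σ : Perm ι) (v : ι → Fˣ) :
    pm σ * dg v * (pm σ)⁻¹ = dg fun i => v (σ⁻¹ i) := Units.ext (by
  ext i j; simp [pm_conj_apply, dg_val, diagonal_apply])

theorem pm_mul_dg (σ : Perm ι) (v : ι → Fˣ) :
    pm σ * dg v = (dg fun i => v (σ⁻¹ i)) * pm σ := by rw [← pm_conj_dg]; simp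

theorem dg_const (c : Fˣ) : dg (fun _ : ι => c) = sc ι c := Units.ext (by
  rw [coe_sc, dg_val, smul_one_eq_diagonal])

theorem dg_inj {v w : ι → Fˣ} (h : dg v = dg w) : v = w := funext fun i => Units.ext (by
  simpa [dg_val] using congrArg (fun g : GL ι F => g.val i i) h)

theorem dg_pm_inj {v w : ι → Fˣ} {σ τ : Perm ι} (h : dg v * pm σ = dg w * pm τ) :
    v = w ∧ σ = τ := by
  have : σ = τ := Equiv.ext fun j => by
    by_contra e
    simpa [dg_pm_apply, e] using congrArg (fun g : GL ι F => g.val (σ j) j) h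
  exact ⟨dg_inj (mul_right_cancel (this ▸ h)), this⟩

theorem dg_mem_scalars {v : ι → Fˣ} : dg v ∈ scalars ι F ↔ ∃ c, ∀ i, v i = c := by
  simp only [mem_scalars_iff', ← dg_const]
  exact exists_congr fun c => ⟨fun h => congrFun (dg_inj h), fun h => congrArg dg (funext h)⟩

theorem det_dg (v : ι → Fˣ) : (dg v).val.det = ∏ i, (v i : F) := by simp [dg_val]

theorem det_pm (σ : Perm ι) : (pm σ : GL ι F).val.det = ((Perm.sign σ : ℤ) : F) := by simp [pm]

theorem eq_zero_of_comm_dg {v : ι → Fˣ} {g : GL ι F} (h : Commute g (dg v)) {i j : ι}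
    (hij : v i ≠ v j) : g.val i j = 0 := by
  have := congrArg (fun g : GL ι F => g.val i j) h.eq
  simp only [Units.val_mul, dg_val, mul_diagonal, diagonal_mul] at this
  exact (mul_eq_zero.1 (by linear_combination -this)).resolve_left
    (sub_ne_zero.2 (mt Units.ext hij))

theorem comm_dg {v : ι → Fˣ} {g : GL ι F} (h : ∀ i j, v i ≠ v j → g.val i j = 0) :
    Commute g (dg v) := Units.ext (by
  ext i j
  simp only [Units.val_mul, dg_val, mul_diagonal, diagonal_mul]
  by_cases e : v i = v j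
  · rw [e, mul_comm]
  · simp [h i j e])

theorem comm_pm_iff {σ : Perm ι} {g : GL ι F} :
    Commute g (pm σ) ↔ ∀ i j, g.val (σ i) (σ j) = g.val i j := by
  rw [Commute.symm_iff, commute_iff_eq, ← mul_inv_eq_iff_eq_mul, Units.ext_iff, ← Matrix.ext_iff]
  simp only [pm_conj_apply]
  exact ⟨fun h i j => by simpa using (h (σ i) (σ j)).symm,
    fun h i j => by simpa using (h (σ⁻¹ i) (σ⁻¹ j)).symm⟩

theorem exists_dg_pm {g : GL ι F} (σ : Perm ι) (h : ∀ i j, i ≠ σ j → g.val i j = 0) :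
    ∃ v, g = dg v * pm σ := by
  have h1 : ∀ i, g.val i (σ⁻¹ i) ≠ 0 := fun i e => (g.isUnit.map detMonoidHom).ne_zero
    (det_eq_zero_of_row_eq_zero i fun j => by
      by_cases c : i = σ j
      · simpa [c] using e
      · exact h i j c)
  refine ⟨fun i => Units.mk0 _ (h1 i), Units.ext ?_⟩
  ext i j
  rw [dg_pm_apply]
  split_ifs with c
  · simp [c]
  · exact h i j c

theorem exists_dg {g : GL ι F} (h : ∀ i j, i ≠ j → g.val i j = 0) : ∃ v, g = dg v := by
  simpa using exists_dg_pm (g := g) 1 h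

theorem hm_val (i : ι) (ζ : Fˣ) :
    (hm i ζ).val = 1 + vecMulVec (Pi.single i 1) (Pi.single i ((ζ : F) - 1)) := by
  ext a b
  by_cases h1 : a = i <;> by_cases h2 : b = i <;> by_cases h3 : a = b <;>
    simp_all [hm, dg_val, vecMulVec_apply, one_apply]

theorem hm_pow (i : ι) (ζ : Fˣ) (n : ℕ) : hm i ζ ^ n = hm i (ζ ^ n) := by
  rw [hm, ← map_pow, ← Pi.mulSingle_pow, hm]

theorem pm_conj_hm (σ : Perm ι) (i : ι) (ζ : Fˣ) : pm σ * hm i ζ * (pm σ)⁻¹ = hm (σ i) ζ := by
  rw [hm, pm_conj_dg, hm]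
  congr 1
  ext j
  simp [Pi.mulSingle_apply, Equiv.symm_apply_eq]

/-- The commutator with a homology. -/
theorem row_of_fix {G : Subgroup (GL ι F)} {u κ : GL ι F} {i : ι} {ζ : Fˣ} (hu : u ∈ G)
    (hκ : κ * hm i ζ ∈ G) (c1 : Commute κ u) (c2 : Commute κ (hm i ζ)) (hζ : ζ ≠ 1)
    (h1 : u.val *ᵥ Pi.single i 1 = Pi.single i 1) {v : ι → F} (h2 : (u.val *ᵥ v) i ≠ v i) :
    ∃ φ, φ i = 0 ∧ φ ≠ 0 ∧ Row G i φ := by
  have h3 : (u⁻¹).val *ᵥ Pi.single i 1 = Pi.single i 1 := by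
    conv_lhs => rw [← h1, gl_inv_mulVec]
  have h4 : (u⁻¹).val i i = 1 := by simpa using congrFun h3 i
  refine ⟨((ζ : F) - 1) • ((u⁻¹).val i - Pi.single i 1), by simp [-coe_units_inv, h4],
    fun e => h2 ?_, _, G.mul_mem (G.mul_mem (G.mul_mem hu hκ) (G.inv_mem hu)) (G.inv_mem hκ), ?_⟩
  · have e1 : (u⁻¹).val i = Pi.single i 1 := by simpa [sub_eq_zero, hζ] using e
    have := congrFun (gl_inv_mulVec u v) i
    rwa [mulVec, show (u⁻¹).val i = _ from e1, single_one_dotProduct] at this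
  have e2 : u * (κ * hm i ζ) * u⁻¹ * (κ * hm i ζ)⁻¹ = u * hm i ζ * u⁻¹ * hm i ζ⁻¹ := by
    have : hm i ζ⁻¹ = (hm i ζ)⁻¹ := by rw [hm, hm, ← map_inv, Pi.mulSingle_inv]
    rw [this, ← mul_assoc u κ, ← c1.eq, _root_.mul_inv_rev, ← mul_assoc, mul_inv_eq_iff_eq_mul,
      ← (((c1.mul_right c2).mul_right c1.inv_right).mul_right c2.inv_right).eq]
    simp only [mul_assoc]
  rw [e2]
  simp only [Units.val_mul, hm_val, mul_add, add_mul, mul_one, one_mul, Units.mul_inv,
    mul_vecMulVec, h1, vecMulVec_mul, single_vecMul, vecMulVec_mulVec]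
  ext a b
  by_cases h5 : a = i <;> by_cases h6 : b = i <;>
    simp [-coe_units_inv, h5, h6, h4, vecMulVec_apply, row]
  field_simp
  ring

end gen

section zmod

variable {r : ℕ} [NeZero r] {ω : Fˣ}

/-- the character `i ↦ ω ^ i` -/
def w (ω : Fˣ) (i : ZMod r) : Fˣ := ω ^ i.val

/-- the affine map `i ↦ a i + b` -/
def af (a : (ZMod r)ˣ) (b : ZMod r) : Perm (ZMod r) where
  toFun i := a * i + b
  invFun i := (a⁻¹ : (ZMod r)ˣ) * (i - b)
  left_inv i := by simp
  right_inv i := by simp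

variable (r F) in
/-- the cyclic shift -/
def xx : GL (ZMod r) F := pm (af 1 1)

variable (F) in
/-- the permutation matrix of `i ↦ a i` -/
def hh (a : (ZMod r)ˣ) : GL (ZMod r) F := pm (af a 0)

variable (r F) in
/-- the involution `i ↦ -i` -/
def tt : GL (ZMod r) F := hh F (-1)

variable (r) in
/-- `diag (ω ^ (i ^ k))`; `dp ω 1 = d`, `dp ω 2 = P` -/
def dp (ω : Fˣ) (k : ℕ) : GL (ZMod r) F := dg fun i => w ω (i ^ k)

open Classical in
variable (r) in
/-- the Fourier matrix -/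
noncomputable def Ph (ω : Fˣ) : GL (ZMod r) F :=
  if h : IsUnit (of fun i j : ZMod r => (w ω (i * j) : F)) then h.unit else 1

variable (r) in
/-- the standard extraspecial group -/
def R6 (ω : Fˣ) : Subgroup (GL (ZMod r) F) := Subgroup.closure {xx F r, dp r ω 1}

@[simp] theorem af_apply (a : (ZMod r)ˣ) (b i : ZMod r) : af a b i = a * i + b := rfl

@[simp] theorem af_inv_apply (a : (ZMod r)ˣ) (b i : ZMod r) :
    (af a b)⁻¹ i = (a⁻¹ : (ZMod r)ˣ) * (i - b) := rfl

theorem af_mul (a a' : (ZMod r)ˣ) (b b' : ZMod r) :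
    af a b * af a' b' = af (a * a') (a * b' + b) := Equiv.ext fun i => by simp; ring

theorem af_one : af (1 : (ZMod r)ˣ) 0 = 1 := Equiv.ext fun i => by simp

theorem xx_pow (n : ℕ) : xx F r ^ n = pm (af 1 (n : ZMod r)) := by
  induction n with
  | zero => simp [af_one]
  | succ n ih => rw [pow_succ, ih, xx, ← map_mul, af_mul]; simp [add_comm]

theorem hh_mul (a b : (ZMod r)ˣ) : hh F a * hh F b = hh F (a * b) := by
  rw [hh, hh, ← map_mul, af_mul]; simp [hh]

theorem hh_one : hh F (1 : (ZMod r)ˣ) = 1 := by rw [hh, af_one, map_one]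

theorem hh_inv (a : (ZMod r)ˣ) : (hh F a)⁻¹ = hh F a⁻¹ :=
  inv_eq_of_mul_eq_one_right (by rw [hh_mul, mul_inv_cancel, hh_one])

theorem tt_mul_tt : tt F r * tt F r = 1 := by rw [tt, hh_mul]; simpa using hh_one

theorem comm_hh_tt (a : (ZMod r)ˣ) : Commute (hh F a) (tt F r) := by
  rw [commute_iff_eq, tt, hh_mul, hh_mul, mul_comm]

theorem pm_af (a : (ZMod r)ˣ) (b : ZMod r) : pm (af a b) = xx F r ^ b.val * hh F a := by
  rw [xx_pow, hh, ← map_mul, af_mul]; simp

theorem comm_tt_iff {g : GL (ZMod r) F} :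
    Commute g (tt F r) ↔ ∀ i j, g.val (-i) (-j) = g.val i j := by
  simp [tt, hh, comm_pm_iff]

theorem tt_apply (i j : ZMod r) : (tt F r).val i j = if i = -j then 1 else 0 := by
  simp [tt, hh, pm_apply]

@[simp] theorem w_zero : w ω (0 : ZMod r) = 1 := by simp [w]

theorem w_natCast (h : orderOf ω = r) (n : ℕ) : w ω (n : ZMod r) = ω ^ n := by
  rw [w, ZMod.val_natCast, ← h, pow_mod_orderOf]

theorem w_add (h : orderOf ω = r) (i j : ZMod r) : w ω (i + j) = w ω i * w ω j := by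
  rw [w, ZMod.val_add, w, w, ← pow_add, ← pow_eq_pow_mod _ (h ▸ pow_orderOf_eq_one ω : ω ^ r = 1)]

theorem w_neg (h : orderOf ω = r) (i : ZMod r) : w ω (-i) = (w ω i)⁻¹ :=
  eq_inv_of_mul_eq_one_left (by rw [← w_add h]; simp)

theorem w_sub (h : orderOf ω = r) (i j : ZMod r) : w ω (i - j) = w ω i * (w ω j)⁻¹ := by
  rw [sub_eq_add_neg, w_add h, w_neg h]

theorem w_one (h : orderOf ω = r) : w ω (1 : ZMod r) = ω := by simpa using w_natCast h 1

theorem w_pow (h : orderOf ω = r) (i : ZMod r) (n : ℕ) : w ω i ^ n = w ω ((n : ZMod r) * i) := by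
  rw [w, ← pow_mul, ← w_natCast h]; simp [mul_comm]

theorem w_eq_one_iff (h : orderOf ω = r) {i : ZMod r} : w ω i = 1 ↔ i = 0 := by
  rw [w, ← orderOf_dvd_iff_pow_eq_one, h, ← ZMod.natCast_eq_zero_iff]; simp

theorem w_inj (h : orderOf ω = r) {i j : ZMod r} : w ω i = w ω j ↔ i = j := by
  rw [← mul_inv_eq_one, ← w_sub h, w_eq_one_iff h, sub_eq_zero]

theorem prim (h : orderOf ω = r) : IsPrimitiveRoot (ω : F) r := by
  rw [← h, ← orderOf_units]; exact IsPrimitiveRoot.orderOf _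

theorem exists_w (h : orderOf ω = r) {c : Fˣ} (hc : c ^ r = 1) : ∃ i : ZMod r, c = w ω i := by
  obtain ⟨i, -, hi⟩ := (prim h).eq_pow_of_pow_eq_one (ξ := (c : F)) (by simpa using congrArg Units.val hc)
  exact ⟨i, Units.ext (by simp [w_natCast h, hi])⟩

theorem sum_w (h : orderOf ω = r) {a : ZMod r} (ha : a ≠ 0) : ∑ i, (w ω (a * i) : F) = 0 := by
  have := Equiv.sum_comp (Equiv.addRight (1 : ZMod r)) fun i => (w ω (a * i) : F)
  simp only [Equiv.coe_addRight, mul_add, mul_one, w_add h, Units.val_mul, ← Finset.sum_mul] at this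
  exact (mul_eq_zero.1 (by linear_combination this)).resolve_right
    (sub_ne_zero.2 fun e : (w ω a : F) = 1 => ha ((w_eq_one_iff h).1 (Units.ext e)))

theorem cast_ne_zero (h : orderOf ω = r) : (r : F) ≠ 0 := (prim h).neZero'.out

theorem dp_pow (h : orderOf ω = r) (k n : ℕ) : dp r ω k ^ n = dg fun i => w ω ((n : ZMod r) * i ^ k) := by
  rw [dp, ← map_pow]; congr 1; ext i; simp [w_pow h]

theorem fourier_sq (h : orderOf ω = r) : (of fun i j : ZMod r => (w ω (i * j) : F)) *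
    (of fun i j : ZMod r => (w ω (i * j) : F)) = (r : F) • (tt F r).val := by
  ext i j
  simp only [mul_apply, of_apply, ← Units.val_mul, ← w_add h, Matrix.smul_apply, tt_apply]
  rw [Finset.sum_congr rfl fun k _ => by rw [show i * k + k * j = (i + j) * k by ring]]
  split_ifs with c
  · simp [c]
  · simpa using sum_w h (fun e => c (eq_neg_of_add_eq_zero_left e))

theorem Ph_apply (h : orderOf ω = r) (i j : ZMod r) : (Ph r ω).val i j = w ω (i * j) := by
  have : IsUnit (of fun i j : ZMod r => (w ω (i * j) : F)) := isUnit_of_mul_isUnit_left (by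
    rw [fourier_sq h]
    exact (tt F r).isUnit.smul (Units.mk0 _ (cast_ne_zero h)))
  rw [Ph, dif_pos this, IsUnit.unit_spec, of_apply]

theorem Ph_sq (h : orderOf ω = r) :
    Ph r ω * Ph r ω = sc _ (Units.mk0 _ (cast_ne_zero h)) * tt F r := Units.ext (by
  rw [Units.val_mul, show (Ph r ω).val = of fun i j : ZMod r => (w ω (i * j) : F) from
    Matrix.ext (Ph_apply h), fourier_sq h]
  simp [coe_sc])

theorem Ph_hh (h : orderOf ω = r) (a : (ZMod r)ˣ) : Ph r ω * hh F a = hh F a⁻¹ * Ph r ω :=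
  Units.ext (by
    ext i j
    simp only [Units.val_mul, hh, mul_pm_apply, pm_mul_apply, Ph_apply h]
    simp [mul_assoc, mul_left_comm])

theorem comm_Ph_tt (h : orderOf ω = r) : Commute (Ph r ω) (tt F r) := by
  simpa [tt, commute_iff_eq] using Ph_hh h (-1)

theorem Ph_xx (h : orderOf ω = r) : Ph r ω * xx F r = dp r ω 1 * Ph r ω := Units.ext (by
  ext i j
  simp only [Units.val_mul, xx, mul_pm_apply, dp, dg_val, diagonal_mul, Ph_apply h]
  simp [mul_add, w_add h, mul_comm])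

theorem Ph_dp (h : orderOf ω = r) : Ph r ω * dp r ω 1 = (xx F r)⁻¹ * Ph r ω := Units.ext (by
  ext i j
  simp only [Units.val_mul, xx, ← map_inv, pm_mul_apply, dp, dg_val, mul_diagonal, Ph_apply h]
  simp [add_mul, w_add h])

theorem hh_conj_dp (h : orderOf ω = r) (a : (ZMod r)ˣ) (k : ℕ) :
    hh F a * dp r ω k * (hh F a)⁻¹ = dp r ω k ^ (((a⁻¹ : (ZMod r)ˣ) : ZMod r) ^ k).val := by
  rw [hh, dp, pm_conj_dg, ← dp, dp_pow h]; simp [mul_pow]

theorem xx_conj_dp (h : orderOf ω = r) : xx F r * dp r ω 1 * (xx F r)⁻¹ = sc _ ω⁻¹ * dp r ω 1 := by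
  rw [xx, dp, pm_conj_dg, ← dg_const, ← map_mul]
  congr 1; ext i; simp [w_sub h, w_one h, mul_comm]

theorem comm_dp_tt (k : ℕ) : Commute (dp r ω (2 * k)) (tt F r) :=
  comm_tt_iff.2 fun i j => by simp [dp, dg_val, diagonal_apply, pow_mul]

end zmod

end H53.C6
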