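import Cfsg.Agent.H28.TESpec

/-! Lines give collinear points. -/

set_option autoImplicit false

open Cfsg Subgroup H14 H98 H1.Gold H31.S2 H14.GC H14.FE H14.NF H28.TE
open scoped commutatorElement

namespace H53.TE

universe u

theorem ex_tr (kp : KPs.{u}) (ar : ARs.{u}) {G : Type u} [Group G] [Finite G]
    {Q Q₁ E Q₂ T : Subgroup G} (h : LN Q Q₁ E Q₂ T) : ∃ y, Tr Q₁ E T y := by
  obtain ⟨R, hR, -⟩ := ar G _ _ _ _ _ h ⊥ IsPGroup.of_bot bot_le (fun a _ b hb => by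
    rw [mem_bot.1 hb, commutatorElement_one_right]; exact one_mem E)
  have k := kp G _ _ _ _ _ h R hR
  obtain ⟨y, h1, h2⟩ := SetLike.exists_of_lt k.lt
  exact ⟨y, k.tr y h1 h2⟩

theorem jobCo : JobCo.{u} := by
  intro _ kp ar sw G _ _ Q E
  refine ⟨fun Q₁ E₁ Q₂ E₂ h p1 p2 => ?_, fun Q₂ T h => ?_⟩
  · obtain ⟨y, hy⟩ := ex_tr kp ar h
    refine ⟨p1, p2, h.ne, fun t ht => mem_centralizer_iff.2 fun e he => h.comm e he t ht,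
      y, ⟨hy.mem, hy.ce⟩, ⟨2, ?_⟩, hy.cm, hy.mv⟩
    rw [← h.elE _ hy.sq, show 2 ^ 2 = 2 * 2 from rfl, pow_mul, pow_two, pow_two]
  · obtain ⟨y, hy⟩ := ex_tr kp ar h
    obtain ⟨v, hv⟩ := ex_tr kp ar h.symm
    obtain ⟨w, hw⟩ := sw G _ _ _ _ _ h y v hy hv
    refine ⟨w, ?_, hw.cE.symm⟩
    by_contra hne
    obtain ⟨a, ha, -, -, ia, -⟩ := h.fT
    exact h.hy.ti _ _ h.v2 ⟨w, rfl⟩ hne a ⟨(h.sT.le ha).1,
      cj_mono w (h.sE.le.trans inf_le_left) (hw.cE ▸ ha)⟩ ia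

end H53.TE
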