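/- Tower KU: small lemmas shared by the slots. -/
import Cfsg.Agent.H53.KUSpec

set_option autoImplicit false

namespace H53.KU

open Cfsg H59 H53.WU Module

section Tor

variable {F : Type} [Field F] {m q : ℕ} {o : Prop}

theorem pair_mem_Tor (s t : Fin m) (g : Fˣ) : Pi.mulSingle s g * Pi.mulSingle t g⁻¹ ∈ Tor F m q o :=
  Or.inr (by simp [Finset.prod_mul_distrib])

theorem single_mem_Tor (s : Fin m) {c : Fˣ} (hc : c ^ (q - 1) = 1) : Pi.mulSingle s c ∈ Tor F m q o :=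
  Or.inr (by simpa using hc)

theorem Cj.refl (l : (Fin m → Fˣ) →* ℂˣ) : Cj q o l l := ⟨1, fun _ => false, fun _ _ => rfl⟩

theorem Cj.sw (l : (Fin m → Fˣ) →* ℂˣ) (π : Equiv.Perm (Fin m)) (ε : Fin m → Bool) :
    Cj q o l (l.comp (sw q π ε)) := ⟨π, ε, fun _ _ => rfl⟩

/-- Characters trivial on `D` separate. -/
theorem dual {A : Type} [CommGroup A] [Finite A] {D : Subgroup A} {a : A} (ha : a ∉ D) :
    ∃ l : A →* ℂˣ, (∀ d ∈ D, l d = 1) ∧ l a ≠ 1 := by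
  have : NeZero (Monoid.exponent (A ⧸ D) : ℂ) := ⟨Nat.cast_ne_zero.2 Monoid.exponent_ne_zero_of_finite⟩
  obtain ⟨φ, hφ⟩ := CommGroup.exists_apply_ne_one_of_hasEnoughRootsOfUnity (A ⧸ D) ℂ
    (a := (a : A ⧸ D)) (by simpa using ha)
  exact ⟨φ.comp (QuotientGroup.mk' D), fun d hd => by
    simp [(QuotientGroup.eq_one_iff d).2 hd], hφ⟩

variable [Fintype F] (hF : Fintype.card F = q ^ 2)
include hF

theorem pow_q_q (x : Fˣ) : (x ^ q) ^ q = x := Units.ext (by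
  simp only [Units.val_pow_eq_pow_val]; exact frob_frob hF (x : F))

theorem sw_sw (π π' : Equiv.Perm (Fin m)) (ε ε' : Fin m → Bool) (a : Fin m → Fˣ) :
    sw q π ε (sw q π' ε' a) = sw q (π' * π) (fun i => xor (ε i) (ε' (π i))) a := by
  funext i
  simp only [sw_apply, eig, Equiv.Perm.mul_apply]
  cases ε i <;> cases ε' (π i) <;> simp [pow_q_q hF]

theorem sw_inv (π : Equiv.Perm (Fin m)) (ε : Fin m → Bool) (a : Fin m → Fˣ) :
    sw q π ε (sw q π⁻¹ (fun i => ε (π⁻¹ i)) a) = a ∧ sw q π⁻¹ (fun i => ε (π⁻¹ i)) (sw q π ε a) = a := by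
  constructor <;> (rw [sw_sw hF]; funext i; simp [sw_apply, eig])

theorem eig_pow (a : Fin m → Fˣ) (i : Fin m) (s : Bool) : eig q a i s ^ (q - 1) = a i ^ (q - 1) := by
  have h2 := two_le_q hF
  cases s
  · rfl
  · have h1 : ∀ x : Fˣ, x ^ q = x ^ (q - 1) * x := fun x => by rw [← pow_succ]; congr 1; omega
    have h3 := pow_q_q hF (a i)
    simp only [eig, if_true, inv_pow]
    rw [inv_eq_iff_mul_eq_one]
    rw [h1 (a i ^ q)] at h3
    nth_rw 2 [h1 (a i)] at h3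
    rw [← mul_assoc] at h3
    exact mul_eq_right.1 h3

theorem prod_sw (π : Equiv.Perm (Fin m)) (ε : Fin m → Bool) (a : Fin m → Fˣ) :
    (∏ i, sw q π ε a i) ^ (q - 1) = (∏ i, a i) ^ (q - 1) := by
  simp only [← Finset.prod_pow, sw_apply, eig_pow hF]
  exact Equiv.prod_comp π fun i => a i ^ (q - 1)

theorem sw_mem_Tor (π : Equiv.Perm (Fin m)) (ε : Fin m → Bool) {a : Fin m → Fˣ} (ha : a ∈ Tor F m q o) :
    sw q π ε a ∈ Tor F m q o := ha.imp id fun h => (prod_sw hF π ε a).trans h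

theorem Cj.symm {l l' : (Fin m → Fˣ) →* ℂˣ} (h : Cj q o l l') : Cj q o l' l := by
  obtain ⟨π, ε, h⟩ := h
  exact ⟨π⁻¹, fun i => ε (π⁻¹ i), fun a ha => by rw [h _ (sw_mem_Tor hF _ _ ha), (sw_inv hF π ε a).1]⟩

theorem Cj.trans {l l' l'' : (Fin m → Fˣ) →* ℂˣ} (h : Cj q o l l') (h' : Cj q o l' l'') : Cj q o l l'' := by
  obtain ⟨π, ε, h⟩ := h
  obtain ⟨π', ε', h'⟩ := h'
  exact ⟨_, _, fun a ha => by rw [h' a ha, h _ (sw_mem_Tor hF _ _ ha), sw_sw hF]⟩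

theorem Cj.od_eq {l l' : (Fin m → Fˣ) →* ℂˣ} (h : Cj q o l l') : od q o l = od q o l' := by
  have key : ∀ {l l' : (Fin m → Fˣ) →* ℂˣ}, Cj q o l l' → (Tor F m q o).map l' ≤ (Tor F m q o).map l := by
    rintro l l' ⟨π, ε, h⟩ _ ⟨a, ha, rfl⟩
    exact ⟨_, sw_mem_Tor hF π ε ha, (h a ha).symm⟩
  unfold od
  rw [le_antisymm (key h) (key (h.symm hF))]

theorem not_big (hK : JobK1) {D : Subgroup (Fin m → Fˣ)} (hD : D ≤ Tor F m q o) (h3 : H3 q o D)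
    (ν : (Fin m → Fˣ) →* Fˣ) : ¬ Big ((D.map ν).relIndex ((Tor F m q o).map ν)) := by
  rintro ⟨a, b, c, h1, h2, h4, ha, hb, hc⟩
  obtain ⟨φ₁, i1, o1⟩ := hK F m q o D hD ν a h1 ha
  obtain ⟨φ₂, i2, o2⟩ := hK F m q o D hD ν b (by omega) hb
  obtain ⟨φ₃, i3, o3⟩ := hK F m q o D hD ν c (by omega) hc
  rcases h3 _ _ _ i1 i2 i3 with h | h | h <;> have := h.od_eq hF <;> omega

theorem Gn.frob_ne {x : F} (h : Gn x) : frob hF x ≠ x := fun hx => by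
  let M : AddSubgroup F := (frob hF).toAddMonoidHom.eqLocus (AddMonoidHom.id F)
  have hM : ∀ y, y ∈ M ↔ frob hF y = y := fun _ => Iff.rfl
  rcases h M (fun y hy => by rw [hM] at hy ⊢; rw [map_mul, hx, hy]) with h | h
  · have : (1 : F) ∈ M := (hM 1).2 (map_one _)
    rw [h] at this
    simp at this
  · exact frob_ne_id hF (RingHom.ext fun y => (hM y).1 (h ▸ AddSubgroup.mem_top y))

theorem pow_pred_eq_one {x : Fˣ} : x ^ (q - 1) = 1 ↔ frob hF x = x := by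
  have h2 := two_le_q hF
  have h1 : x ^ q = x ^ (q - 1) * x := by rw [← pow_succ]; congr 1; omega
  change _ ↔ (x : F) ^ q = x
  rw [← Units.val_pow_eq_pow_val, Units.val_inj, h1, mul_eq_right]

theorem Gn.pow_ne {x : Fˣ} (h : Gn (x : F)) : x ^ (q - 1) ≠ 1 := fun hx =>
  h.frob_ne hF ((pow_pred_eq_one hF).1 hx)

theorem exists_fix (hq : 3 ≤ q) : ∃ c : Fˣ, c ≠ 1 ∧ c ^ (q - 1) = 1 := by
  classical
  obtain ⟨g, hg⟩ := IsCyclic.exists_ofOrder_eq_natCard (α := Fˣ)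
  rw [Nat.card_eq_fintype_card, Fintype.card_units, hF] at hg
  obtain ⟨k, rfl⟩ : ∃ k, q = k + 3 := ⟨q - 3, by omega⟩
  have h1 : (k + 3) ^ 2 - 1 = (k + 4) * (k + 2) := Nat.sub_eq_of_eq_add (by ring)
  refine ⟨g ^ (k + 4), pow_ne_one_of_lt_orderOf (by omega) (by rw [hg, h1]; nlinarith), ?_⟩
  rw [← pow_mul, show k + 3 - 1 = k + 2 from rfl, ← h1, ← hg, pow_orderOf_eq_one]

end Tor

namespace Fr

variable {S : HS} {m : ℕ} (Φ : Fr S m)

theorem dec (v : S.V) : Φ.Pp (v - ∑ i, S.B (Φ.f i) v • Φ.e i - ∑ i, S.B (Φ.e i) v • Φ.f i) :=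
  ⟨fun j => by simp [map_sum, Φ.ee, Φ.ef], fun j => by simp [map_sum, Φ.ff, Φ.fe]⟩

theorem li : LinearIndependent S.F Φ.e := by
  rw [Fintype.linearIndependent_iff]
  intro c hc j
  simpa [map_sum, Φ.fe] using congrArg (S.B (Φ.f j)) hc

theorem iso_e (i : Fin m) : S.Iso (Φ.e i) := ⟨Φ.li.ne_zero i, Φ.ee i i⟩

theorem W_zero : Φ.W 0 = ⊥ := by simp [W]

theorem W_succ (i : Fin m) : Φ.W (i.1 + 1) = Φ.W i.1 ⊔ Submodule.span S.F {Φ.e i} := by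
  rw [W, W, ← Submodule.span_union, ← Set.image_singleton, ← Set.image_union]
  congr 2
  ext j
  simp only [Set.mem_ofPred_eq, Set.mem_union, Set.mem_singleton_iff, Fin.ext_iff]
  omega

theorem mem_W_succ {i : Fin m} {v : S.V} : v ∈ Φ.W (i.1 + 1) ↔ ∃ c : S.F, v - c • Φ.e i ∈ Φ.W i.1 := by
  rw [W_succ]
  refine ⟨fun h => ?_, fun ⟨c, h⟩ => ?_⟩
  · obtain ⟨y, hy, z, hz, rfl⟩ := Submodule.mem_sup.1 h
    obtain ⟨c, rfl⟩ := Submodule.mem_span_singleton.1 hz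
    exact ⟨c, by simpa using hy⟩
  · simpa using Submodule.add_mem_sup h (Submodule.smul_mem _ c (Submodule.mem_span_singleton_self (Φ.e i)))

theorem e_not_mem (i : Fin m) : Φ.e i ∉ Φ.W i.1 := fun h => by simpa [Φ.fe] using Φ.f_W le_rfl h

theorem W_one {r : ℕ} (Φ : Fr S (r + 1)) : Φ.W 1 = Submodule.span S.F {Φ.e 0} := by
  simpa [W_zero] using Φ.W_succ 0

theorem map_W (g : S.G) (k : ℕ) : (Φ.map g).W k = (Φ.W k).map g.1.toLinearMap := by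
  rw [W, W, Submodule.map_span, Set.image_image]; rfl

theorem map_map (g h : S.G) : (Φ.map g).map h = Φ.map (h * g) := rfl

theorem map_one : Φ.map 1 = Φ := rfl

theorem ev_map (g t : S.G) (a : Fin m → S.Fˣ) : (Φ.map g).Ev t a ↔ Φ.Ev (g⁻¹ * t * g) a := by
  refine forall_congr' fun i => ?_
  rw [map_W, Submodule.mem_map_equiv]
  simp only [map, map_sub, map_smul, LinearEquiv.symm_apply_apply]
  rfl

variable {Φ} {Ψ : Fr S m}

theorem Sm.refl : Φ.Sm Φ := fun _ => rfl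
theorem Sm.symm (h : Φ.Sm Ψ) : Ψ.Sm Φ := fun k => (h k).symm
theorem Sm.trans {X : Fr S m} (h : Φ.Sm Ψ) (h' : Ψ.Sm X) : Φ.Sm X := fun k => (h k).trans (h' k)
theorem Sm.map (h : Φ.Sm Ψ) (g : S.G) : (Φ.map g).Sm (Ψ.map g) := fun k => by rw [map_W, map_W, h k]

theorem Sm.e (h : Φ.Sm Ψ) (i : Fin m) : ∃ c : S.F, c ≠ 0 ∧ Ψ.e i - c • Φ.e i ∈ Φ.W i.1 := by
  obtain ⟨c, hc⟩ := Φ.mem_W_succ.1 (h _ ▸ Ψ.e_mem_W (Nat.lt_succ_self i.1))
  refine ⟨c, ?_, hc⟩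
  rintro rfl
  exact Ψ.e_not_mem i (by simpa [h _] using hc)

theorem Sm.ev (h : Φ.Sm Ψ) {g : S.G} {a : Fin m → S.Fˣ} (hg : Φ.Ev g a) : Ψ.Ev g a := fun i => by
  obtain ⟨c, -, hc⟩ := h.e i
  rw [← h]
  have := (Φ.W i.1).add_mem ((Φ.W i.1).sub_mem (hg.map_W _ hc) ((Φ.W i.1).smul_mem (a i : S.F) hc))
    ((Φ.W i.1).smul_mem c (hg i))
  convert this using 1
  simp only [map_sub, map_smul]
  module

theorem Sm.D_eq (h : Φ.Sm Ψ) (K : Subgroup S.G) : Φ.D K = Ψ.D K :=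
  Subgroup.ext fun _ => ⟨fun ⟨k, hk, e⟩ => ⟨k, hk, h.ev e⟩, fun ⟨k, hk, e⟩ => ⟨k, hk, h.symm.ev e⟩⟩

/-- Same flag from a triangular relation. -/
theorem sm_of (h : ∀ i, ∃ c : S.F, c ≠ 0 ∧ Ψ.e i - c • Φ.e i ∈ Φ.W i.1) : Φ.Sm Ψ := by
  intro k
  induction k with
  | zero => rw [W_zero, W_zero]
  | succ k ih =>
    by_cases hk : k < m
    · obtain ⟨c, hc0, hc⟩ := h ⟨k, hk⟩
      ext v
      refine (Φ.mem_W_succ (i := ⟨k, hk⟩)).trans (Iff.trans ?_ (Ψ.mem_W_succ (i := ⟨k, hk⟩)).symm)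
      simp only [← ih]
      refine ⟨fun ⟨d, hd⟩ => ⟨d / c, ?_⟩, fun ⟨d, hd⟩ => ⟨d * c, ?_⟩⟩
      · convert (Φ.W k).sub_mem hd ((Φ.W k).smul_mem (d / c) hc) using 1
        rw [smul_sub, smul_smul, div_mul_cancel₀ _ hc0]; abel
      · convert (Φ.W k).add_mem hd ((Φ.W k).smul_mem d hc) using 1
        module
    · have : ∀ X : Fr S m, X.W (k + 1) = X.W k := fun X => by
        rw [W, W]; congr 2; ext j; have := j.2; simp only [Set.mem_ofPred_eq]; omega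
      rw [this, this, ih]

theorem Ev.sm {g : S.G} {a : Fin m → S.Fˣ} (h : Φ.Ev g a) : Φ.Sm (Φ.map g) :=
  sm_of fun i => ⟨a i, (a i).ne_zero, h i⟩

theorem D_map (Φ : Fr S m) {K : Subgroup S.G} {k : S.G} (hk : k ∈ K) : (Φ.map k).D K = Φ.D K :=
  Subgroup.ext fun a => ⟨fun ⟨t, ht, e⟩ => ⟨_, K.mul_mem (K.mul_mem (K.inv_mem hk) ht) hk, (Φ.ev_map k t a).1 e⟩,
    fun ⟨t, ht, e⟩ => ⟨k * t * k⁻¹, K.mul_mem (K.mul_mem hk ht) (K.inv_mem hk),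
      (Φ.ev_map k _ a).2 (by simpa [mul_assoc] using e)⟩⟩

theorem Dg.ev_sw {t : S.G} {a : Fin m → S.Fˣ} (h : Φ.Dg t a) (π : Equiv.Perm (Fin m)) (ε : Fin m → Bool) :
    (Φ.sw π ε).Ev t (KU.sw S.q π ε a) := fun i => by
  simp only [sw, sw_apply, eig]
  split_ifs <;> simp [h.1, h.2.1]

theorem Dg.one : Φ.Dg 1 1 := ⟨fun _ => by simp, fun _ => by simp, fun _ _ => by simp⟩

theorem Dg.mul {t t' : S.G} {a a' : Fin m → S.Fˣ} (h : Φ.Dg t a) (h' : Φ.Dg t' a') : Φ.Dg (t * t') (a * a') :=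
  ⟨fun i => by simp [h.1, h'.1, smul_smul, mul_comm], fun i => by simp [h.2.1, h'.2.1, smul_smul, mul_pow],
    fun w hw => by simp [h.2.2 w hw, h'.2.2 w hw, smul_smul, mul_pow, Finset.prod_mul_distrib, mul_comm]⟩

theorem Dg.pow {t : S.G} {a : Fin m → S.Fˣ} (h : Φ.Dg t a) (k : ℕ) : Φ.Dg (t ^ k) (a ^ k) := by
  induction k with
  | zero => simpa using Dg.one
  | succ k ih => simpa [pow_succ] using ih.mul h

theorem Dg.ext {t t' : S.G} {a : Fin m → S.Fˣ} (h : Φ.Dg t a) (h' : Φ.Dg t' a) : t = t' := by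
  refine Subtype.ext (LinearEquiv.ext fun v => ?_)
  have := (h.2.2 _ (Φ.dec v)).trans (h'.2.2 _ (Φ.dec v)).symm
  simpa only [map_sub, map_sum, map_smul, h.1, h'.1, h.2.1, h'.2.1, sub_left_inj] using this

theorem Dg.comm {t t' : S.G} {a a' : Fin m → S.Fˣ} (h : Φ.Dg t a) (h' : Φ.Dg t' a') : t * t' = t' * t :=
  (h.mul h').ext (mul_comm a a' ▸ h'.mul h)

theorem Dg.pow_card {t : S.G} {a : Fin m → S.Fˣ} (h : Φ.Dg t a) : t ^ (S.q ^ 2 - 1) = 1 := by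
  classical
  refine (h.pow _).ext ?_
  have : a ^ (S.q ^ 2 - 1) = 1 := by
    funext i
    rw [Pi.pow_apply, ← S.hF, ← Fintype.card_units, pow_card_eq_one, Pi.one_apply]
  exact this ▸ Dg.one

theorem Dg.inv {t : S.G} {a : Fin m → S.Fˣ} (h : Φ.Dg t a) : Φ.Dg t⁻¹ a⁻¹ := by
  have h0 := orderOf_pos t
  have h1 : t ^ (orderOf t - 1) * t = 1 := by rw [pow_sub_one_mul h0.ne', pow_orderOf_eq_one]
  have h2 := (h.pow (orderOf t - 1)).mul h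
  rw [h1] at h2
  rw [← eq_inv_of_mul_eq_one_left h1, ← eq_inv_of_mul_eq_one_left (h2.ev.unique Ev.one)]
  exact h.pow _

end Fr

theorem two_ne_zero' (r : ℕ) : (2 : Fin (r + 3)) ≠ 0 := fun h =>
  absurd (show (2 : ℕ) = 0 from congrArg Fin.val h) (by omega)

theorem two_ne_one' (r : ℕ) : (2 : Fin (r + 3)) ≠ 1 := fun h =>
  absurd (show (2 : ℕ) = 1 from congrArg Fin.val h) (by omega)

theorem PE.one {S : HS} : PE (1 : S.G) := ⟨0, one_pow _⟩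

theorem Fr.ti3 {S : KS} (Φ : S.Fm) : S.TI3 (Φ.e 0) (Φ.e 1) (Φ.e 2) := by
  have h02 : (2 : Fin (S.r + 3)) ≠ 0 := two_ne_zero' _
  have h12 : (2 : Fin (S.r + 3)) ≠ 1 := two_ne_one' _
  refine ⟨⟨Φ.iso_e 0, Φ.ee _ _, Φ.ee _ _, fun c hc => ?_⟩, Φ.ee _ _, Φ.ee _ _, Φ.ee _ _, fun c d hc => ?_⟩
  · simpa [Φ.fe] using congrArg (S.B (Φ.f 1)) hc
  · simpa [Φ.fe, h02, h12] using congrArg (S.B (Φ.f 2)) hc

namespace KS

variable {S : KS}

theorem six (S : KS) : 6 ≤ S.n := by have := S.hr; omega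

theorem exists_fm (S : KS) (h : JobCh) : Nonempty S.Fm := by
  obtain ⟨Φ, -⟩ := h S.toHS _ 1 S.hr PE.one 0 (Nat.zero_le _) Fin.elim0 (fun i => i.elim0)
    linearIndependent_empty_type fun i => i.elim0
  exact ⟨Φ⟩

theorem O.map {x : S.V} (h : S.O x) {k : S.G} (hk : k ∈ S.K) : S.O (k.1 x) := by
  refine ⟨h.1.map k, fun t ht => ?_⟩
  have h1 := HS.conj_Zs k⁻¹ ht
  rw [show (k⁻¹).1 (k.1 x) = x from k.1.symm_apply_apply x] at h1
  simpa [mul_assoc] using S.K.mul_mem (S.K.mul_mem hk (h.2 h1)) (S.K.inv_mem hk)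

theorem O.smul {x : S.V} (h : S.O x) {c : S.F} (hc : c ≠ 0) : S.O (c • x) :=
  ⟨⟨smul_ne_zero hc h.1.1, by simp [h.1.2]⟩, (HS.Zs_smul x hc).le.trans h.2⟩

/-- The transvection `v ↦ v + c B(x, v) x` lies in `K`. -/
theorem O.exists_tv {x : S.V} (h : S.O x) {c : S.F} (hc : c + c ^ S.q = 0) :
    ∃ k ∈ S.K, ∀ v, k.1 v = v + (c * S.B x v) • x := by
  have hc' : c + frob S.hF c + c * frob S.hF c * S.B x x = 0 := by rw [h.1.2, mul_zero, add_zero]; exact hc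
  have h1 := S.h.qref_mem_isom x c hc'
  refine ⟨⟨qref S.B x c hc', h1, Units.ext ?_⟩, h.2 ⟨h1, c, fun _ => rfl⟩, fun _ => rfl⟩
  rw [det_qref, h.1.2]; simp

theorem O.tv {x y : S.V} (hx : S.O x) (hy : S.O y) {c : S.F} (hc : c + c ^ S.q = 0) :
    S.O (y + (c * S.B x y) • x) := by
  obtain ⟨k, hk, h⟩ := hx.exists_tv hc
  exact h y ▸ hy.map hk

theorem O.add {x y : S.V} (hx : S.O x) (hy : S.O y) (h0 : S.B x y ≠ 0) (h : S.B x y + S.B x y ^ S.q = 0) :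
    S.O (x + y) := by
  have := hx.tv hy (c := (S.B x y)⁻¹) (by
    rw [inv_pow, eq_neg_of_add_eq_zero_right h, inv_neg, add_neg_cancel])
  rwa [inv_mul_cancel₀ h0, one_smul, add_comm] at this

theorem top_of_all (h : ∀ v, S.Iso v → S.O v) : S.K = ⊤ := by
  have h6 := S.six
  have ht : tgrp S.B = S.G := IsHerm.tgrp_eq_sisom' S.hF S.h (fun h => by have : S.n = 3 := h.1; omega)
  have : tgrp S.B ≤ S.K.map S.G.subtype := by
    refine (Subgroup.closure_le _).2 ?_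
    rintro g ⟨p, hp, hg⟩
    have hg' : g ∈ S.G := ht ▸ axisGrp_le_tgrp hp hg
    by_cases h0 : p = 0
    · obtain ⟨-, c, hc⟩ := hg
      have : g = 1 := LinearEquiv.ext fun v => by simp [hc, h0]
      exact this ▸ Subgroup.one_mem _
    · exact ⟨⟨g, hg'⟩, (h p ⟨h0, hp⟩).2 hg, rfl⟩
  refine eq_top_iff.2 fun g _ => ?_
  obtain ⟨k, hk, e⟩ := this (ht.ge g.2)
  exact (Subtype.ext e : k = g) ▸ hk

end KS

end H53.KU
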