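import Cfsg.Agent.H73.GSSpec

/-! Elements of 3-power order of `L₃(3)` and `U₃(3)` have order at most 3. -/

set_option autoImplicit false

namespace H53.GS

open Subgroup Cfsg H48.DP

universe u

/-- Elements of 3-power order have order at most 3. -/
def Ex (H : Type*) [Group H] : Prop := ∀ (g : H) (n : ℕ), g ^ 3 ^ n = 1 → g ^ 3 = 1

theorem Ex.surj {H Q : Type*} [Group H] [Finite H] [Group Q] (h : Ex H) (π : H →* Q)
    (hπ : Function.Surjective π) : Ex Q := by
  intro q n hq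
  obtain ⟨x, rfl⟩ := hπ q
  obtain ⟨a, m, hm, e⟩ := Nat.exists_eq_pow_mul_and_not_dvd (orderOf_pos x).ne' 3 (by norm_num)
  have h1 : (x ^ m) ^ 3 = 1 := h _ a (by rw [← pow_mul, mul_comm, ← e, pow_orderOf_eq_one])
  have h2 : π x ^ (3 * m) = 1 := by rw [← map_pow, mul_comm, pow_mul, h1, map_one]
  obtain ⟨j, -, hj⟩ := (Nat.dvd_prime_pow Nat.prime_three).1 (orderOf_dvd_of_pow_eq_one hq)
  have h3 := orderOf_dvd_of_pow_eq_one h2
  have hc : (orderOf (π x)).Coprime m := by
    rw [hj]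
    exact ((Nat.Prime.coprime_iff_not_dvd Nat.prime_three).2 hm).pow_left j
  exact orderOf_dvd_iff_pow_eq_one.1 (hc.dvd_of_dvd_mul_right h3)

theorem Ex.inj {H Q : Type*} [Group H] [Group Q] (h : Ex Q) (f : H →* Q)
    (hf : Function.Injective f) : Ex H := fun g n hg =>
  hf (by rw [map_pow, map_one]; exact h _ n (by rw [← map_pow, hg, map_one]))

theorem ex_sl (F : Type*) [Field F] [CharP F 3] : Ex (Matrix.SpecialLinearGroup (Fin 3) F) := by
  have : Fact (Nat.Prime 3) := ⟨Nat.prime_three⟩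
  intro g n hg
  set A : Matrix (Fin 3) (Fin 3) F := g.1 with hA
  have h1 : A ^ 3 ^ n = 1 := by
    have := congrArg Subtype.val hg
    simpa using this
  have h2 : IsNilpotent (A - 1) :=
    ⟨3 ^ n, by rw [sub_pow_char_pow_of_commute _ _ (Commute.one_right A), h1, one_pow, sub_self]⟩
  have h3 := (Matrix.isNilpotent_charpoly_sub_pow_of_isNilpotent h2).eq_zero
  rw [sub_eq_zero] at h3
  have h4 := Matrix.aeval_self_charpoly (A - 1)
  rw [h3, Fintype.card_fin, map_pow, Polynomial.aeval_X,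
    sub_pow_char_of_commute _ (Commute.one_right A), one_pow, sub_eq_zero] at h4
  apply Subtype.ext
  simpa using h4

theorem jobX3 : H73.GS.JobX3.{u} := by
  intro kn X _ _ K hK
  have key : Ex K → ∀ g ∈ K, ∀ n : ℕ, g ^ 3 ^ n = 1 → g ^ 3 = 1 := fun h g hg n e =>
    congrArg Subtype.val (h ⟨g, hg⟩ n (Subtype.ext e))
  rcases hK with h | h
  · refine ⟨by rw [(kn K (.inr (.inl h))).2.2.2.2.2.1 h]; norm_num, key ?_⟩
    obtain ⟨e⟩ := h
    have : Fact (Nat.Prime 3) := ⟨Nat.prime_three⟩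
    exact ((ex_sl (ZMod 3)).surj (QuotientGroup.mk' _) (QuotientGroup.mk'_surjective _)).inj
      e.toMonoidHom e.injective
  · refine ⟨by rw [(kn K (.inr (.inr h))).2.2.2.2.2.2 h]; norm_num, key ?_⟩
    obtain ⟨F, _, _, hF, ⟨e⟩⟩ := h
    have : Fact (Nat.Prime 3) := ⟨Nat.prime_three⟩
    have : CharP F 3 := charP_of_card_eq_prime_pow (p := 3) (f := 2) (by rw [hF]; norm_num)
    exact (((ex_sl F).inj (SU 3 F 3).subtype (SU 3 F 3).subtype_injective).surj
      (QuotientGroup.mk' _) (QuotientGroup.mk'_surjective _)).inj e.toMonoidHom e.injective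

end H53.GS
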