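import Cfsg.Agent.H62.Tv

/-! Interface of the tower CK (`blueprints/C3C6.md`, part 1): linear groups that are 2-transitive
on the points of a finite projective space (Cameron-Kantor). -/

set_option autoImplicit false

namespace H53.CK

open Module Submodule

universe u v

section defs

variable {F : Type u} [Field F] {V : Type v} [AddCommGroup V] [Module F V]

/-- `X` contains the scalars. -/
def Sc (X : Subgroup (V ≃ₗ[F] V)) : Prop := ∀ c : F, c ≠ 0 → ∃ g ∈ X, ∀ v, g v = c • v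

/-- `x, y` are independent. -/
def Ind (F : Type u) [Field F] {V : Type v} [AddCommGroup V] [Module F V] (x y : V) : Prop :=
  x ≠ 0 ∧ y ∉ F ∙ x

/-- `x, y, z` are independent. -/
def Ind3 (F : Type u) [Field F] {V : Type v} [AddCommGroup V] [Module F V] (x y z : V) : Prop :=
  Ind F x y ∧ z ∉ span F {x, y}

/-- antiflag transitive -/
def AF (X : Subgroup (V ≃ₗ[F] V)) : Prop :=
  ∀ (x x' : V) (φ φ' : Dual F V), φ x = 1 → φ' x' = 1 → ∃ g ∈ X, g x = x' ∧ ∀ v, φ' (g v) = φ v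

/-- 2-transitive on points -/
def T2 (X : Subgroup (V ≃ₗ[F] V)) : Prop :=
  ∀ x y x' y' : V, Ind F x y → Ind F x' y' → ∃ g ∈ X, ∃ a b : F, g x = a • x' ∧ g y = b • y'

/-- all elations of every plane are induced -/
def PL (X : Subgroup (V ≃ₗ[F] V)) : Prop :=
  ∀ x y z : V, Ind3 F x y z → ∀ a b : F, ∃ g ∈ X, g x = x ∧ g y = y ∧ g z = z + a • x + b • y

/-- all transvections -/
def AllTv (X : Subgroup (V ≃ₗ[F] V)) : Prop := ∀ (φ : Dual F V) u, φ u = 0 → H62.HasTv X φ u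

/-- a non-trivial transvection -/
def NTv (X : Subgroup (V ≃ₗ[F] V)) : Prop :=
  ∃ (φ : Dual F V) (u : V), φ ≠ 0 ∧ u ≠ 0 ∧ φ u = 0 ∧ H62.HasTv X φ u

/-- The group induced on `W` by its stabiliser. -/
def res (X : Subgroup (V ≃ₗ[F] V)) (W : Submodule F V) : Subgroup (W ≃ₗ[F] W) where
  carrier := {e | ∃ g ∈ X, ∀ w : W, g w = e w}
  one_mem' := ⟨1, X.one_mem, fun _ => rfl⟩
  mul_mem' := by
    rintro e e' ⟨g, hg, h⟩ ⟨g', hg', h'⟩
    exact ⟨g * g', X.mul_mem hg hg', fun w => by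
      rw [LinearEquiv.mul_apply, LinearEquiv.mul_apply, h', h]⟩
  inv_mem' := by
    rintro e ⟨g, hg, h⟩
    refine ⟨g⁻¹, X.inv_mem hg, fun w => g.injective ?_⟩
    rw [h]
    change g (g.symm w) = e (e.symm w)
    simp

/-- The group induced on `V ⧸ W` by the stabiliser of `W`. -/
def quo (X : Subgroup (V ≃ₗ[F] V)) (W : Submodule F V) : Subgroup ((V ⧸ W) ≃ₗ[F] (V ⧸ W)) where
  carrier := {e | ∃ g ∈ X, ∀ v, e (W.mkQ v) = W.mkQ (g v)}
  one_mem' := ⟨1, X.one_mem, fun _ => rfl⟩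
  mul_mem' := by
    rintro e e' ⟨g, hg, h⟩ ⟨g', hg', h'⟩
    exact ⟨g * g', X.mul_mem hg hg', fun w => by
      rw [LinearEquiv.mul_apply, LinearEquiv.mul_apply, h', h]⟩
  inv_mem' := by
    rintro e ⟨g, hg, h⟩
    refine ⟨g⁻¹, X.inv_mem hg, fun w => e.injective ?_⟩
    rw [h]
    change e (e.symm _) = W.mkQ (g (g.symm w))
    simp

/-- The group induced on the dual. -/
def dua (X : Subgroup (V ≃ₗ[F] V)) : Subgroup (Dual F V ≃ₗ[F] Dual F V) where
  carrier := {e | ∃ g ∈ X, ∀ φ v, e φ v = φ (g v)}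
  one_mem' := ⟨1, X.one_mem, fun _ _ => rfl⟩
  mul_mem' := by
    rintro e e' ⟨g, hg, h⟩ ⟨g', hg', h'⟩
    exact ⟨g' * g, X.mul_mem hg' hg, fun φ w => by
      rw [LinearEquiv.mul_apply, LinearEquiv.mul_apply, h, h']⟩
  inv_mem' := by
    rintro e ⟨g, hg, h⟩
    refine ⟨g⁻¹, X.inv_mem hg, fun φ w => ?_⟩
    have := h (e.symm φ) (g.symm w)
    simp only [LinearEquiv.apply_symm_apply] at this
    exact this.symm

/-- The subspaces `W x` of an antiflag transitive group. -/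
structure WS (X : Subgroup (V ≃ₗ[F] V)) where
  W : V → Submodule F V
  zero : W 0 = ⊥
  self : ∀ x, x ∈ W x
  smul : ∀ (c : F) x, c ≠ 0 → W (c • x) = W x
  symm : ∀ x y, y ≠ 0 → y ∈ W x → x ∈ W y
  map : ∀ g ∈ X, ∀ x y, y ∈ W x → g y ∈ W (g x)
  nt : ∀ x, x ≠ 0 → ∃ y ∈ W x, y ∉ F ∙ x
  add : ∀ x y, W (x + y) ≤ W x ⊔ W y
  key : ∀ (x y x' y' : V) (φ φ' : Dual F V), x ≠ 0 → x' ≠ 0 → y ∈ W x → y' ∈ W x' → φ x = 0 →
    φ y = 1 → φ' x' = 0 → φ' y' = 1 →
    ∃ g ∈ X, ∃ c : F, g x = c • x' ∧ g y = y' ∧ ∀ v, φ' (g v) = φ v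

/-- `{y | W y ≤ S}` -/
def WS.circ {X : Subgroup (V ≃ₗ[F] V)} (S : WS X) (U : Submodule F V) : Submodule F V where
  carrier := {y | S.W y ≤ U}
  zero_mem' := by simp [S.zero]
  add_mem' := fun {x y} hx hy => (S.add x y).trans (sup_le hx hy)
  smul_mem' := fun c x hx => by
    by_cases hc : c = 0
    · simp [hc, S.zero]
    · simpa [S.smul c x hc] using hx

/-- Consequences of `WS`; `w` is the dimension of `W x`. -/
structure WF {X : Subgroup (V ≃ₗ[F] V)} (S : WS X) (w : ℕ) : Prop where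
  rk : ∀ x, x ≠ 0 → finrank F (S.W x) = w
  circ : ∀ φ : Dual F V, φ ≠ 0 → finrank F (S.circ (LinearMap.ker φ)) + w = finrank F V
  min : ∀ x, x ≠ 0 → ∀ I : Submodule F V, x ∈ I → (∃ y ∈ I, y ∉ F ∙ x) →
    (∀ g ∈ X, g x ∈ F ∙ x → ∀ y ∈ I, g y ∈ I) → S.W x ≤ I
  dich : (∀ x y, y ≠ 0 → y ∈ S.W x → S.W y = S.W x) ∨
    ∀ x y, x ≠ 0 → y ∈ S.W x → y ∉ F ∙ x → finrank F ↥(S.W x ⊓ S.W y) + 1 = w

/-- The subspaces `W x y` of a 2-transitive group (`W x y / x` is `W` of the group on `V / x`). -/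
structure TS (G : Subgroup (V ≃ₗ[F] V)) where
  W : V → V → Submodule F V
  dep : ∀ x y, y ∈ F ∙ x → W x y = F ∙ x
  left : ∀ x y, x ∈ W x y
  right : ∀ x y, x ≠ 0 → y ∈ W x y
  congr : ∀ x y x' y', Ind F x y → Ind F x' y' → x' ∈ span F {x, y} → y' ∈ span F {x, y} →
    W x' y' = W x y
  symm : ∀ x y z, x ≠ 0 → z ∉ F ∙ x → z ∈ W x y → y ∈ W x z
  map : ∀ g ∈ G, ∀ x y z, z ∈ W x y → g z ∈ W (g x) (g y)
  nt : ∀ x y, Ind F x y → ∃ z ∈ W x y, z ∉ span F {x, y}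
  add : ∀ x y z, x ≠ 0 → W x (y + z) ≤ W x y ⊔ W x z
  key : ∀ (x y z y' z' : V) (φ φ' : Dual F V), Ind F x y → Ind F x y' → z ∈ W x y →
    z' ∈ W x y' → φ x = 0 → φ y = 0 → φ z = 1 → φ' x = 0 → φ' y' = 0 → φ' z' = 1 →
    ∃ g ∈ G, ∃ c : F, g x ∈ F ∙ x ∧ g y - c • y' ∈ F ∙ x ∧ g z - z' ∈ F ∙ x ∧
      ∀ v, φ' (g v) = φ v

/-- blocks -/
def TS.Blk {G : Subgroup (V ≃ₗ[F] V)} (T : TS G) : Prop :=
  ∀ x y z, x ≠ 0 → z ∉ F ∙ x → z ∈ T.W x y → T.W x z = T.W x y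

/-- codimension one -/
def TS.Cod {G : Subgroup (V ≃ₗ[F] V)} (T : TS G) (r : ℕ) : Prop :=
  ∀ x y z, Ind3 F x y z → z ∈ T.W x y → finrank F ↥(T.W x y ⊓ T.W x z) + 1 = r

/-- Consequences of `TS`; `r` is the dimension of `W x y`. -/
structure TF {G : Subgroup (V ≃ₗ[F] V)} (T : TS G) (r : ℕ) : Prop where
  rk : ∀ x y, Ind F x y → finrank F (T.W x y) = r
  circ : ∀ (x : V) (φ : Dual F V), x ≠ 0 → φ ≠ 0 → φ x = 0 → ∃ C : Submodule F V,
    (∀ y, y ∈ C ↔ T.W x y ≤ LinearMap.ker φ) ∧ finrank F C + r = finrank F V + 1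
  dich : T.Blk ∨ T.Cod r
  four : T.Blk → 2 * r < finrank F V + 1 → Nat.card F = 2 ∧ r = 3 ∧ ∀ x, x ≠ 0 →
    ∃ ω : V →ₗ[F] V, ω x = 0 ∧ ∀ y, ω y ∈ T.W x y ∧ ω (ω y) + ω y + y ∈ F ∙ x

/-! ### small kit -/

theorem exists_res [FiniteDimensional F V] {X : Subgroup (V ≃ₗ[F] V)} {W : Submodule F V}
    {g : V ≃ₗ[F] V} (hg : g ∈ X) (h : ∀ w ∈ W, g w ∈ W) :
    ∃ e ∈ res X W, ∀ w : W, (e w : V) = g w := by
  have hi : Function.Injective ((g : V →ₗ[F] V).restrict h) := fun a b hab =>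
    Subtype.ext (g.injective (congrArg Subtype.val hab))
  exact ⟨LinearEquiv.ofInjectiveEndo _ hi, ⟨g, hg, fun _ => rfl⟩, fun _ => rfl⟩

theorem exists_quo [FiniteDimensional F V] {X : Subgroup (V ≃ₗ[F] V)} {W : Submodule F V}
    {g : V ≃ₗ[F] V} (hg : g ∈ X) (h : ∀ w ∈ W, g w ∈ W) :
    ∃ e ∈ quo X W, ∀ v, e (W.mkQ v) = W.mkQ (g v) := by
  have hs : Function.Surjective (W.mapQ W (g : V →ₗ[F] V) h) := fun a => by
    obtain ⟨v, rfl⟩ := W.mkQ_surjective a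
    exact ⟨W.mkQ (g.symm v), by simp⟩
  exact ⟨LinearEquiv.ofBijective _ ⟨LinearMap.injective_iff_surjective.2 hs, hs⟩,
    ⟨g, hg, fun _ => rfl⟩, fun _ => rfl⟩

theorem exists_dua {X : Subgroup (V ≃ₗ[F] V)} {g : V ≃ₗ[F] V} (hg : g ∈ X) :
    ∃ e ∈ dua X, ∀ φ v, e φ v = φ (g v) :=
  ⟨g.dualMap, ⟨g, hg, fun _ _ => rfl⟩, fun _ _ => rfl⟩

theorem Sc.res [FiniteDimensional F V] {X : Subgroup (V ≃ₗ[F] V)} (h : Sc X) (W : Submodule F V) :
    Sc (res X W) := fun c hc => by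
  obtain ⟨g, hg, hv⟩ := h c hc
  obtain ⟨e, he, hw⟩ := exists_res (W := W) hg fun w hw => hv w ▸ W.smul_mem c hw
  exact ⟨e, he, fun w => Subtype.ext (by rw [hw, hv]; rfl)⟩

theorem Sc.quo [FiniteDimensional F V] {X : Subgroup (V ≃ₗ[F] V)} (h : Sc X) (W : Submodule F V) :
    Sc (quo X W) := fun c hc => by
  obtain ⟨g, hg, hv⟩ := h c hc
  obtain ⟨e, he, hw⟩ := exists_quo (W := W) hg fun w hw => hv w ▸ W.smul_mem c hw
  refine ⟨e, he, fun w => ?_⟩
  obtain ⟨v, rfl⟩ := W.mkQ_surjective w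
  rw [hw, hv, map_smul]

theorem Sc.dua {X : Subgroup (V ≃ₗ[F] V)} (h : Sc X) : Sc (dua X) := fun c hc => by
  obtain ⟨g, hg, hv⟩ := h c hc
  obtain ⟨e, he, hw⟩ := exists_dua hg
  exact ⟨e, he, fun φ => LinearMap.ext fun v => by rw [hw, hv, map_smul]; rfl⟩

theorem Ind.symm {x y : V} (h : Ind F x y) : Ind F y x :=
  ⟨fun h0 => h.2 (h0 ▸ zero_mem _), H62.notMem_span_symm h.1 h.2⟩

theorem Ind.map {x y : V} (h : Ind F x y) (g : V ≃ₗ[F] V) : Ind F (g x) (g y) :=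
  ⟨by simpa using h.1, fun hy => h.2 <| by
    obtain ⟨c, hc⟩ := mem_span_singleton.1 hy
    exact mem_span_singleton.2 ⟨c, g.injective (by rw [map_smul, hc])⟩⟩

theorem exists_ind (h : 2 ≤ finrank F V) {x : V} (hx : x ≠ 0) : ∃ y, Ind F x y := by
  by_contra hn
  have : (F ∙ x) = ⊤ := eq_top_iff.2 fun y _ => by
    by_contra hy
    exact hn ⟨y, hx, hy⟩
  have h1 := finrank_span_singleton (K := F) hx
  rw [this, finrank_top] at h1
  omega

/-- the ending of the cases I and II -/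
theorem ijk (h2 : Nat.card F = 2) {i j k : V →ₗ[F] V} (hi : ∀ a, i (i a) + i a + a = 0)
    (hj : ∀ a, j (j a) + j a + a = 0) (hk : ∀ a, k (k a) + k a + a = 0)
    (h : ∀ a, i a + j a + k a ∈ F ∙ a) (a : V) : a = 0 := by
  have hF : ∀ c : F, c = 0 ∨ c = 1 := fun c => by
    obtain ⟨y, -, hy⟩ := (Nat.card_eq_two_iff' (0 : F)).1 h2
    by_cases hc : c = 0
    · exact .inl hc
    · exact .inr ((hy c hc).trans (hy 1 one_ne_zero).symm)
  have h11 : (1 + 1 : F) = 0 := (hF _).resolve_right (by simp)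
  have hv : ∀ v : V, v + v = 0 := fun v => by
    rw [← one_smul F v, ← add_smul, h11, zero_smul]
  have hn : ∀ v : V, -v = v := fun v => neg_eq_of_add_eq_zero_left (hv v)
  have h0 : ∀ a, i a + j a + k a = 0 ∨ i a + j a + k a = a := fun a => by
    obtain ⟨c, hc⟩ := mem_span_singleton.1 (h a)
    rcases hF c with rfl | rfl
    · exact .inl (by rw [← hc, zero_smul])
    · exact .inr (by rw [← hc, one_smul])
  have hall : (∀ a, i a + j a + k a = 0) ∨ ∀ a, i a + j a + k a = a := by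
    by_contra hc
    push Not at hc
    obtain ⟨⟨a, ha⟩, b, hb⟩ := hc
    have ha' := (h0 a).resolve_left ha
    have hb' := (h0 b).resolve_right hb
    have hs : i (a + b) + j (a + b) + k (a + b) = a := by
      simp only [map_add]
      linear_combination (norm := abel1) ha' + hb'
    rcases h0 (a + b) with h1 | h1
    · exact ha (ha'.trans (hs.symm.trans h1))
    · exact hb (hb'.trans (add_left_cancel (a := a) (by rw [add_zero, ← h1, hs])))
  have hij : ∀ a, i (j a) + j (i a) = a := fun a => by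
    rcases hall with h1 | h1
    · have hk' : ∀ b, k b = i b + j b := fun b => by
        rw [← hn (k b)]; exact (neg_eq_of_add_eq_zero_left (h1 b))
      have := hk a
      simp only [hk', map_add] at this
      linear_combination (norm := abel1) this - hi a - hj a
    · have hk' : ∀ b, k b = i b + j b + b := fun b => by
        linear_combination (norm := abel1) h1 b - hv (i b) - hv (j b)
      have := hk a
      simp only [hk', map_add] at this
      linear_combination (norm := abel1) this - hi a - hj a - hv (i a) - hv (j a) - hv a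
  have e1 := congrArg i (hij a)
  have e2 := hij (i a)
  have e3 := hi (j a)
  have e4 := congrArg j (hi a)
  simp only [map_add, map_zero] at e1 e4
  linear_combination (norm := abel1) e1 - e2 - e3 + e4 - hij a + hv (i (j a))

end defs

/-- CK-WS: existence of `WS`. -/
def JobWS : Prop :=
  ∀ (F : Type u) [Field F] [Finite F] (V : Type v) [AddCommGroup V] [Module F V]
    [FiniteDimensional F V] (X : Subgroup (V ≃ₗ[F] V)), Sc X → AF X → 2 ≤ finrank F V →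
    Nonempty (WS X)

/-- CK-WF: consequences. -/
def JobWF : Prop :=
  ∀ (F : Type u) [Field F] [Finite F] (V : Type v) [AddCommGroup V] [Module F V]
    [FiniteDimensional F V] (X : Subgroup (V ≃ₗ[F] V)) (S : WS X), Sc X → AF X →
    2 ≤ finrank F V → ∃ w, WF S w

/-- CK-B1: invariant geometric spreads. -/
def JobB1 : Prop :=
  ∀ (F : Type u) [Field F] [Finite F] (V : Type v) [AddCommGroup V] [Module F V]
    [FiniteDimensional F V] (X : Subgroup (V ≃ₗ[F] V)) (S : WS X) (w : ℕ),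
    (∀ x, x ≠ 0 → finrank F (S.W x) = w) → (∀ x y, y ≠ 0 → y ∈ S.W x → S.W y = S.W x) →
    2 * w < finrank F V → Nat.card F = 2 ∧ w = 2 ∧
      ∃ ω : V →ₗ[F] V, ∀ y, ω y ∈ S.W y ∧ ω (ω y) + ω y + y = 0

/-- CK-PL: planes, and the transvection theorem. -/
def JobPL : Prop :=
  JobWS.{u, v} →
  ∀ (F : Type u) [Field F] [Finite F] (V : Type v) [AddCommGroup V] [Module F V]
    [FiniteDimensional F V] (G : Subgroup (V ≃ₗ[F] V)), Sc G → T2 G →
    PL G ∧ (finrank F V ≤ 3 → AllTv G) ∧ (NTv G → AllTv G)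

/-- CK-TS: existence of `TS` and its consequences. -/
def JobTS : Prop :=
  JobWS.{u, v} → JobWF.{u, v} → JobB1.{u, v} →
  ∀ (F : Type u) [Field F] [Finite F] (V : Type v) [AddCommGroup V] [Module F V]
    [FiniteDimensional F V] (G : Subgroup (V ≃ₗ[F] V)), Sc G → T2 G → PL G → 3 ≤ finrank F V →
    Nonempty (TS G) ∧ ∀ T : TS G, (∃ r, TF T r) ∧
      ((∀ x y, Ind F x y → T.W x y = ⊤) → ∀ x, x ≠ 0 → T2 (quo G (F ∙ x)))

/-- CK-I: the block case. -/
def JobI : Prop :=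
  ∀ (F : Type u) [Field F] [Finite F] (V : Type v) [AddCommGroup V] [Module F V]
    [FiniteDimensional F V] (G : Subgroup (V ≃ₗ[F] V)) (T : TS G) (r : ℕ), TF T r →
    2 ≤ finrank F V → r < finrank F V → ¬ T.Blk

/-- CK-II: the hyperplane case. -/
def JobII : Prop :=
  JobWS.{u, v} → JobWF.{u, v} → JobB1.{u, v} →
  ∀ (F : Type u) [Field F] [Finite F] (V : Type v) [AddCommGroup V] [Module F V]
    [FiniteDimensional F V] (G : Subgroup (V ≃ₗ[F] V)) (T : TS G) (r : ℕ), Sc G → T2 G → TF T r →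
    r + 1 = finrank F V → 5 ≤ r → False

/-- CK-R5: reduction to the hyperplane case. -/
def JobR5 : Prop :=
  ∀ (F : Type u) [Field F] [Finite F] (V : Type v) [AddCommGroup V] [Module F V]
    [FiniteDimensional F V] (G : Subgroup (V ≃ₗ[F] V)) (T : TS G) (r : ℕ), Sc G → T2 G → PL G →
    TF T r → T.Cod r → 5 ≤ r → r < finrank F V → ∃ D : Submodule F V, finrank F D = r + 1 ∧
      T2 (res G D) ∧ ∃ T' : TS (res G D), ∀ x y, Ind F x y → finrank F (T'.W x y) = r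

/-- CK-PENT: no generalised pentagon in `PG(4, q)`. -/
def JobPent : Prop :=
  ∀ (F : Type u) [Field F] [Finite F] (U : Type v) [AddCommGroup U] [Module F U]
    [FiniteDimensional F U] (W : U → Submodule F U), finrank F U = 5 → (∀ x, x ∈ W x) →
    (∀ (c : F) x, c ≠ 0 → W (c • x) = W x) → (∀ x y, x ≠ 0 → y ≠ 0 → y ∈ W x → x ∈ W y) →
    (∀ x, x ≠ 0 → finrank F (W x) = 3) →
    (∀ x y, x ≠ 0 → y ∈ W x → y ∉ F ∙ x → finrank F ↥(W x ⊓ W y) = 2) →
    (∀ x y, x ≠ 0 → y ∉ W x → finrank F ↥(W x ⊓ W y) = 1) → False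

/-- CK-R4: the case `r = 4`. -/
def JobR4 : Prop :=
  JobPent.{u, v} →
  ∀ (F : Type u) [Field F] [Finite F] (V : Type v) [AddCommGroup V] [Module F V]
    [FiniteDimensional F V] (G : Subgroup (V ≃ₗ[F] V)) (T : TS G), PL G →
    TF T 4 → T.Cod 4 → 2 ≤ finrank F V → False

/-- CK-PSI: the induction step. -/
def JobPsi : Prop :=
  ∀ (F : Type u) [Field F] [Finite F] (V : Type v) [AddCommGroup V] [Module F V]
    [FiniteDimensional F V] (G : Subgroup (V ≃ₗ[F] V)) (x : V), x ≠ 0 →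
    (4 ≤ finrank F V → AllTv (quo G (F ∙ x)) →
      (finrank F V = 4 ∧ Nat.card F = 2) ∨ NTv G) ∧
    (finrank F V = 5 → Nat.card F = 2 → AF G → T2 (quo G (F ∙ x)) →
      NTv (quo G (F ∙ x)) ∨ NTv G)

/-- The theorem. -/
def Main : Prop :=
  ∀ (F : Type u) [Field F] [Finite F] (V : Type v) [AddCommGroup V] [Module F V]
    [FiniteDimensional F V] (G : Subgroup (V ≃ₗ[F] V)), T2 G →
    (finrank F V = 4 ∧ Nat.card F = 2) ∨ AllTv G

end H53.CK
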