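import Cfsg.Agent.H53.CKAsm
import Cfsg.Agent.H44.CkWS
import Cfsg.Agent.H17.CKWF
import Cfsg.Agent.H30.CkB1
import Cfsg.Agent.H44.CkPL
import Cfsg.Agent.H10.CKTS
import Cfsg.Agent.H30.CkI
import Cfsg.Agent.H1.CKII
import Cfsg.Agent.H10.CKR5
import Cfsg.Agent.H17.CKPent
import Cfsg.Agent.H86.CKR4
import Cfsg.Agent.H1.CKPsi

/-! The theorem of Cameron and Kantor for linear groups. -/

set_option autoImplicit false

namespace H53.CK

universe u v

theorem jobs : Jobs.{u, v} :=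
  ⟨H44.CK.jobWS, H17.CKW.jobWF, H30.CkB.jobB1, H44.CK.jobPL, H10.CK.jobTS, H30.CkI.jobI,
    H1.CK.jobII, H10.CK.jobR5, H17.CKP.jobPent, H86.CK4.jobR4, H1.CK.jobPsi⟩

/-- A linear group 2-transitive on points contains all transvections, except in `GL₄(2)`. -/
theorem cameronKantor : Main.{u, v} := main jobs

end H53.CK
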