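import Cfsg.Agent.H53.C11Spec
import Cfsg.Agent.H13.C6EL
import Cfsg.Agent.H13.C6WR
import Cfsg.Agent.H26.C6A
import Cfsg.Agent.H95.C6End

/-! Tower C11: the jobs EL, A, END, WR for `r = 11`. -/

set_option autoImplicit false
set_option linter.unusedSectionVars false

namespace H53.C11

open Matrix hiding mul_inv_rev
open Cfsg.Geo H25 Equiv H53.C6

universe u

section EL
open H13.C6

theorem jobEL1 : JobEL1.{u} := by
  intro F _ _ r _ ω G hf hb i φ h0 h1 h2
  have := Fact.mk hf.prime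
  have h := hf.ord
  obtain ⟨j, hj⟩ := Function.ne_iff.1 h1
  have hij : i - j ≠ 0 := sub_ne_zero.2 fun e => hj (e ▸ h0)
  have hd : ∀ a : ZMod r, (dg fun k => w ω (a * k)) ∈ G := fun a => by
    simpa [dp_pow h] using G.pow_mem hb.d a.val
  have k1 : ∀ s : Finset (ZMod r), ∃ ψ ∈ rows G i, ψ j ≠ 0 ∧ ∀ k ∈ s, k ≠ j → ψ k = 0 := fun s => by
    induction s using Finset.induction_on with
    | empty => exact ⟨φ, ⟨h0, h2⟩, hj, by simp⟩
    | insert l s _ ih =>
      obtain ⟨ψ, a1, a2, a3⟩ := ih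
      by_cases e : l = j
      · exact ⟨ψ, a1, a2, by simpa [e] using a3⟩
      have h3 : (dg fun k => w ω (-(i + l) * k + k ^ 2)) ∈ G := by
        convert G.mul_mem (hd (-(i + l))) hb.p using 1
        rw [dp, ← map_mul]
        exact congrArg dg (funext fun k => w_add h _ _)
      have h4 : ∀ k, (w ω (-(i + l) * i + i ^ 2) : F) * (w ω (-(i + l) * k + k ^ 2) : F)⁻¹ =
          w ω ((i - k) * (k - l)) := fun k => by
        rw [← Units.val_inv_eq_inv_val, ← Units.val_mul, ← w_sub h]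
        congr 2; ring
      refine ⟨_, sub_mem (rows_dg h3 a1) a1, ?_, fun k hk c => ?_⟩
      · rw [Pi.sub_apply, h4, ← sub_one_mul]
        exact mul_ne_zero (sub_ne_zero.2 fun c => mul_ne_zero hij (sub_ne_zero.2 (Ne.symm e))
          ((w_eq_one_iff h).1 (Units.ext c))) a2
      · rw [Pi.sub_apply, h4]
        rcases Finset.mem_insert.1 hk with rfl | hk
        · simp
        · simp [a3 k hk c]
  obtain ⟨ψ, a1, a2, a3⟩ := k1 Finset.univ
  let A := (rows G i).comap (AddMonoidHom.single (fun _ : ZMod r => F) j)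
  have k2 : mulK A = ⊤ := hf.gen _ fun t ht => by
    have := rows_dg (hd (i - j)⁻¹) ht
    change Pi.single j _ ∈ rows G i
    convert this using 1
    ext k
    by_cases c : k = j
    · rw [c, ← Units.val_inv_eq_inv_val, ← Units.val_mul, ← w_sub h, ← mul_sub,
        inv_mul_cancel₀ hij, w_one h]
      simp
    · simp [c]
  have k3 : ∀ c, Pi.single j c ∈ rows G i := fun c => by
    have h5 : ψ j ∈ A := by
      change Pi.single j _ ∈ rows G i
      convert a1 using 1
      ext k
      by_cases c : k = j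
      · simp [c]
      · simp [c, a3 k]
    have := (k2 ▸ Subfield.mem_top (c / ψ j) : c / ψ j ∈ mulK A) _ h5
    rwa [div_mul_cancel₀ _ a2] at this
  refine big_of_rows fun a b hab c => ?_
  have hu : (a - b) / (i - j) ≠ 0 := div_ne_zero (sub_ne_zero.2 hab) hij
  have := rows_pm (hb.af (Units.mk0 _ hu) (a - (a - b) / (i - j) * i)) (k3 c)
  convert this using 1
  · simp
  · ext k
    have e : af (Units.mk0 _ hu) (a - (a - b) / (i - j) * i) j = b := by
      simp only [af_apply, Units.val_mk0]; field_simp; ring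
    simp only [Pi.single_apply, Perm.inv_eq_iff_eq, e]

end EL

section A
open H26.C6A

theorem jobA1 : JobA1.{u} := by
  intro dka dkb el F _ _ r _ ω G hf hb nd y hy cy
  have h2 := hf.two
  have hp := hf.prime
  have := Fact.mk hp
  have ho := hf.ord
  have h5 : 5 ≤ r := by have := hf.hr; omega
  have hodd : Odd r := hp.odd_of_ne_two (by omega)
  have t2 : (2 : ZMod r) ≠ 0 := fun e => by
    have := (ZMod.natCast_eq_zero_iff 2 r).1 (by exact_mod_cast e)
    have := Nat.le_of_dvd two_pos this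
    omega
  have nn : ∀ k : ZMod r, k ≠ 0 → k ≠ -k := fun k hk e =>
    mul_ne_zero t2 hk (by linear_combination e)
  let X := G ⊓ Subgroup.centralizer {dp r ω 2}
  have mX : ∀ {y}, y ∈ G → Commute y (dp r ω 2) → y ∈ X := fun a b =>
    ⟨a, Subgroup.mem_centralizer_singleton_iff.2 b⟩
  have z0 : ∀ y ∈ X, ∀ i j, j ≠ i → j ≠ -i → y.val i j = 0 := fun y hy i j a b =>
    eq_zero_of_comm_dg (Subgroup.mem_centralizer_singleton_iff.1 hy.2) fun e => by
      rcases sq_eq_sq_iff_eq_or_eq_neg.1 ((w_inj ho).1 e).symm with c | c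
      exacts [a c, b c]
  have he : ∀ k : ZMod r, k ≠ 0 → Function.Injective ![k, -k] := fun k hk a b c => by
    fin_cases a <;> fin_cases b <;> simp_all [nn k hk, (nn k hk).symm]
  have hz : ∀ k : ZMod r, ∀ y ∈ X, ∀ (a : Fin 2) j, (∀ b, j ≠ ![k, -k] b) →
      y.val (![k, -k] a) j = 0 := fun k y hy a j c => by
    have c0 := c 0
    have c1 := c 1
    fin_cases a
    · exact z0 y hy _ _ c0 c1
    · exact z0 y hy _ _ c1 (by simpa using c0)
  have hz0 : ∀ y ∈ X, ∀ (a : Unit) j, (∀ b : Unit, j ≠ (fun _ => (0 : ZMod r)) b) →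
      y.val ((fun _ => (0 : ZMod r)) a) j = 0 := fun y hy a j c =>
    z0 y hy _ _ (c ()) (by simpa using c ())
  have mon : ∀ k : ZMod r, k ≠ 0 → (y.val k (-k) = 0 ∧ y.val (-k) k = 0) ∨
      (y.val k k = 0 ∧ y.val (-k) (-k) = 0) := fun k hk => by
    by_contra hn
    rw [not_or] at hn
    let f := blk X _ (he k hk) (hz k)
    have cd : Commute (dp r ω 1) (dp r ω 2) := (Commute.all _ _).map dg
    rcases nd with nd | ⟨nb, ζ, ζ1, hζ⟩
    swap
    · have fv : ∀ z a b, (f z).val a b = z.1.val (![k, -k] a) (![k, -k] b) := fun _ _ _ => rfl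
      have e1 : (f ⟨_, mX hb.d cd⟩).val = !![(w ω k : F), 0; 0, w ω (-k)] := by
        ext a b
        fin_cases a <;> fin_cases b <;> simp [fv, dp, dg_val, nn k hk, (nn k hk).symm]
      have e2 : ∀ m : ℕ, 1 ≤ m → m ≤ 5 → (w ω k : F) ^ m ≠ (w ω (-k) : F) ^ m := fun m a b c => by
        rw [← Units.val_pow_eq_pow_val, ← Units.val_pow_eq_pow_val, Units.val_inj, w_pow ho,
          w_pow ho, w_inj ho] at c
        refine nn k hk (mul_left_cancel₀ (fun e => ?_) c)
        have := Nat.le_of_dvd a ((ZMod.natCast_eq_zero_iff m r).1 e)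
        have := hf.hr
        omega
      obtain ⟨g, g0, g1, g2, g3⟩ : ∃ g ∈ f.range, g.val 0 1 ≠ 0 ∧ g.val 1 0 ≠ 0 ∧
          (g.val 0 0 ≠ 0 ∨ g.val 1 1 ≠ 0) := by
        have e3 := (f ⟨y, mX hy cy⟩).det_ne_zero
        rw [det_fin_two] at e3
        by_cases c : y.val k (-k) = 0 ∨ y.val (-k) k = 0
        · have e4 : (f ⟨_, mX hb.tt (comm_dp_tt 1).symm⟩).val = !![0, 1; 1, 0] := by
            ext a b
            fin_cases a <;> fin_cases b <;> simp [fv, tt_apply, nn k hk, (nn k hk).symm]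
          have e5 : y.val k k * y.val (-k) (-k) ≠ 0 := by
            simpa [fv, mul_eq_zero.2 c] using e3
          refine ⟨f ⟨y, mX hy cy⟩ * f ⟨_, mX hb.tt (comm_dp_tt 1).symm⟩,
            mul_mem ⟨_, rfl⟩ ⟨_, rfl⟩, ?_⟩
          simp only [Units.val_mul, e4, mul_apply, Fin.sum_univ_two, fv]
          simpa [left_ne_zero_of_mul e5, right_ne_zero_of_mul e5, ← not_and_or] using hn.1
        · exact ⟨_, ⟨⟨y, mX hy cy⟩, rfl⟩, fun e => c (.inl e), fun e => c (.inr e),
            not_and_or.1 hn.2⟩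
      obtain ⟨c, c0, _, ⟨z, rfl⟩, hu⟩ := dkb F f.range _ _ _ g _ hf.nsq ⟨_, rfl⟩ e1
        (e2 2 (by omega) (by omega)) g0 g1 g2 g3 ⟨⟨_, mX hb.d cd⟩, rfl⟩ fun m a b c => by
          obtain ⟨s, hs⟩ := (mem_scalars_iff _).1 c
          have : (f ⟨_, mX hb.d cd⟩ ^ m).val = diagonal ![(w ω k : F) ^ m, (w ω (-k) : F) ^ m] := by
            rw [Units.val_pow_eq_pow_val, e1, show !![(w ω k : F), 0; 0, w ω (-k)] =
              diagonal ![(w ω k : F), w ω (-k)] by ext i j; fin_cases i <;> fin_cases j <;> simp,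
              diagonal_pow]
            congr 1
            ext i; fin_cases i <;> simp
          rw [this] at hs
          have h0 : (w ω k : F) ^ m = s := by simpa using congrFun (congrFun hs 0) 0
          have h1 : (w ω (-k) : F) ^ m = s := by simpa using congrFun (congrFun hs 1) 1
          exact e2 m a b (h0.trans h1.symm)
      obtain ⟨φ, p1, p2, p3⟩ := row_of_fix (κ := 1) (i := k) (ζ := ζ) z.2.1
        (by simpa using hb.hm hζ k) (.one_left _) (.one_left _) ζ1 (by
          ext i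
          rw [mulVec_single_one, col_apply]
          by_cases a : i = k
          · simpa [a, fv] using congrFun (congrFun hu 0) 0
          by_cases b : i = -k
          · simpa [b, fv, (nn k hk).symm] using congrFun (congrFun hu 1) 0
          rw [z0 _ z.2 _ _ (Ne.symm a) fun e => b (by rw [e, neg_neg]), Pi.single_eq_of_ne a])
        (v := Pi.single (-k) 1) (by
          have := congrFun (congrFun hu 0) 1
          rw [fv] at this
          simpa [nn k hk, show z.1.val k (-k) = c from this] using c0)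
      exact nb (el F r ω G hf hb k φ p1 p2 p3)
    have ev := dka F f.range r (w ω k) (w ω (-k)) (f ⟨_, mX hb.d cd⟩)
      (f ⟨_, mX hb.tt (comm_dp_tt 1).symm⟩) (f ⟨y, mX hy cy⟩) hp h5
      (by
        rw [div_eq_mul_inv, ← w_sub ho]
        refine orderOf_eq_prime (by rw [w_pow ho]; simp) ?_
        rw [Ne, w_eq_one_iff ho, sub_eq_zero]; exact nn k hk)
      ⟨_, rfl⟩
      (by
        ext a b
        fin_cases a <;> fin_cases b <;>
          simp [f, blk_apply, dp, dg_val, nn k hk, (nn k hk).symm])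
      ⟨_, rfl⟩
      (by
        ext a b
        fin_cases a <;> fin_cases b <;>
          simp [f, blk_apply, tt_apply, nn k hk, (nn k hk).symm])
      ⟨_, rfl⟩ hn.1 hn.2
    rw [MonoidHom.range_eq_map, ← Subgroup.map_commutator] at ev
    have ev2 : 2 ∣ Nat.card (commutator X) :=
      ev.two_dvd.trans (Subgroup.card_map_dvd _ _)
    obtain ⟨⟨z, hzc⟩, oz⟩ := exists_prime_orderOf_dvd_card' 2 ev2
    have z1 : z * z = 1 := by
      have := pow_orderOf_eq_one (⟨z, hzc⟩ : commutator X)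
      rw [oz, sq] at this
      exact congrArg Subtype.val this
    obtain ⟨v, hv⟩ := exists_dg (g := z.1) fun i j c => by
      by_cases c1 : j = -i
      · have hi : i ≠ 0 := by rintro rfl; exact c (by simpa using c1.symm)
        have := diag_of_sq (A := (blk X _ (he i hi) (hz i) z).val) h2
          (by rw [← Units.val_mul, ← map_mul, z1, map_one, Units.val_one]) (det_blk _ hzc)
        rw [c1]; exact this
      · exact z0 _ z.2 _ _ (Ne.symm c) c1
    have v0 : v 0 = 1 := by
      have := det_blk (blk X _ (fun _ _ _ => rfl) hz0) hzc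
      rw [det_unique] at this
      change z.1.val 0 0 = 1 at this
      rw [hv] at this
      exact Units.ext (by simpa [dg_val] using this)
    have vv : v * v = 1 := dg_inj (by
      rw [map_mul, map_one, ← hv]; exact congrArg Subtype.val z1)
    have n1 := nd v (hv ▸ z.2.1)
    have v1 : v = 1 := funext fun i => by
      have a1 : v i ^ r = 1 := by rw [n1 i, ← n1 0, v0, one_pow]
      obtain ⟨m, hm⟩ := hodd
      have a2 : v i ^ 2 = 1 := by rw [sq]; exact congrFun vv i
      rw [hm, pow_succ, pow_mul, a2, one_pow, one_mul] at a1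
      exact a1
    have : (⟨z, hzc⟩ : commutator X) = 1 :=
      Subtype.ext (Subtype.ext (by rw [hv, v1, map_one]; rfl))
    rw [this, orderOf_one] at oz
    omega
  have yX := mX hy cy
  have row : ∀ i, y.val i i = 0 → y.val (-i) (-i) = 0 := fun i c => by
    by_cases hi : i = 0
    · simpa [hi] using c
    rcases mon i hi with h | h
    · refine absurd (det_eq_zero_of_row_eq_zero i fun j => ?_)
        (y.isUnit.map detMonoidHom).ne_zero
      by_cases a : j = i
      · rw [a, c]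
      by_cases b : j = -i
      · rw [b, h.1]
      exact z0 y yX _ _ a b
    · exact h.2
  classical
  have inv : Function.Involutive fun i : ZMod r => if y.val i i = 0 then -i else i := fun i => by
    by_cases c : y.val i i = 0
    · simp [c, row i c]
    · simp [c]
  obtain ⟨v, hv⟩ := exists_dg_pm (g := y) inv.toPerm fun i j c => by
    simp only [Function.Involutive.coe_toPerm] at c
    by_cases a : y.val j j = 0
    · rw [if_pos a] at c
      by_cases b : j = i
      · rw [← b, a]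
      exact z0 y yX _ _ b fun e => c (by rw [e, neg_neg])
    · rw [if_neg a] at c
      by_cases b : j = -i
      · have hj : j ≠ 0 := by rintro rfl; exact c (by simpa using b.symm)
        rcases mon j hj with h | h
        · have : i = -j := by rw [b, neg_neg]
          rw [this, h.2]
        · exact absurd h.1 a
      exact z0 y yX _ _ (Ne.symm c) b
  refine ⟨v, inv.toPerm, fun i => ?_, hv⟩
  simp only [Function.Involutive.coe_toPerm]
  split_ifs <;> simp

end A

section END
open Subgroup H98 H95.C6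

set_option maxHeartbeats 400000 in
theorem jobEND1 : All1.{u} fun _ _ r _ ω G => RD G → UI G → G ≤ subgroupNormalizer (R6 r ω) := by
  intro F _ _ r _ ω G hf hb rd ui
  have := Fact.mk hf.prime
  have h := hf.ord
  have r2 : r ≠ 2 := by rw [hf.hr]; decide
  let π : G →* G ⧸ (scalars (ZMod r) F).subgroupOf G := QuotientGroup.mk' _
  have sj : Function.Surjective π := QuotientGroup.mk'_surjective _
  have k1 : ∀ {g : G}, π g = 1 ↔ g.1 ∈ scalars (ZMod r) F := fun {g} => QuotientGroup.eq_one_iff g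
  have k2 : ∀ {g g' : G}, π g = π g' ↔ g.1 * g'.1⁻¹ ∈ scalars (ZMod r) F := fun {g g'} => by
    rw [← mul_inv_eq_one, ← map_inv, ← map_mul, k1]; rfl
  have k3 : ∀ {g a : G}, Commute (π g) (π a) → ∃ μ, g.1 * a.1 * g.1⁻¹ = sc _ μ * a.1 := fun c =>
    of_comm (k2.1 ((map_mul π _ _).trans (c.eq.trans (map_mul π _ _).symm)))
  have k4 : ∀ {g a b : G} {μ}, g.1 * a.1 * g.1⁻¹ = sc _ μ * b.1 → π g * π a * (π g)⁻¹ = π b :=
    fun {g a b μ} e => by
      rw [← map_inv, ← map_mul, ← map_mul]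
      exact k2.2 (by rw [coe_mul, coe_mul, coe_inv, e, mul_inv_cancel_right]; exact sc_mem μ)
  let x : G := ⟨_, hb.xx⟩
  let d : G := ⟨_, hb.d⟩
  have RG : (closure {x, d}).map G.subtype = R6 r ω := by
    rw [MonoidHom.map_closure, Set.image_pair]; rfl
  have φx : Ph r ω * xx F r * (Ph r ω)⁻¹ = dp r ω 1 := mul_inv_eq_iff_eq_mul.2 (Ph_xx h)
  have nc : ¬ IsCyclic ((closure {x, d}).map π) := fun c => by
    have := commutative_of_cyclic_center_quotient (π.subgroupMap (closure {x, d}))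
      (fun a ha => mem_center_iff.2 fun b => Subtype.ext (Subtype.ext
        (comm_of_mem_scalars (k1.1 (congrArg Subtype.val ha)) _).symm))
      ⟨x, subset_closure (.inl rfl)⟩ ⟨d, subset_closure (.inr rfl)⟩
    have e := xx_conj_dp h
    rw [show xx F r * dp r ω 1 = dp r ω 1 * xx F r from congrArg Subtype.val (congrArg Subtype.val this),
      mul_inv_cancel_right, right_eq_mul] at e
    rw [inv_eq_one.1 (sc_inj e), orderOf_one] at h
    exact hf.prime.one_lt.ne h
  have td : π ⟨_, hb.tt⟩ * π d * (π ⟨_, hb.tt⟩)⁻¹ = (π d)⁻¹ := by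
    rw [← map_inv π d]
    refine k4 (μ := 1) ?_
    change pm _ * dg _ * (pm _)⁻¹ = _ * (dg _)⁻¹
    rw [pm_conj_dg, map_one, one_mul, ← map_inv]
    congr 1
    ext1 i
    simp [w_neg h]
  have px : π ⟨_, hb.p⟩ * π x * (π ⟨_, hb.p⟩)⁻¹ = π d ^ 2 * π x := by
    rw [← map_pow, ← map_mul π (d ^ 2)]
    refine k4 (μ := ω⁻¹) ?_
    change dg _ * pm _ * (dg _)⁻¹ = _ * (dp r ω 1 ^ 2 * pm _)
    rw [← map_inv, mul_assoc, pm_mul_dg, ← mul_assoc, ← map_mul, dp_pow h, ← mul_assoc, ← dg_const,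
      ← map_mul]
    congr 2
    ext1 i
    simp only [Pi.mul_apply, Pi.inv_apply, ← w_sub h, af_inv_apply]
    rw [← w_one h, ← w_neg h, w_one h, ← w_add h]
    congr 1
    simp; ring
  have N := endgame (t := π ⟨_, hb.tt⟩) (x := π x) (d := π d) (p := π ⟨_, hb.p⟩) (φ := π ⟨_, hb.ph⟩)
    (A := (closure {x, d}).map π) hf.prime r2 (by rw [MonoidHom.map_closure, Set.image_pair])
    (by rw [← map_pow, show x ^ r = 1 from Subtype.ext xx_r, map_one])
    (mul_inv_eq_iff_eq_mul.1 (k4 (g := x) (a := d) (b := d) (xx_conj_dp h))).symm nc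
    (by rw [← map_mul, k1, coe_mul, tt_mul_tt]; exact one_mem _) td
    (fun g c e => by
      obtain ⟨g, rfl⟩ := sj g
      obtain ⟨μ, c⟩ := k3 c
      refine (ui g g.2 (comm_t r2 c) (k1.1 ((map_mul π _ _).trans e))).imp k1.2 fun z => k2.2 ?_
      rwa [inv_eq_of_mul_eq_one_right tt_mul_tt])
    (fun g c => by
      obtain ⟨g, rfl⟩ := sj g
      obtain ⟨μ, c⟩ := k3 c
      rw [← map_pow]
      exact k1.2 (pow_Z h rd g.2 c))
    (fun g c c' => by
      obtain ⟨g, rfl⟩ := sj g
      obtain ⟨μ, c⟩ := k3 c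
      obtain ⟨ν, c'⟩ := k3 c'
      obtain ⟨j, n, e⟩ := self_Z h c c'
      exact ⟨d ^ j * x ^ n, mul_mem (pow_mem (subset_closure (.inr rfl)) j)
        (pow_mem (subset_closure (.inl rfl)) n), (k2.2 e).symm⟩)
    (Commute.map (show Commute (⟨_, hb.p⟩ : G) d from Subtype.ext ((Commute.all _ _).map dg).eq) π) px
    (k4 (g := ⟨_, hb.ph⟩) (a := x) (b := d) (μ := 1) (by rw [map_one, one_mul]; exact φx))
  have xS : xx F r ∈ specialLinear (ZMod r) F := by
    obtain ⟨m, hm⟩ := hf.prime.odd_of_ne_two r2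
    have a : GeneralLinearGroup.det (xx F r) ^ 2 = 1 := Units.ext (by
      rw [Units.val_pow_eq_pow_val, GeneralLinearGroup.val_det_apply, xx, det_pm, ← Int.cast_pow,
        ← Units.val_pow_eq_pow_val, Int.units_sq]; simp)
    have b := congrArg GeneralLinearGroup.det (xx_r (F := F) (r := r))
    rw [map_pow, map_one] at b
    change GeneralLinearGroup.det (xx F r) = 1
    generalize GeneralLinearGroup.det (xx F r) = c at a b
    rwa [hm, pow_succ, pow_mul, a, one_pow, one_mul] at b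
  have nS : (specialLinear (ZMod r) F).Normal := MonoidHom.normal_ker _
  have RS : R6 r ω ≤ specialLinear (ZMod r) F := (closure_le _).2 (by
    rintro _ (rfl | rfl)
    exacts [xS, φx ▸ nS.conj_mem _ xS _])
  have xR : xx F r ∈ R6 r ω := subset_closure (.inl rfl)
  have dR : dp r ω 1 ∈ R6 r ω := subset_closure (.inr rfl)
  have wR : sc _ ω ∈ R6 r ω := by
    have := mul_mem (mul_mem xR dR) (inv_mem xR)
    rwa [xx_conj_dp h, mul_mem_cancel_right dR, map_inv, inv_mem_iff] at this
  refine fun g hg => mem_normalizer_of_cj_le ?_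
  rintro _ ⟨ρ, hρ, rfl⟩
  obtain ⟨ρ, h1, rfl⟩ := RG.ge hρ
  obtain ⟨ρ', h2, e⟩ := N.conj_mem _ ⟨ρ, h1, rfl⟩ (π ⟨g, hg⟩)
  rw [← map_inv, ← map_mul, ← map_mul] at e
  have h3 : ρ'.1 ∈ R6 r ω := RG.le ⟨ρ', h2, rfl⟩
  obtain ⟨μ, e⟩ := mem_scalars_iff'.1 (k2.1 e.symm)
  have h4 : sc _ μ ∈ specialLinear (ZMod r) F := e ▸ mul_mem (nS.conj_mem _ (RS hρ) g) (inv_mem (RS h3))
  obtain ⟨k, rfl⟩ := exists_w h (c := μ) (Units.ext (by simpa [mem_specialLinear, coe_sc] using h4))
  change (⟨g, hg⟩ * ρ * ⟨g, hg⟩⁻¹ : G).1 ∈ _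
  rw [mul_inv_eq_iff_eq_mul.1 e, w, map_pow]
  exact mul_mem (pow_mem wR k.val) h3

end END

section WR
open H13.C6

theorem sum_pow11 : ∑ i : ZMod 11, i ^ 1 = 0 ∧ ∑ i : ZMod 11, i ^ 2 = 0 := by decide

theorem jobWR1 {F : Type u} [Field F] [Finite F] {r : ℕ} [NeZero r] {ω : Fˣ} (hf : Fld1 r ω)
    (H : ∀ G : Subgroup (GL (ZMod r) F), Base ω G → G ≤ subgroupNormalizer (R6 r ω) ∨ Big G) :
    IsMaximalIn (specialLinear (ZMod r) F)
      (subgroupNormalizer (R6 r ω) ⊓ specialLinear (ZMod r) F) := by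
  have sp : ∑ i : ZMod r, i ^ 1 = 0 ∧ ∑ i : ZMod r, i ^ 2 = 0 := by
    obtain rfl := hf.hr
    exact sum_pow11
  have := Fact.mk hf.prime
  have h := hf.ord
  refine H60.isMaximalIn_of ⟨(SpecialLinearGroup.transvection (zero_ne_one' (ZMod r)) 1).toGL,
    Units.ext (by simp), fun c => ?_⟩ fun M m1 m2 g hg hg' => ?_
  · obtain ⟨v, σ, e⟩ := mono_of_mem ((Subgroup.mem_normalizer_iff.1 c _).1 dp_mem_R6)
    rw [mul_inv_eq_iff_eq_mul, mul_assoc] at e
    have e0 := congrArg (fun g : GL (ZMod r) F => g.val 0 0) e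
    have e1 := congrArg (fun g : GL (ZMod r) F => g.val 0 1) e
    simp only [Units.val_mul, dp, dg_val, mul_diagonal, diagonal_mul, pm_mul_apply,
      SpecialLinearGroup.coe_GL_coe_matrix, SpecialLinearGroup.transvection_coe] at e0 e1
    by_cases c : σ⁻¹ 0 = 0
    · simp [c, w_one h] at e0 e1
      exact one_ne_zero ((w_eq_one_iff h).1 ((w_one h).trans (Units.ext (e1.trans e0.symm))))
    · simp only [Matrix.add_apply, one_apply_ne c] at e0
      simp at e0
  have k : ∀ g ∈ subgroupNormalizer (R6 r ω), ∀ c : Fˣ, GeneralLinearGroup.det g ^ 2 = c ^ r →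
      g ∈ M ⊔ scalars (ZMod r) F := fun g a c e => by
    obtain ⟨m, hm⟩ : ∃ m, r + 1 = 2 * m := ⟨6, by rw [hf.hr]⟩
    have h1 : sc _ (GeneralLinearGroup.det g * (c ^ m)⁻¹) * g ∈ M := m1 ⟨mul_mem (sc_mem_N6 _) a, by
      change GeneralLinearGroup.det _ = 1
      rw [map_mul, det_sc, mul_pow, mul_right_comm, ← pow_succ, hm, pow_mul, e, inv_pow,
        ← pow_mul, ← pow_mul, mul_comm r, mul_inv_cancel]⟩
    exact (mul_mem_cancel_left (Subgroup.mem_sup_right (sc_mem _))).1 (Subgroup.mem_sup_left h1)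
  have hb : Base ω (M ⊔ scalars (ZMod r) F) := by
    refine ⟨fun c => Subgroup.mem_sup_right (sc_mem c), fun a b => k _ (pm_mem_N6 h a b) 1 ?_,
      k _ (Subgroup.le_normalizer dp_mem_R6) 1 ?_, k _ (p_mem_N6 h) 1 ?_,
      k _ (ph_mem_N6 h) (Units.mk0 _ (cast_ne_zero h) * GeneralLinearGroup.det (tt F r)) ?_⟩
    · rw [det_pm_sq, one_pow]
    · rw [det_dp h sp.1, one_pow, one_pow]
    · rw [det_dp h sp.2, one_pow, one_pow]
    · obtain ⟨m, hm⟩ : ∃ m, r = 2 * m + 1 := ⟨5, by rw [hf.hr]⟩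
      rw [sq, ← map_mul, Ph_sq h, map_mul, det_sc, mul_pow, mul_right_inj]
      conv_rhs => enter [2]; rw [hm]
      rw [pow_succ, pow_mul, tt, hh, det_pm_sq, one_pow, one_mul]
  rcases H _ hb with c | c
  · exact absurd (c (Subgroup.mem_sup_left hg)) hg'
  intro s hs
  have : (scalars (ZMod r) F).Normal := ⟨fun n hn g => by
    rwa [← comm_of_mem_scalars hn, mul_inv_cancel_right]⟩
  obtain ⟨m, a, z, b, rfl⟩ := Subgroup.mem_sup_of_normal_right.1 (c hs)
  obtain ⟨μ, rfl⟩ := mem_scalars_iff'.1 b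
  exact mul_mem a (m1 ⟨sc_mem_N6 μ, (mul_mem_cancel_left (m2 a)).1 hs⟩)

end WR

end H53.C11
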