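import Cfsg.Agent.H53.C6Fld
import Cfsg.Agent.H61.C6DK
import Cfsg.Agent.H95.C6SW
import Cfsg.Agent.H95.C6End
import Cfsg.Agent.H72.C6A
import Cfsg.Agent.H72.C6B
import Cfsg.Agent.H26.C6A
import Cfsg.Agent.H26.C6CT5
import Cfsg.Agent.H13.C6Mod
import Cfsg.Agent.H13.C6WR
import Cfsg.Agent.H13.C6Hom
import Cfsg.Agent.H13.C6EL

/-! Tower C6P: the normaliser of `5^{1+2}` is maximal in `SL₅(p)`; the common part for `r = 7`. -/

set_option autoImplicit false

namespace H53.C6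

open Matrix Cfsg.Geo

universe u

theorem core' (sgn : JobSGN.{u}) : All.{u} fun F _ _ _ ω G => OddF F → Big G ∨ (ND G ∧ YD ω G) :=
  core H61.C6.jobDKa H61.C6.jobDKb H61.C6.jobDKs H13.C6.jobEL H13.C6.jobHOM sgn
    H26.C6A.jobA H95.C6.jobSW H72.C6T.jobTR

theorem ND.rd {F : Type u} [Field F] {r : ℕ} [NeZero r] {G : Subgroup (GL (ZMod r) F)} (h : ND G) :
    RD G := fun v hv i j => (h v hv i).trans (h v hv j).symm

theorem max_of {F : Type u} [Field F] [Fintype F] {r : ℕ} [NeZero r] {ω : Fˣ} (hf : Fld r ω)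
    (h : ∀ G : Subgroup (GL (ZMod r) F), Base ω G → Big G ∨ (RD G ∧ UI G))
    (R : Subgroup (GL (ZMod r) F)) (hR : IsLinearSymplecticTypeData r R) :
    IsMaximalIn (specialLinear (ZMod r) F) (subgroupNormalizer R ⊓ specialLinear (ZMod r) F) :=
  H13.C6.jobMOD F r ω (by rcases hf.hr with rfl | rfl <;> norm_num) hf.ord R hR
    (H13.C6.jobWR F r ω hf fun G hb =>
      (h G hb).symm.imp_left fun e => H95.C6.jobEND F r ω G hf hb e.1 e.2)

theorem max_five (sgn : JobSGN.{u}) {F : Type u} [Field F] [Fintype F] {p : ℕ} (hp : p.Prime)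
    (hc : Fintype.card F = p) (h5 : p % 5 = 1) (R : Subgroup (GL (Fin 5) F))
    (hR : IsLinearSymplecticTypeData 5 R) :
    IsMaximalIn (specialLinear (Fin 5) F) (subgroupNormalizer R ⊓ specialLinear (Fin 5) F) := by
  have : CharP F p := by
    have := Fact.mk hp
    exact charP_of_card_eq_prime hc
  obtain ⟨ω, hω⟩ := exists_order (F := F) (r := 5) (by norm_num) (by omega)
  have hf : Fld 5 ω := fld_of hp (.inl rfl) (by simpa using hc) (.inl rfl) (by simp) hω
  have ho : OddF F := oddF_of hp (.inl rfl) (by simpa using hc) (by simp; omega)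
  refine max_of hf (fun G hb => (core' sgn F 5 ω G hf hb ho).imp_right fun ⟨nd, yd⟩ =>
    ⟨nd.rd, H26.C6CT.jobCT5 H72.C6.jobFR H72.C6.jobKS F 5 ω G hf hb rfl ho.h2 ?_⟩) R hR
  exact (H95.C6.jobEV F 5 ω G hf hb nd yd).resolve_right fun e => by simp at e

end H53.C6
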