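import Cfsg.Agent.H53.C6Main
import Cfsg.Agent.H79.C6QU
import Cfsg.Agent.H79.C6CT
import Cfsg.Agent.H31.C6I

/-! Tower C6P: the normaliser of `7^{1+2}` is maximal in `SL₇(q)`. -/

set_option autoImplicit false

namespace H53.C6

open Matrix Cfsg.Geo

universe u

theorem max_seven (sgn : JobSGN.{u}) (q8 : JobQ8.{u}) {F : Type u} [Field F] [Fintype F] {p : ℕ}
    (hp : p.Prime) [CharP F p] (hc : (Fintype.card F = p ∧ p % 7 = 1) ∨
      (Fintype.card F = p ^ 3 ∧ (p % 7 = 2 ∨ p % 7 = 4))) (R : Subgroup (GL (Fin 7) F))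
    (hR : IsLinearSymplecticTypeData 7 R) :
    IsMaximalIn (specialLinear (Fin 7) F) (subgroupNormalizer R ⊓ specialLinear (Fin 7) F) := by
  obtain ⟨e, he, h1, h2, h3⟩ : ∃ e, (e = 1 ∨ e = 3) ∧ Fintype.card F = p ^ e ∧
      (e = 3 → ¬ 7 ∣ p - 1) ∧ 7 ∣ Fintype.card F - 1 := by
    rcases hc with ⟨h, h'⟩ | ⟨h, h'⟩
    · exact ⟨1, .inl rfl, by simpa using h, by simp, by omega⟩
    · have : p ^ 3 % 7 = 1 := by rcases h' with h' | h' <;> simp [Nat.pow_mod, h']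
      exact ⟨3, .inr rfl, h, by omega, by omega⟩
  by_cases h8 : p = 2
  · have h4 : Fintype.card F = 8 := by
      subst h8
      exact (hc.resolve_left fun h => by simp at h).1
    obtain ⟨ω, hω, hr⟩ := exists_order8 h4
    have hf : Fld 7 ω := fld_of hp he h1 (.inr rfl) h2 hω
    have h5 : ∀ c : Fˣ, c ^ 7 = 1 := fun c => Units.ext (by
      simpa [h4] using FiniteField.pow_card_sub_one_eq_one (c : F) c.ne_zero)
    exact max_of hf (fun G hb => (q8 F 7 ω G hf hb rfl (by simpa using h4) hr).imp_right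
      fun e => ⟨fun v _ i j => by rw [h5, h5], e⟩) R hR
  obtain ⟨ω, hω⟩ := exists_order (F := F) (r := 7) (by norm_num) h3
  have hf : Fld 7 ω := fld_of hp he h1 (.inr rfl) h2 hω
  have ho : OddF F := oddF_of hp he h1 (by simp; omega)
  refine max_of hf (fun G hb => (core' sgn F 7 ω G hf hb ho).imp_right fun ⟨nd, yd⟩ =>
    ⟨nd.rd, H79.C6.jobCT7 H72.C6.jobFR H72.C6.jobKS H31.C6.jobINV3 F 7 ω G hf hb rfl ho.h2 ?_⟩) R hR
  exact (H95.C6.jobEV F 7 ω G hf hb nd yd).resolve_right fun e =>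
    H79.C6.jobQU H61.C6.jobDKb H31.C6.jobT3 F 7 ω G hf hb rfl ho nd yd e.2

end H53.C6
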