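import Cfsg.Agent.H25.RowBlock

/-! Tower C6P (normalisers of `r^{1+2}`, `r = 5, 7`; blueprint `C6P.md`): the jobs in dimension
two, three and five that do not mention the extraspecial group. -/

set_option autoImplicit false

namespace H53.C6

open Matrix Cfsg.Geo

universe u

/-- a dihedral subgroup of the split torus normaliser and a non-monomial element -/
def JobDKa : Prop := ∀ (F : Type u) [Field F] [Finite F] (H : Subgroup (GL (Fin 2) F)) (r : ℕ)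
  (a b : Fˣ) (δ s g : GL (Fin 2) F), r.Prime → 5 ≤ r → orderOf (a / b) = r → δ ∈ H →
  δ.val = !![(a : F), 0; 0, (b : F)] → s ∈ H → s.val = !![0, 1; 1, 0] → g ∈ H →
  ¬ (g.val 0 1 = 0 ∧ g.val 1 0 = 0) → ¬ (g.val 0 0 = 0 ∧ g.val 1 1 = 0) →
  Even (Nat.card (⁅H, H⁆ : Subgroup (GL (Fin 2) F)))

/-- a split element, an element in general position and an element of order `> 5` -/
def JobDKb : Prop := ∀ (F : Type u) [Field F] [Finite F] (H : Subgroup (GL (Fin 2) F))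
  (a b : F) (δ g y : GL (Fin 2) F), ¬ IsSquare (Nat.card F) → δ ∈ H → δ.val = !![a, 0; 0, b] →
  a ^ 2 ≠ b ^ 2 → g ∈ H → g.val 0 1 ≠ 0 → g.val 1 0 ≠ 0 → (g.val 0 0 ≠ 0 ∨ g.val 1 1 ≠ 0) →
  y ∈ H → (∀ m, 1 ≤ m → m ≤ 5 → y ^ m ∉ scalars (Fin 2) F) →
  ∃ c : F, c ≠ 0 ∧ ∃ u ∈ H, u.val = !![1, c; 0, 1]

/-- irreducible primitive subgroups over a prime field -/
def JobDKs : Prop := ∀ (F : Type) [Field F] [Finite F] (H : Subgroup (GL (Fin 2) F))
  (i j y g : GL (Fin 2) F), (Nat.card F).Prime → (2 : F) ≠ 0 → scalars (Fin 2) F ≤ H → i ∈ H →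
  j ∈ H → i.val * j.val = -(j.val * i.val) → y ∈ H →
  (∀ m, 1 ≤ m → m ≤ 5 → y ^ m ∉ scalars (Fin 2) F) → g ∈ H →
  ¬ Commute (g * y ^ 2 * g⁻¹) (y ^ 2) → specialLinear (Fin 2) F ≤ H

/-- one class of involutions in dimension three -/
def JobINV3 : Prop := ∀ (F : Type u) [Field F] [Finite F] (H : Subgroup (GL (Fin 3) F)),
  (2 : F) ≠ 0 → H ≤ specialLinear (Fin 3) F → (∀ L : Subgroup H, L.index ≠ 2) →
  ∀ a ∈ H, ∀ b ∈ H, orderOf a = 2 → orderOf b = 2 → ∃ g ∈ H, g * a * g⁻¹ = b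

/-- five lines, `q ≥ 5` -/
def JobM5 : Prop := ∀ (F : Type u) [Field F] [Fintype F], 5 ≤ Fintype.card F →
  ∀ D : Fin 5 → Submodule F (Fin 5 → F), IsMDecomposition 1 D →
    IsMaximalIn (specialLinear (Fin 5) F) (decompositionStabilizer D ⊓ specialLinear (Fin 5) F)

/-- homologies of order seven in dimension three -/
def JobT3 : Prop := JobDKb.{u} → ∀ (F : Type u) [Field F] [Finite F] (ω : F)
  (H : Subgroup (GL (Fin 3) F)), IsPrimitiveRoot ω 7 → (∀ K : Subfield F, ω ∈ K → K = ⊤) →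
  ¬ IsSquare (Nat.card F) → (13 : F) ≠ 0 →
  (∀ a b c : ℕ, ∃ g ∈ H, g.val = !![ω ^ a, 0, 0; 0, ω ^ b, 0; 0, 0, ω ^ c]) →
  (∃ g ∈ H, g.val = !![0, 0, -1; 1, 0, 0; 0, -1, 0]) →
  (∃ g ∈ H, g.val = !![ω - ω ^ 6, ω ^ 2 - ω ^ 5, ω ^ 3 - ω ^ 4;
    ω ^ 2 - ω ^ 5, ω ^ 4 - ω ^ 3, ω ^ 6 - ω; ω ^ 3 - ω ^ 4, ω ^ 6 - ω, ω ^ 2 - ω ^ 5]) →
  specialLinear (Fin 3) F ≤ H

/-- The section of `H` on the columns of `B`. -/
def sec {F : Type u} [Field F] {ι κ : Type} [Fintype ι] [DecidableEq ι] [Fintype κ]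
    [DecidableEq κ] (H : Subgroup (GL ι F)) (B : Matrix ι κ F) : Subgroup (GL κ F) where
  carrier := {A | ∃ g ∈ H, g.val * B = B * A.val}
  one_mem' := ⟨1, H.one_mem, by simp⟩
  mul_mem' := by
    rintro a b ⟨g, hg, e⟩ ⟨h, hh, f⟩
    exact ⟨g * h, H.mul_mem hg hh, by
      rw [Units.val_mul, Units.val_mul, Matrix.mul_assoc, f, ← Matrix.mul_assoc, e,
        Matrix.mul_assoc]⟩
  inv_mem' := by
    rintro a ⟨g, hg, e⟩
    refine ⟨g⁻¹, H.inv_mem hg, ?_⟩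
    have := congrArg (fun X => (g⁻¹).val * X * (a⁻¹).val) e
    simp only [← Matrix.mul_assoc, Units.inv_mul, Matrix.one_mul] at this
    rw [this, Matrix.mul_assoc, Matrix.mul_assoc, Units.mul_inv, Matrix.mul_one]

theorem mem_sec {F : Type u} [Field F] {ι κ : Type} [Fintype ι] [DecidableEq ι] [Fintype κ]
    [DecidableEq κ] {H : Subgroup (GL ι F)} {B : Matrix ι κ F} {A : GL κ F} :
    A ∈ sec H B ↔ ∃ g ∈ H, g.val * B = B * A.val := Iff.rfl

/-- no power `y ^ m`, `m ≤ 5`, is scalar -/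
theorem pow_not_scalar {F : Type u} [Field F] {y : GL (Fin 2) F} {T D : F}
    (h : y.val 0 1 ≠ 0 ∨ y.val 1 0 ≠ 0) (hT : y.val 0 0 + y.val 1 1 = T)
    (hD : y.val 0 0 * y.val 1 1 - y.val 0 1 * y.val 1 0 = D) (h2 : T ≠ 0) (h3 : T ^ 2 ≠ D)
    (h4 : T ^ 2 ≠ 2 * D) (h5 : T ^ 4 - 3 * T ^ 2 * D + D ^ 2 ≠ 0) (m : ℕ) (m1 : 1 ≤ m)
    (m5 : m ≤ 5) : y ^ m ∉ scalars (Fin 2) F := fun hm => by
  obtain ⟨c, hc⟩ := (mem_scalars_iff _).1 hm
  have e1 := congrFun (congrFun hc 0) 1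
  have e2 := congrFun (congrFun hc 1) 0
  subst hT hD
  have h3' := sub_ne_zero.2 h3
  have h4' := sub_ne_zero.2 h4
  interval_cases m <;>
    simp only [pow_succ, pow_zero, one_mul, Units.val_mul, mul_apply, Fin.sum_univ_two, Matrix.smul_apply,
      one_apply, smul_eq_mul] at e1 e2 <;> simp at e1 e2 <;> rcases h with h | h
  · exact h e1
  · exact h e2
  · exact mul_ne_zero h h2 (by linear_combination e1)
  · exact mul_ne_zero h h2 (by linear_combination e2)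
  · exact mul_ne_zero h h3' (by linear_combination e1)
  · exact mul_ne_zero h h3' (by linear_combination e2)
  · exact mul_ne_zero h (mul_ne_zero h2 h4') (by linear_combination e1)
  · exact mul_ne_zero h (mul_ne_zero h2 h4') (by linear_combination e2)
  · exact mul_ne_zero h h5 (by linear_combination e1)
  · exact mul_ne_zero h h5 (by linear_combination e2)

end H53.C6
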