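import Cfsg.Agent.H53.C6Q8
import Cfsg.Agent.H79.C6CT
import Cfsg.Agent.H57.SLGen
import Cfsg.Agent.S5774

/-! Tower C6P, `q = 8`: the image of the centraliser of `t` is `L₃(2)`. -/

set_option autoImplicit false
set_option linter.unusedSectionVars false

namespace H53.C6

open Matrix Cfsg.Geo H25 Equiv H79.C6

universe u

abbrev M2 := Matrix (Fin 3) (Fin 3) (ZMod 2)

def p0 : M2 := !![0, 0, 1; 1, 0, 1; 0, 1, 0]
def h0 : M2 := !![1, 0, 0; 0, 0, 1; 0, 1, 1]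
def f0 : M2 := !![1, 0, 0; 0, 1, 0; 0, 1, 1]

theorem conj_f0 (Z : M2) (h : Z * Z = 1) : Z = 1 ∨ ∃ a < 7, ∃ b < 3,
    p0 ^ a * h0 ^ b * Z = f0 * (p0 ^ a * h0 ^ b) := by
  have : ∀ a b c d e f g h i : ZMod 2, (!![a, b, c; d, e, f; g, h, i] : M2) *
      !![a, b, c; d, e, f; g, h, i] = 1 → (!![a, b, c; d, e, f; g, h, i] : M2) = 1 ∨ ∃ x < 7, ∃ y < 3,
      p0 ^ x * h0 ^ y * !![a, b, c; d, e, f; g, h, i] = f0 * (p0 ^ x * h0 ^ y) := by decide +kernel
  rw [eta_fin_three Z] at h ⊢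
  exact this _ _ _ _ _ _ _ _ _ h

theorem gen_M2 (S : Submonoid M2) (hp : p0 ∈ S) (hh : h0 ∈ S) (hf : f0 ∈ S) {Z : M2}
    (hZ : Z.det = 1) : Z ∈ S := by
  refine H57.sl_transvection_induction (fun A => A.1 ∈ S) S.one_mem (fun i j hij c => ?_)
    (fun _ _ => S.mul_mem) ⟨Z, hZ⟩
  have : ∀ (i j : Fin 3) (c : ZMod 2), i ≠ j → transvection i j c ∈ [1, h0 * p0 * p0 * p0 * f0 * p0,
    p0 * p0 * p0 * f0 * p0 * h0, p0 * f0 * p0 * h0 * f0 * p0 * f0, h0 * f0,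
    p0 * f0 * p0 * h0 * p0 * h0, f0] := by decide +kernel
  have := this i j c hij
  simp only [List.mem_cons, List.not_mem_nil, or_false] at this
  change transvection i j c ∈ S
  rcases this with e | e | e | e | e | e | e <;> rw [e] <;>
    repeat first | assumption | apply S.mul_mem | apply S.one_mem

variable {F : Type u} [Field F] [Finite F] {ω : Fˣ} {G : Subgroup (GL (ZMod 7) F)}

/-- the rational basis -/
def BB (h : Q8 ω G) : GL (Fin 3) F :=
  ⟨!![1, ω, ω ^ 2; 1, ω ^ 4, ω; 1, ω ^ 2, ω ^ 4], !![1, 1, 1; ω ^ 2, ω, ω ^ 4; ω, ω ^ 4, ω ^ 2], by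
    have := h.two
    have := h.rel
    ext i j; fin_cases i <;> fin_cases j <;> simp [mul_apply, Fin.sum_univ_three] <;> grind, by
    have := h.two
    have := h.rel
    ext i j; fin_cases i <;> fin_cases j <;> simp [mul_apply, Fin.sum_univ_three] <;> grind⟩

theorem Q8.char (h : Q8 ω G) : CharP F 2 :=
  CharTwo.of_one_ne_zero_of_two_eq_zero one_ne_zero h.two

/-- the prime field -/
def φ2 (h : Q8 ω G) : ZMod 2 →+* F := have := h.char; ZMod.castHom dvd_rfl F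

/-- `GL₃(2)` in the rational basis -/
def ψ2 (h : Q8 ω G) : M2 →* Matrix (Fin 3) (Fin 3) F where
  toFun Z := (BB h).val * Z.map (φ2 h) * (BB h)⁻¹.val
  map_one' := by simp
  map_mul' a b := by simp [Matrix.map_mul, mul_assoc]

theorem og_eq (h : Q8 ω G) (c : ↥(G ⊓ Ct F 7)) (Z : M2)
    (e : odm 3 c.1.val * (BB h).val = (BB h).val * Z.map (φ2 h)) : (og G c).val = ψ2 h Z := by
  change _ = (BB h).val * Z.map (φ2 h) * (BB h)⁻¹.val
  rw [← e, og_val, Units.mul_inv_cancel_right]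

def eP (h : Q8 ω G) : ↥(G ⊓ Ct F 7) := ⟨_, h.base.p, mem_cent_tt.2 (comm_dp_tt 1)⟩

noncomputable def eF (h : Q8 ω G) : ↥(G ⊓ Ct F 7) :=
  ⟨_, h.base.ph, mem_cent_tt.2 (comm_Ph_tt h.fld.ord)⟩

def eH (h : Q8 ω G) : ↥(G ⊓ Ct F 7) :=
  ⟨_, h.base.hh (ZMod.unitOfCoprime 2 (by norm_num)), mem_cent_tt.2 (comm_hh_tt _)⟩

theorem odm_P (n : ℕ) : odm 3 (dp 7 ω 2 ^ n).val =
    diagonal ![(ω : F) ^ n, (ω ^ n) ^ 4, (ω ^ n) ^ 2] := by
  rw [dp, ← map_pow, odm_dg half7]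
  congr 1; ext k; fin_cases k
  exacts [congrArg (· ^ n) (pow_one _), pow_right_comm _ 4 n, pow_right_comm _ 2 n]

theorem og_P (h : Q8 ω G) : (og G (eP h)).val = ψ2 h p0 := og_eq h _ _ (by
  have := h.two
  have := h.rel
  rw [show (eP h).1 = dp 7 ω 2 ^ 1 from (pow_one _).symm, odm_P]
  ext i j; fin_cases i <;> fin_cases j <;> simp [BB, p0, mul_apply, Fin.sum_univ_three] <;> grind)

theorem og_H (h : Q8 ω G) : (og G (eH h)).val = ψ2 h h0 := og_eq h _ _ (by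
  have := h.two
  have := h.rel
  rw [eH, odm_h7 _ rfl]
  ext i j; fin_cases i <;> fin_cases j <;> simp [BB, h0, mul_apply, Fin.sum_univ_three] <;> grind)

theorem og_F (h : Q8 ω G) : (og G (eF h)).val = ψ2 h f0 := og_eq h _ _ (by
  have := h.two
  have := h.rel
  rw [eF, odm_Ph7 h.fld.ord]
  ext i j; fin_cases i <;> fin_cases j <;> simp [BB, f0, mul_apply, Fin.sum_univ_three] <;> grind)

theorem of_sub (h : Q8 ω G) {g : GL (Fin 3) F} (hg : g ∈ subfieldSubgroup (φ2 h).fieldRange (BB h)) :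
    ∃ (c : Fˣ) (Z : M2), Z.det = 1 ∧ g.val = (c : F) • ψ2 h Z := by
  let e := (φ2 h).rangeRestrictFieldEquiv
  obtain ⟨c, Z, hZ⟩ := mem_subfieldSubgroup.1 hg
  refine ⟨c, Z.val.map e.symm, ?_, ?_⟩
  · have : ∀ x : ZMod 2, x ≠ 0 → x = 1 := by decide
    exact this _ ((Z.isUnit.map e.symm.toRingHom.mapMatrix).map detMonoidHom).ne_zero
  · rw [hZ, H19.cj_apply]
    congr 3
    ext i j
    exact congrArg Subtype.val (e.apply_symm_apply (Z.val i j)).symm

theorem range_cases (h : Q8 ω G) : (∀ y, (og G y).val.det = 1 →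
    ∃ (c : Fˣ) (Z : M2), Z.det = 1 ∧ (og G y).val = (c : F) • ψ2 h Z) ∨
      specialLinear (Fin 3) F ≤ (og G).range := by
  have := Fintype.ofFinite F
  have hc : Fintype.card F = Nat.card (φ2 h).fieldRange ^ 3 := by
    rw [← Nat.card_congr (φ2 h).rangeRestrictFieldEquiv.toEquiv, ← Nat.card_eq_fintype_card, h.card]
    simp
  refine (((Cfsg.Agent.S5774.result (F := F)).2.2.2.1 _ 3 (BB h) (by norm_num) hc).2
    ((og G).range ⊓ specialLinear _ F) (fun g hg => ⟨?_, hg.2⟩) inf_le_right).imp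
      (fun e y hy => of_sub h (e.le ⟨⟨y, rfl⟩, mem_specialLinear.2 hy⟩).1) fun e => e.ge.trans inf_le_left
  obtain ⟨c, Z, h1, h3⟩ := of_sub h hg.1
  obtain ⟨_, ⟨y, rfl⟩, hy⟩ := gen_M2 (((og G).range.toSubmonoid.map (Units.coeHom _)).comap (ψ2 h))
    ⟨_, ⟨_, rfl⟩, og_P h⟩ ⟨_, ⟨_, rfl⟩, og_H h⟩ ⟨_, ⟨_, rfl⟩, og_F h⟩ h1
  refine ⟨⟨sc _ c, h.base.sc c, mem_cent_tt.2 (sc_comm _ _)⟩ * y, Units.ext ?_⟩
  rw [map_mul, Units.val_mul, og_val, odm_sc half7, h3, ← hy, smul_mul_assoc, one_mul]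
  rfl

theorem tt_ne_one : tt F 7 ≠ 1 := fun e => by
  simpa +decide [tt_apply] using congrArg (fun g : GL (ZMod 7) F => g.val 1 1) e

theorem not_big3 (h : Q8 ω G) (yp : YP ω G) (kt : KT G) :
    ¬ specialLinear (Fin 3) F ≤ (og G).range := fun e => by
  have := h.char
  have ot : odm 3 (tt F 7).val = 1 := by rw [odm_tt half7]; ext i j; simp [CharTwo.neg_eq]
  have P7 : dp 7 ω 2 ^ 7 = 1 := by
    rw [dp_pow h.fld.ord, ZMod.natCast_self]; simp [← Pi.one_def]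
  obtain ⟨c, hc⟩ := e (x := dg ![ω, ω⁻¹, 1]) (by
    simp [mem_specialLinear, det_dg, Fin.prod_univ_three])
  have h1 : og G (c * eP h * c⁻¹ * (eP h)⁻¹) = 1 := by
    have : og G (eP h) = dg ![ω, ω ^ 4, ω ^ 2] := Units.ext (by
      rw [og_val, show (eP h).1 = dp 7 ω 2 ^ 1 from (pow_one _).symm, odm_P, dg_val]
      congr 1; ext k; fin_cases k <;> simp)
    simp only [map_mul, map_inv, hc, this]
    simp only [← map_inv, ← map_mul]
    simp
  have h2 : Commute c.1 (dp 7 ω 2) := by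
    rcases kt _ (c * eP h * c⁻¹ * (eP h)⁻¹).2.1 (mem_cent_tt.1 (c * eP h * c⁻¹ * (eP h)⁻¹).2.2)
      (congrArg Units.val h1) with h3 | h3
    · exact mul_inv_eq_iff_eq_mul.1 (mul_inv_eq_one.1 h3)
    · have h4 := congrArg (· ^ 7) (mul_inv_eq_iff_eq_mul.1 h3 :
        c.1 * dp 7 ω 2 * c.1⁻¹ = tt F 7 * dp 7 ω 2)
      simp only [conj_pow, (comm_dp_tt 1).symm.mul_pow, P7, mul_one, mul_inv_cancel] at h4
      simp only [pow_succ, tt_mul_tt, pow_zero, one_mul] at h4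
      exact (tt_ne_one h4.symm).elim
  obtain ⟨μ, n, h3⟩ := yp _ c.2.1 h2 (mem_cent_tt.1 c.2.2)
  let y : ↥(Ct F 7) := ⟨sc _ μ, mem_cent_tt.2 (sc_comm _ _)⟩
  let z : ↥(Ct F 7) := ⟨dp 7 ω 2 ^ n, mem_cent_tt.2 ((comm_dp_tt 1).pow_left n)⟩
  let t : ↥(Ct F 7) := ⟨tt F 7, mem_cent_tt.2 (Commute.refl _)⟩
  have h4 : og G c = od half7 y * od half7 z := by
    rcases h3 with h3 | h3
    · rw [← map_mul]; exact congrArg (od half7) (Subtype.ext h3)
    · rw [← map_mul, ← mul_one (od half7 _), ← (Units.ext ot : od half7 t = 1), ← map_mul]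
      exact congrArg (od half7) (Subtype.ext h3)
  have h5 := congrArg Units.val (hc.symm.trans h4)
  rw [Units.val_mul, od_val, od_val, odm_sc half7, odm_P, dg_val, smul_mul_assoc, one_mul] at h5
  have a0 := congrFun (congrFun h5 0) 0
  have a1 := congrFun (congrFun h5 1) 1
  have a2 := congrFun (congrFun h5 2) 2
  simp at a0 a1 a2
  have := ω.mul_inv
  have := h.two
  have := h.rel
  generalize (ω : F) ^ n = x at *
  grind

theorem jobQH : JobQH.{u} := fun F _ _ ω G h yp kt g hg c1 c2 => by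
  have := h.char
  obtain ⟨μ, hμ⟩ := mem_scalars_iff'.1 c2
  have μ7 : μ ^ 7 = 1 := Units.ext (by simpa using h.pow7 μ.ne_zero)
  let y : ↥(G ⊓ Ct F 7) := ⟨sc _ (μ ^ 3) * g, G.mul_mem (h.base.sc _) hg,
    mem_cent_tt.2 (Commute.mul_left (sc_comm _ _) c1)⟩
  have y2 : y * y = 1 := Subtype.ext (by
    change sc _ (μ ^ 3) * g * (sc _ (μ ^ 3) * g) = 1
    rw [mul_assoc, ← mul_assoc g, ← sc_comm, mul_assoc, hμ, ← map_mul, ← map_mul, ← pow_succ,
      ← pow_add, μ7, map_one])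
  have y3 : (og G y).val * (og G y).val = 1 := by rw [← Units.val_mul, ← map_mul, y2]; simp
  have kt' : ∀ k : ↥(G ⊓ Ct F 7), og G k = 1 → k.1 = 1 ∨ k.1 = tt F 7 := fun k hk =>
    kt _ k.2.1 (mem_cent_tt.1 k.2.2) (congrArg Units.val hk)
  have y4 : (og G y).val.det = 1 := by
    have := congrArg det y3
    rw [det_mul, det_one, mul_self_eq_one_iff] at this
    simpa [CharTwo.neg_eq] using this
  obtain ⟨c, Z, z1, z2⟩ := (range_cases h).resolve_right (not_big3 h yp kt) y y4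
  have z3 : (ψ2 h Z).det = 1 := by
    change ((BB h).val * (φ2 h).mapMatrix Z * (BB h)⁻¹.val).det = 1
    rw [det_units_conj, ← RingHom.map_det, z1, map_one]
  have z4 : (c : F) = 1 := by
    rw [z2, det_smul, z3] at y4
    simp only [Fintype.card_fin, mul_one] at y4
    linear_combination h.pow7 c.ne_zero - ((c : F) ^ 4 + c) * y4
  rw [z4, one_smul] at z2
  have inj : Function.Injective (ψ2 h) := fun a b e =>
    map_injective (φ2 h).injective ((Units.mul_right_inj _).1 ((Units.mul_left_inj _).1 e))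
  rcases conj_f0 Z (inj (by rw [map_mul, ← z2, y3, map_one])) with rfl | ⟨a, -, b, -, e⟩
  · rcases kt' y (Units.ext (z2.trans (map_one _))) with e | e
    · exact .inl (mem_scalars_iff'.2 ⟨(μ ^ 3)⁻¹, by rw [map_inv]; exact eq_inv_of_mul_eq_one_right e⟩)
    · refine .inr (mem_scalars_iff'.2 ⟨(μ ^ 3)⁻¹, ?_⟩)
      rw [map_inv, eq_inv_iff_mul_eq_one, ← sc_comm, ← mul_assoc]
      exact (congrArg (· * tt F 7) e).trans tt_mul_tt
  let v := eP h ^ a * eH h ^ b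
  have e1 : og G ((eF h)⁻¹ * (v * y * v⁻¹)) = 1 := by
    rw [map_mul, map_inv, inv_mul_eq_one, map_mul, map_inv, eq_mul_inv_iff_mul_eq, map_mul]
    refine Units.ext ?_
    simp only [v, map_mul, map_pow, Units.val_mul, Units.val_pow_eq_pow_val, og_P, og_H, og_F, z2]
    simp only [← map_mul, ← map_pow, e]
  have e2 : Ph 7 ω * Ph 7 ω = tt F 7 := by
    rw [Ph_sq h.fld.ord, show Units.mk0 _ (cast_ne_zero h.fld.ord) = 1 from
      Units.ext (by simp; linear_combination 3 * h.two), map_one, one_mul]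
  have e3 : (v * y * v⁻¹).1 * (v * y * v⁻¹).1 = 1 := by
    rw [← Subgroup.coe_mul, conj_mul, y2]; simp
  refine (tt_ne_one (F := F) ?_).elim
  rcases kt' _ e1 with e | e
  · rw [← e2, ← e3, ← (inv_mul_eq_one.1 e : Ph 7 ω = (v * y * v⁻¹).1)]
  · rw [(inv_mul_eq_iff_eq_mul.1 e : (v * y * v⁻¹).1 = Ph 7 ω * tt F 7),
      (comm_Ph_tt h.fld.ord).symm.mul_mul_mul_comm, e2, tt_mul_tt, mul_one] at e3
    exact e3

end H53.C6
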