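import Cfsg.Agent.H53.CKBase

/-! Assembly of the tower CK. -/

set_option autoImplicit false

namespace H53.CK

open Module Submodule

universe u v

/-- all jobs -/
structure Jobs : Prop where
  ws : JobWS.{u, v}
  wf : JobWF.{u, v}
  b1 : JobB1.{u, v}
  pl : JobPL.{u, v}
  ts : JobTS.{u, v}
  i : JobI.{u, v}
  ii : JobII.{u, v}
  r5 : JobR5.{u, v}
  pent : JobPent.{u, v}
  r4 : JobR4.{u, v}
  psi : JobPsi.{u, v}

variable {F : Type u} [Field F] [Finite F]

theorem t2_quo (J : Jobs.{u, v}) {V : Type v} [AddCommGroup V] [Module F V] [FiniteDimensional F V]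
    {G : Subgroup (V ≃ₗ[F] V)} (hs : Sc G) (h : T2 G) (hn : 3 ≤ finrank F V) {x : V} (hx : x ≠ 0) :
    T2 (quo G (F ∙ x)) := by
  have hpl := (J.pl J.ws F V G hs h).1
  obtain ⟨⟨T⟩, hT⟩ := J.ts J.ws J.wf J.b1 F V G hs h hpl hn
  obtain ⟨⟨r, hr⟩, htop⟩ := hT T
  refine htop (fun a b hab => ?_) x hx
  by_contra hne
  have hlt : r < finrank F V := hr.rk a b hab ▸ finrank_lt hne
  have hc := hr.dich.resolve_left (J.i F V G T r hr (by omega) hlt)
  obtain ⟨z, hz, hz'⟩ := T.nt a b hab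
  have hz1 : z ∉ F ∙ a := fun h1 => hz' (span_mono (by simp) h1)
  have h4 : 4 ≤ r := by
    have h1 := hc a b z ⟨hab, hz'⟩ hz
    have h2 : span F {a, b} < T.W a b ⊓ T.W a z :=
      lt_of_le_of_ne (span_le.2 <| Set.insert_subset ⟨T.left _ _, T.left _ _⟩ <|
        Set.singleton_subset_iff.2 ⟨T.right _ _ hab.1, T.symm a b z hab.1 hz1 hz⟩)
        fun h3 => hz' (h3 ▸ ⟨hz, T.right _ _ hab.1⟩)
    have h3 : (F ∙ a) < span F {a, b} := lt_of_le_of_ne (span_mono (by simp))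
      fun h3 => hab.2 (h3 ▸ subset_span (by simp))
    have h5 := finrank_lt_finrank_of_lt h2
    have h6 := finrank_lt_finrank_of_lt h3
    rw [finrank_span_singleton hab.1] at h6
    omega
  rcases h4.eq_or_lt with rfl | h5
  · exact J.r4 J.pent F V G T hpl hr hc (by omega)
  obtain ⟨D, hD, h2, T', hT'⟩ := J.r5 F V G T r hs h hpl hr hc h5 hlt
  obtain ⟨r', hr'⟩ := ((J.ts J.ws J.wf J.b1 F D _ (hs.res D) h2
    (J.pl J.ws F D _ (hs.res D) h2).1 (by omega)).2 T').1
  have : Nontrivial D := Module.nontrivial_of_finrank_pos (R := F) (by omega)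
  obtain ⟨c, hc0⟩ := exists_ne (0 : D)
  obtain ⟨d, hd⟩ := exists_ind (F := F) (by omega) hc0
  obtain rfl : r' = r := (hr'.rk c d hd).symm.trans (hT' c d hd)
  exact J.ii J.ws J.wf J.b1 F D _ T' r' (hs.res D) h2 hr' hD.symm h5

theorem main_sc (J : Jobs.{u, v}) (n : ℕ) : ∀ {V : Type v} [AddCommGroup V] [Module F V]
    [FiniteDimensional F V] {G : Subgroup (V ≃ₗ[F] V)}, finrank F V = n → Sc G → T2 G →
    (finrank F V = 4 ∧ Nat.card F = 2) ∨ AllTv G := by
  induction n with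
  | zero => exact fun hn hs h => .inr ((J.pl J.ws F _ _ hs h).2.1 (by omega))
  | succ n ih =>
    intro V _ _ _ G hn hs h
    have hp := (J.pl J.ws F V G hs h).2
    by_cases h3 : finrank F V ≤ 3
    · exact .inr (hp.1 h3)
    have : Nontrivial V := Module.nontrivial_of_finrank_pos (R := F) (by omega)
    obtain ⟨x, hx⟩ := exists_ne (0 : V)
    have hq := t2_quo J hs h (by omega) hx
    have hd := (F ∙ x).finrank_quotient_add_finrank
    rw [finrank_span_singleton hx] at hd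
    have hψ := J.psi F V G x hx
    have ha : AllTv (quo G (F ∙ x)) → (finrank F V = 4 ∧ Nat.card F = 2) ∨ AllTv G := fun ha =>
      (hψ.1 (by omega) ha).imp_right hp.2
    rcases ih (by omega) (hs.quo _) hq with ⟨h1, h2⟩ | h1
    · rcases hψ.2 (by omega) h2 (h.af hs) hq with h4 | h4
      · exact ha ((J.pl J.ws F _ _ (hs.quo _) hq).2.2 h4)
      · exact .inr (hp.2 h4)
    · exact ha h1

/-- `G` times the scalars -/
def addSc {V : Type v} [AddCommGroup V] [Module F V] (G : Subgroup (V ≃ₗ[F] V)) :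
    Subgroup (V ≃ₗ[F] V) where
  carrier := {e | ∃ g ∈ G, ∃ c : F, c ≠ 0 ∧ ∀ v, e v = c • g v}
  one_mem' := ⟨1, G.one_mem, 1, one_ne_zero, by simp⟩
  mul_mem' := by
    rintro e e' ⟨g, hg, c, hc, h⟩ ⟨g', hg', c', hc', h'⟩
    exact ⟨g * g', G.mul_mem hg hg', c * c', mul_ne_zero hc hc', fun v => by
      simp [h, h', smul_smul]⟩
  inv_mem' := by
    rintro e ⟨g, hg, c, hc, h⟩
    exact ⟨g⁻¹, G.inv_mem hg, c⁻¹, inv_ne_zero hc, fun v => e.injective (by
      rw [h (c⁻¹ • _)]; simp [hc])⟩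

theorem allTv_of_addSc {V : Type v} [AddCommGroup V] [Module F V] {G : Subgroup (V ≃ₗ[F] V)}
    (h : AllTv (addSc G)) : AllTv G := fun φ u hu => by
  have := Fintype.ofFinite F
  obtain ⟨e, ⟨g, hg, c, hc, h1⟩, h2⟩ := h (-φ) u (by simp [hu])
  have h3 : ∀ k : ℕ, ∀ v, c ^ k • (g ^ k) v = v - ((k : F) * φ v) • u := fun k => by
    induction k with
    | zero => simp
    | succ k ih =>
      intro v
      rw [pow_succ', pow_succ', LinearEquiv.mul_apply, mul_smul, ← map_smul, ih, ← h1, h2]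
      simp only [LinearMap.neg_apply, map_sub, map_smul, hu, Nat.cast_succ]
      module
  refine ⟨g ^ (Fintype.card F - 1), G.pow_mem hg _, fun v => ?_⟩
  have := h3 (Fintype.card F - 1) v
  rw [FiniteField.pow_card_sub_one_eq_one c hc, one_smul, Nat.cast_sub Fintype.card_pos,
    FiniteField.cast_card_eq_zero] at this
  rw [this]
  module

theorem main (J : Jobs.{u, v}) : Main.{u, v} := fun F _ _ V _ _ _ G h =>
  (main_sc J _ (G := addSc G) rfl (fun c hc => ⟨LinearEquiv.smulOfNeZero F V c hc,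
    ⟨1, G.one_mem, c, hc, fun _ => rfl⟩, fun _ => rfl⟩) fun x y x' y' h1 h2 => by
      obtain ⟨g, hg, h3⟩ := h x y x' y' h1 h2
      exact ⟨g, ⟨g, hg, 1, one_ne_zero, by simp⟩, h3⟩).imp_right allTv_of_addSc

end H53.CK
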