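import Cfsg.Agent.H53.CKSpec

/-! Kit of the tower CK: orbit theorem, coprime orbits, consequences of 2-transitivity. -/

set_option autoImplicit false

namespace H53.CK

open Module Submodule MulAction

universe u v

theorem exists_of_coprime {G : Type*} [Group G] [Finite G] (H K : Subgroup G)
    (h : H.index.Coprime K.index) (g : G) : ∃ a ∈ H, ∃ b ∈ K, g = a * b := by
  have h1 : K.index ∣ K.relIndex H := by
    refine h.symm.dvd_of_dvd_mul_right ?_
    rw [← Subgroup.inf_relIndex_right, Subgroup.relIndex_mul_index inf_le_right]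
    exact Subgroup.index_dvd_of_le inf_le_left
  let f : H ⧸ K.subgroupOf H → G ⧸ K := Quotient.map' (fun a => (a : G)) fun a b hab => by
    rw [QuotientGroup.leftRel_apply] at hab ⊢
    exact hab
  have hf : Function.Injective f := fun a b => Quotient.inductionOn₂' a b fun a b hab =>
    Quotient.sound' (QuotientGroup.leftRel_apply.2
      ((QuotientGroup.eq (s := K) (a := (a : G)) (b := (b : G))).1 hab))
  have hb : Function.Bijective f := (Nat.bijective_iff_injective_and_card f).2 ⟨hf,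
    le_antisymm (Nat.card_le_card_of_injective f hf) (Nat.le_of_dvd Nat.card_pos h1)⟩
  obtain ⟨a, ha⟩ := hb.2 (g : G ⧸ K)
  induction a using Quotient.inductionOn' with
  | h a => exact ⟨a, a.2, (a : G)⁻¹ * g, QuotientGroup.eq.1 ha, by group⟩

theorem exists_of_coprime_orbit {G A B : Type*} [Group G] [Finite G] [MulAction G A]
    [MulAction G B] (a : A) (b : B)
    (h : (Nat.card (orbit G a)).Coprime (Nat.card (orbit G b))) (g : G) :
    ∃ k : G, k • a = a ∧ k • b = g • b := by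
  rw [Nat.card_coe_set_eq, Nat.card_coe_set_eq, ← index_stabilizer, ← index_stabilizer] at h
  obtain ⟨k, hk, l, hl, rfl⟩ := exists_of_coprime _ _ h g
  exact ⟨k, hk, by rw [mul_smul, mem_stabilizer_iff.1 hl]⟩

theorem index_eq_ncard {G B : Type*} [Group G] (K : Subgroup G) (f : G → B)
    (h : ∀ g g', f g = f g' ↔ g⁻¹ * g' ∈ K) : K.index = (Set.range f).ncard := by
  let f' : G ⧸ K → B := Quotient.lift f fun a b hab => (h a b).2 (QuotientGroup.leftRel_apply.1 hab)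
  have hf : Function.Injective f' := fun a b => Quotient.inductionOn₂' a b fun a b hab =>
    QuotientGroup.eq.2 ((h a b).1 hab)
  have : Set.range f = Set.range f' := by
    ext b
    exact ⟨fun ⟨g, hg⟩ => ⟨g, hg⟩, fun ⟨g, hg⟩ => Quotient.inductionOn' g (fun g hg => ⟨g, hg⟩) hg⟩
  rw [this, Set.ncard_range_of_injective hf]
  rfl

variable {F : Type u} [Field F] {V : Type v} [AddCommGroup V] [Module F V]

/-- number of orbits on vectors -/
noncomputable def norb (X : Subgroup (V ≃ₗ[F] V)) : ℕ := Nat.card (orbitRel.Quotient X V)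

/-- the orbit of a vector -/
def cls (X : Subgroup (V ≃ₗ[F] V)) (v : V) : orbitRel.Quotient X V := Quotient.mk'' v

theorem cls_eq {X : Subgroup (V ≃ₗ[F] V)} {v w : V} : cls X v = cls X w ↔ ∃ g ∈ X, g w = v :=
  Quotient.eq''.trans ⟨fun ⟨g, h⟩ => ⟨g, g.2, h⟩, fun ⟨g, hg, h⟩ => ⟨⟨g, hg⟩, h⟩⟩

theorem norb_le {X : Subgroup (V ≃ₗ[F] V)} {ι : Type*} [Finite ι] (κ : V → ι)
    (h : ∀ v w, κ v = κ w → ∃ g ∈ X, g v = w) : norb X ≤ Nat.card ι :=
  Nat.card_le_card_of_injective (fun o : orbitRel.Quotient X V => κ o.out) fun a b hab => by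
    have := cls_eq.2 (h _ _ hab)
    simpa [cls] using this.symm

theorem exists_of_norb_le [Finite V] {X : Subgroup (V ≃ₗ[F] V)} {ι : Type*} (l : V → ι)
    (hs : Function.Surjective l) (hi : ∀ g ∈ X, ∀ v, l (g v) = l v) (h : norb X ≤ Nat.card ι)
    {v w : V} (hvw : l v = l w) : ∃ g ∈ X, g v = w := by
  let f : orbitRel.Quotient X V → ι := Quotient.lift l fun a b ⟨g, hg⟩ => hg ▸ hi g g.2 b
  have hf : Function.Surjective f := fun i => by
    obtain ⟨v, rfl⟩ := hs i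
    exact ⟨cls X v, rfl⟩
  have hb : Function.Bijective f := (Nat.bijective_iff_surjective_and_card f).2 ⟨hf,
    le_antisymm h (Nat.card_le_card_of_surjective f hf)⟩
  exact cls_eq.1 (hb.1 (a₁ := cls X w) (a₂ := cls X v) hvw.symm)

variable [Finite F] [FiniteDimensional F V]

theorem finV (F : Type u) [Field F] [Finite F] (V : Type v) [AddCommGroup V] [Module F V]
    [FiniteDimensional F V] : Finite V := Module.finite_of_finite F

theorem finGL (F : Type u) [Field F] [Finite F] (V : Type v) [AddCommGroup V] [Module F V]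
    [FiniteDimensional F V] : Finite (V ≃ₗ[F] V) :=
  have := finV F V
  Finite.of_injective (fun g : V ≃ₗ[F] V => (g : V → V)) DFunLike.coe_injective

theorem burnside (X : Subgroup (V ≃ₗ[F] V)) : norb X * Nat.card X =
    ∑ᶠ g : X, Nat.card F ^ finrank F (LinearMap.ker ((g.1 : V →ₗ[F] V) - 1)) := by
  classical
  have := finV F V
  have := finGL F V
  have := Fintype.ofFinite X
  have := Fintype.ofFinite (orbitRel.Quotient X V)
  have := fun g : X => Fintype.ofFinite (fixedBy V g)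
  rw [norb, Nat.card_eq_fintype_card, Nat.card_eq_fintype_card,
    ← sum_card_fixedBy_eq_card_orbits_mul_card_group, finsum_eq_sum_of_fintype]
  refine Finset.sum_congr rfl fun g _ => ?_
  rw [← Module.natCard_eq_pow_finrank, ← Nat.card_eq_fintype_card]
  refine Nat.card_congr (Equiv.subtypeEquivRight fun v => ?_)
  simp [LinearMap.mem_ker, sub_eq_zero, Subgroup.smul_def]

/-- The orbit theorem. -/
theorem norb_dua (X : Subgroup (V ≃ₗ[F] V)) : norb (dua X) = norb X := by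
  have := finGL F V
  let f : X → dua X := fun g => ⟨g.1.dualMap, g, g.2, fun _ _ => rfl⟩
  have hf : Function.Bijective f := by
    refine ⟨fun a b hab => Subtype.ext (LinearEquiv.ext fun v => ?_), fun ⟨e, g, hg, h⟩ =>
      ⟨⟨g, hg⟩, Subtype.ext (LinearEquiv.ext fun φ => LinearMap.ext fun v => (h φ v).symm)⟩⟩
    rw [← sub_eq_zero, ← forall_dual_apply_eq_zero_iff F]
    intro φ
    have : φ (a.1 v) = φ (b.1 v) := congrArg (fun e : dua X => e.1 φ v) hab
    rw [map_sub, this, sub_self]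
  have hc : Nat.card (dua X) = Nat.card X := (Nat.card_eq_of_bijective f hf).symm
  refine Nat.eq_of_mul_eq_mul_right (Nat.card_pos (α := X)) ?_
  rw [burnside X, ← hc, burnside, ← finsum_comp f hf]
  refine finsum_congr fun g => ?_
  have e : ((f g).1 : Dual F V →ₗ[F] Dual F V) - 1 = ((g.1 : V →ₗ[F] V) - 1).dualMap := by
    ext φ v
    simp [f]
  have h1 := LinearMap.finrank_range_add_finrank_ker ((g.1 : V →ₗ[F] V) - 1).dualMap
  have h2 := LinearMap.finrank_range_add_finrank_ker ((g.1 : V →ₗ[F] V) - 1)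
  rw [LinearMap.finrank_range_dualMap_eq_finrank_range, Subspace.dual_finrank_eq] at h1
  rw [e]
  congr 1
  omega

theorem trans_of_dual {X : Subgroup (V ≃ₗ[F] V)}
    (h : ∀ φ φ' : Dual F V, φ ≠ 0 → φ' ≠ 0 → ∃ g ∈ X, ∀ v, φ' (g v) = φ v) {v w : V} (hv : v ≠ 0)
    (hw : w ≠ 0) : ∃ g ∈ X, g v = w := by
  have := finV F V
  refine exists_of_norb_le (fun v => v = 0) (fun P => ?_) (fun g _ v => by simp) ?_ (by simp [hv, hw])
  · by_cases hP : P
    · exact ⟨0, by simp [hP]⟩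
    · exact ⟨v, by simp [hP, hv]⟩
  · rw [← norb_dua]
    refine norb_le (fun φ => φ = 0) fun φ φ' hφ => ?_
    by_cases h0 : φ = 0
    · exact ⟨1, one_mem _, by rw [h0, (eq_iff_iff.1 hφ).1 h0]; rfl⟩
    · obtain ⟨g, hg, hv⟩ := h φ' φ (fun h1 => h0 ((eq_iff_iff.1 hφ).2 h1)) h0
      obtain ⟨e, he, hw⟩ := exists_dua hg
      exact ⟨e, he, LinearMap.ext fun v => (hw φ v).trans (hv v)⟩

/-- A group fixing the point `u` and transitive on the hyperplanes not through `u`. -/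
theorem l41 {X : Subgroup (V ≃ₗ[F] V)} (hs : Sc X) {u : V} (hu : u ≠ 0)
    (hX : ∀ g ∈ X, g u ∈ F ∙ u)
    (h : ∀ φ φ' : Dual F V, φ u = 1 → φ' u = 1 → ∃ g ∈ X, ∃ c : F, ∀ v, φ' (g v) = c * φ v)
    {y : V} (hy : y ∉ F ∙ u) (t : F) : ∃ g ∈ X, g y = y + t • u := by
  classical
  have := finV F V
  have := finV F (V ⧸ F ∙ u)
  have := finV F (Dual F (V ⧸ F ∙ u))
  have hq : ∀ g ∈ X, ∃ e ∈ quo X (F ∙ u), ∀ v, e ((F ∙ u).mkQ v) = (F ∙ u).mkQ (g v) :=
    fun g hg => exists_quo hg fun w hw => by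
      obtain ⟨c, rfl⟩ := mem_span_singleton.1 hw
      rw [map_smul]
      exact smul_mem _ c (hX g hg)
  have hy0 : y ≠ 0 := fun h0 => hy (h0 ▸ zero_mem _)
  have hy1 : y + t • u ≠ 0 := fun h0 =>
    hy ((eq_neg_of_add_eq_zero_left h0) ▸ neg_mem (smul_mem _ t (mem_span_singleton_self u)))
  refine exists_of_norb_le
    (fun v => if v = 0 then none else some (cls (quo X (F ∙ u)) ((F ∙ u).mkQ v)))
    (fun o => ?_) (fun g hg v => ?_) ?_ ?_
  · rcases o with _ | o
    · exact ⟨0, by simp⟩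
    · induction o using Quotient.inductionOn' with
      | h a =>
        obtain ⟨v, rfl⟩ := (F ∙ u).mkQ_surjective a
        by_cases hv : v = 0
        · refine ⟨u, ?_⟩
          have : (F ∙ u).mkQ u = 0 := (Quotient.mk_eq_zero _).2 (mem_span_singleton_self u)
          simp only [hu, if_false, this, hv, map_zero, cls]
        · exact ⟨v, by simp only [hv, if_false, cls]⟩
  · by_cases hv : v = 0
    · simp [hv]
    · obtain ⟨e, he, hw⟩ := hq g hg
      simp only [hv, EmbeddingLike.map_eq_zero_iff, if_false]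
      exact congrArg some (cls_eq.2 ⟨e, he, hw v⟩)
  · rw [Finite.card_option, ← norb, ← norb_dua X, ← norb_dua (quo X _), norb, norb,
      ← Finite.card_option]
    refine norb_le (fun φ => if h0 : φ u = 0 then some (cls (dua (quo X (F ∙ u)))
      ((F ∙ u).liftQ φ ((span_singleton_le_iff_mem _ _).2 h0))) else none) fun φ φ' hφ => ?_
    by_cases h0 : φ u = 0 <;> by_cases h1 : φ' u = 0 <;> simp only [h0, h1, dif_pos, dif_neg,
      not_false_eq_true, reduceCtorEq, Option.some.injEq] at hφ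
    · obtain ⟨_, ⟨_, ⟨g, hg, h2⟩, h3⟩, h4⟩ := cls_eq.1 hφ.symm
      obtain ⟨e, he, hw⟩ := exists_dua hg
      refine ⟨e, he, LinearMap.ext fun v => ?_⟩
      have := h3 ((F ∙ u).liftQ φ ((span_singleton_le_iff_mem _ _).2 h0)) ((F ∙ u).mkQ v)
      rw [h4, h2] at this
      rw [hw]
      exact this.symm
    · obtain ⟨g, hg, c, hc⟩ := h ((φ' u)⁻¹ • φ') ((φ u)⁻¹ • φ) (by simp [h1]) (by simp [h0])
      have hc0 : c ≠ 0 := fun h2 => h0 <| by simpa [h2, h0] using hc (g.symm u)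
      obtain ⟨k, hk, hv⟩ := hs (φ' u / (φ u * c)) (by simp [*])
      obtain ⟨e, he, hw⟩ := exists_dua (X.mul_mem hg hk)
      refine ⟨e, he, LinearMap.ext fun v => ?_⟩
      have := hc v
      simp only [LinearMap.smul_apply, smul_eq_mul] at this
      rw [hw, LinearEquiv.mul_apply, hv, map_smul, map_smul, smul_eq_mul]
      field_simp at this ⊢
      linear_combination this
  · have : (F ∙ u).mkQ (y + t • u) = (F ∙ u).mkQ y := by
      rw [map_add, add_eq_left]
      exact (Quotient.mk_eq_zero _).2 (smul_mem _ t (mem_span_singleton_self u))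
    simp only [hy0, hy1, if_false, this]

/-- the stabiliser of the point `u` -/
def stab (X : Subgroup (V ≃ₗ[F] V)) (u : V) : Subgroup (V ≃ₗ[F] V) where
  carrier := {g | g ∈ X ∧ (F ∙ u).map (g : V →ₗ[F] V) = F ∙ u}
  one_mem' := ⟨X.one_mem, map_id _⟩
  mul_mem' := fun {a b} ha hb => ⟨X.mul_mem ha.1 hb.1, by
    rw [show ((a * b : V ≃ₗ[F] V) : V →ₗ[F] V) = (a : V →ₗ[F] V) ∘ₗ b from rfl, map_comp, hb.2,
      ha.2]⟩
  inv_mem' := fun {a} ha => ⟨X.inv_mem ha.1, by
    conv_lhs => rw [← ha.2, ← map_comp]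
    rw [show ((a⁻¹ : V ≃ₗ[F] V) : V →ₗ[F] V) ∘ₗ (a : V →ₗ[F] V) = LinearMap.id from
      LinearMap.ext fun v => a.symm_apply_apply v, map_id]⟩

omit [Finite F] in
set_option linter.unusedSectionVars false in
theorem mem_stab {X : Subgroup (V ≃ₗ[F] V)} {u : V} {g : V ≃ₗ[F] V} :
    g ∈ stab X u ↔ g ∈ X ∧ g u ∈ F ∙ u := by
  refine and_congr_right fun _ => ⟨fun h => h ▸ mem_map_of_mem (mem_span_singleton_self u),
    fun h => eq_of_le_of_finrank_eq ?_ (LinearEquiv.finrank_map_eq g _)⟩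
  rw [map_span, Set.image_singleton, span_singleton_le_iff_mem]
  exact h

omit [Finite F] in
theorem Sc.stab {X : Subgroup (V ≃ₗ[F] V)} (h : Sc X) (u : V) : Sc (stab X u) := fun c hc => by
  obtain ⟨g, hg, hv⟩ := h c hc
  exact ⟨g, mem_stab.2 ⟨hg, hv u ▸ smul_mem _ c (mem_span_singleton_self u)⟩, hv⟩

theorem AF.l41 {X : Subgroup (V ≃ₗ[F] V)} (h : AF X) (hs : Sc X) {u y : V} (hu : Ind F u y)
    (t : F) : ∃ g ∈ X, g u ∈ F ∙ u ∧ g y = y + t • u := by
  obtain ⟨g, hg, hy⟩ := CK.l41 (hs.stab u) hu.1 (fun g hg => (mem_stab.1 hg).2)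
    (fun φ φ' h1 h2 => by
      obtain ⟨g, hg, h3, h4⟩ := h u u φ φ' h1 h2
      exact ⟨g, mem_stab.2 ⟨hg, by rw [h3]; exact mem_span_singleton_self u⟩, 1, by simpa⟩) hu.2 t
  exact ⟨g, hg.1, (mem_stab.1 hg).2, hy⟩

omit [Finite F] [FiniteDimensional F V] in
theorem T2.pair {G : Subgroup (V ≃ₗ[F] V)} (h : T2 G) (hs : Sc G) {x y x' y' : V} (h1 : Ind F x y)
    (h2 : Ind F x' y') : ∃ g ∈ G, ∃ c : F, c ≠ 0 ∧ g x = c • x' ∧ g y = y' := by
  obtain ⟨g, hg, a, b, ha, hb⟩ := h x y x' y' h1 h2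
  have ha0 : a ≠ 0 := fun h0 => h1.1 (g.injective (by rw [ha, h0, zero_smul, map_zero]))
  have hb0 : b ≠ 0 := fun h0 => h1.symm.1 (g.injective (by rw [hb, h0, zero_smul, map_zero]))
  obtain ⟨k, hk, hv⟩ := hs b⁻¹ (inv_ne_zero hb0)
  exact ⟨k * g, G.mul_mem hk hg, b⁻¹ * a, by simp [*], by simp [ha, hv, mul_smul],
    by simp [hb, hv, hb0]⟩

omit [Finite F] [FiniteDimensional F V] in
theorem T2.trans {G : Subgroup (V ≃ₗ[F] V)} (h : T2 G) (hs : Sc G) {x x' : V} (hx : x ≠ 0)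
    (hx' : x' ≠ 0) : ∃ g ∈ G, g x = x' := by
  by_cases h1 : x' ∈ F ∙ x
  · obtain ⟨c, rfl⟩ := mem_span_singleton.1 h1
    obtain ⟨g, hg, hv⟩ := hs c (left_ne_zero_of_smul hx')
    exact ⟨g, hg, hv x⟩
  · obtain ⟨g, hg, -, -, -, h2⟩ := h.pair hs (Ind.symm ⟨hx, h1⟩) ⟨hx, h1⟩
    exact ⟨g, hg, h2⟩

theorem T2.dual_aux {G : Subgroup (V ≃ₗ[F] V)} (h : T2 G) (hs : Sc G) {x : V} (hx : x ≠ 0)
    {φ φ' : Dual F V} (h0 : φ ≠ 0) (h0' : φ' ≠ 0) (h1 : φ x = 0 ↔ φ' x = 0) :
    ∃ g ∈ G, g x ∈ F ∙ x ∧ ∀ v, φ' (g v) = φ v := by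
  classical
  have := finV F (Dual F V)
  by_cases hn : ∃ y, y ∉ F ∙ x
  swap
  · push Not at hn
    have hk : ∀ ψ : Dual F V, ψ ≠ 0 → ψ x ≠ 0 := fun ψ hψ h2 => hψ <| LinearMap.ext fun v => by
      obtain ⟨c, rfl⟩ := mem_span_singleton.1 (hn v)
      simp [h2]
    obtain ⟨g, hg, hv⟩ := hs (φ x / φ' x) (div_ne_zero (hk _ h0) (hk _ h0'))
    refine ⟨g, hg, hn _, fun v => ?_⟩
    obtain ⟨c, rfl⟩ := mem_span_singleton.1 (hn v)
    have := hk _ h0'
    simp only [hv, map_smul, smul_eq_mul]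
    field_simp
  obtain ⟨y, hy⟩ := hn
  suffices H : ∃ e ∈ dua (stab G x), e φ' = φ by
    obtain ⟨e, ⟨g, hg, he⟩, h2⟩ := H
    exact ⟨g, hg.1, (mem_stab.1 hg).2, fun v => by rw [← he, h2]⟩
  refine exists_of_norb_le (fun ψ => if ψ = 0 then none else some (ψ x = 0)) (fun o => ?_) ?_ ?_
    (by simp [h0, h0', h1])
  · rcases o with _ | P
    · exact ⟨0, by simp⟩
    · by_cases hP : P
      · obtain ⟨ψ, h2, h3⟩ := H62.exists_dual_pair hy
        exact ⟨ψ, by simp [hP, h3, show ψ ≠ 0 from fun h4 => by simp [h4] at h2]⟩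
      · obtain ⟨ψ, h2⟩ := H62.exists_dual_of_ne_zero (F := F) hx
        exact ⟨ψ, by simp [hP, h2, show ψ ≠ 0 from fun h4 => by simp [h4] at h2]⟩
  · rintro e ⟨g, hg, he⟩ ψ
    obtain ⟨c, hc⟩ := mem_span_singleton.1 (mem_stab.1 hg).2
    have hc0 : c ≠ 0 := fun h2 => hx (g.injective (by rw [← hc, h2, zero_smul, map_zero]))
    simp [he, ← hc, hc0]
  · rw [norb_dua]
    refine norb_le (fun v => if v = 0 then none else some (v ∈ F ∙ x)) fun v w hvw => ?_
    by_cases hv : v = 0 <;> by_cases hw : w = 0 <;> simp only [hv, hw, if_true, if_false,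
      reduceCtorEq, Option.some.injEq, eq_iff_iff] at hvw
    · exact ⟨1, one_mem _, by rw [hv, hw]; rfl⟩
    by_cases h2 : v ∈ F ∙ x
    · obtain ⟨a, rfl⟩ := mem_span_singleton.1 h2
      obtain ⟨b, rfl⟩ := mem_span_singleton.1 (hvw.1 h2)
      have ha := left_ne_zero_of_smul hv
      obtain ⟨g, hg, h3⟩ := hs.stab x (b / a) (div_ne_zero (left_ne_zero_of_smul hw) ha)
      exact ⟨g, hg, by rw [h3, smul_smul, div_mul_cancel₀ _ ha]⟩
    · obtain ⟨g, hg, c, -, h3, h4⟩ := h.pair hs ⟨hx, h2⟩ ⟨hx, mt hvw.2 h2⟩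
      exact ⟨g, mem_stab.2 ⟨hg, h3 ▸ smul_mem _ c (mem_span_singleton_self x)⟩, h4⟩

theorem T2.af {G : Subgroup (V ≃ₗ[F] V)} (h : T2 G) (hs : Sc G) : AF G := fun x x' φ φ' h1 h2 => by
  have hx : x ≠ 0 := fun h0 => by simp [h0] at h1
  have hx' : x' ≠ 0 := fun h0 => by simp [h0] at h2
  obtain ⟨k, hk, rfl⟩ := h.trans hs hx hx'
  obtain ⟨g, hg, h3, h4⟩ := h.dual_aux hs hx (φ := φ) (φ' := φ' ∘ₗ (k : V →ₗ[F] V))
    (fun h0 => by simp [h0] at h1) (fun h0 => by simpa [h2] using congrArg (· x) h0)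
    (by simp [h1, h2])
  obtain ⟨c, hc⟩ := mem_span_singleton.1 h3
  have : c = 1 := by simpa [← hc, h1, h2] using h4 x
  exact ⟨k * g, G.mul_mem hk hg, by simp [← hc, this], h4⟩

theorem T2.flag {G : Subgroup (V ≃ₗ[F] V)} (h : T2 G) (hs : Sc G) {x x' : V} {φ φ' : Dual F V}
    (hx : x ≠ 0) (hx' : x' ≠ 0) (h0 : φ ≠ 0) (h0' : φ' ≠ 0) (h1 : φ x = 0) (h2 : φ' x' = 0) :
    ∃ g ∈ G, ∃ c : F, g x = c • x' ∧ ∀ v, φ' (g v) = φ v := by
  obtain ⟨k, hk, rfl⟩ := h.trans hs hx hx'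
  obtain ⟨g, hg, h3, h4⟩ := h.dual_aux hs hx (φ := φ) (φ' := φ' ∘ₗ (k : V →ₗ[F] V)) h0
    (fun h5 => h0' (LinearMap.ext fun v => by simpa using congrArg (· (k.symm v)) h5))
    (by simp [h1, h2])
  obtain ⟨c, hc⟩ := mem_span_singleton.1 h3
  exact ⟨k * g, G.mul_mem hk hg, c, by simp [← hc], h4⟩

omit [Finite F] in
theorem card_dual_one {x : V} (hx : x ≠ 0) :
    {φ : Dual F V | φ x = 1}.ncard = Nat.card F ^ (finrank F V - 1) := by
  obtain ⟨ψ, hψ⟩ := H62.exists_dual_of_ne_zero (F := F) hx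
  have h1 := Subspace.finrank_add_finrank_dualAnnihilator_eq (F ∙ x)
  rw [finrank_span_singleton hx] at h1
  rw [show finrank F V - 1 = finrank F (F ∙ x).dualAnnihilator by omega,
    ← Module.natCard_eq_pow_finrank (K := F) (V := (F ∙ x).dualAnnihilator), ← Nat.card_coe_set_eq]
  have h2 : ∀ φ : Dual F V, φ ∈ (F ∙ x).dualAnnihilator ↔ φ x = 0 := fun φ => by
    rw [mem_dualAnnihilator]
    refine ⟨fun h => h x (mem_span_singleton_self x), fun h w hw => ?_⟩
    obtain ⟨c, rfl⟩ := mem_span_singleton.1 hw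
    simp [h]
  exact Nat.card_congr ⟨fun φ => ⟨φ - ψ, (h2 _).2 (by
      rw [LinearMap.sub_apply, hψ, show φ.1 x = 1 from φ.2, sub_self])⟩,
    fun φ => ⟨φ + ψ, by simp [hψ, (h2 _).1 φ.2]⟩, fun φ => by simp, fun φ => by simp⟩

/-- An orbit of the stabiliser of `x` of size prime to `q` is an orbit of the stabiliser of an
antiflag. -/
theorem AF.coprime {X : Subgroup (V ≃ₗ[F] V)} (h : AF X) {x : V} {φ : Dual F V} (h1 : φ x = 1)
    (K : Subgroup (stab X x)) (hK : K.index.Coprime (Nat.card F)) (g : stab X x) :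
    ∃ a : stab X x, ∃ c : F, c ≠ 0 ∧ a.1 x = c • x ∧ (∀ v, φ (a.1 v) = c * φ v) ∧ a⁻¹ * g ∈ K := by
  have := finGL F V
  have hx : x ≠ 0 := fun h0 => by simp [h0] at h1
  have hc : ∀ a : stab X x, ∃ c : F, c ≠ 0 ∧ a.1 x = c • x := fun a => by
    obtain ⟨c, hc⟩ := mem_span_singleton.1 (mem_stab.1 a.2).2
    exact ⟨c, fun h2 => hx (a.1.injective (by rw [← hc, h2, zero_smul, map_zero])), hc.symm⟩
  choose c hc0 hc using hc
  have hm : ∀ a b, c (a * b) = c a * c b := fun a b => smul_left_injective F hx <| by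
    change c (a * b) • x = (c a * c b) • x
    rw [← hc, Subgroup.coe_mul, LinearEquiv.mul_apply, hc b, map_smul, hc a, smul_smul, mul_comm]
  have h11 : c 1 = 1 := smul_left_injective F hx <| by
    simp only [one_smul]; exact (hc 1).symm
  let f : stab X x → Dual F V := fun a => c a • φ ∘ₗ (a.1.symm : V →ₗ[F] V)
  let H : Subgroup (stab X x) :=
    { carrier := {a | ∀ v, φ (a.1 v) = c a * φ v}
      one_mem' := fun v => by simp [h11]
      mul_mem' := fun {a b} ha hb v => by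
        rw [Subgroup.coe_mul, LinearEquiv.mul_apply, ha, hb, hm, mul_assoc]
      inv_mem' := fun {a} ha v => by
        have h2 := ha ((a⁻¹).1 v)
        have h3 : c a⁻¹ * c a = 1 := by rw [← hm, inv_mul_cancel, h11]
        rw [← LinearEquiv.mul_apply, ← Subgroup.coe_mul, mul_inv_cancel] at h2
        rw [show φ v = _ from h2, ← mul_assoc, h3, one_mul] }
  have hi : H.index = (Set.range f).ncard := index_eq_ncard H f fun a b => by
    have h3 : c a⁻¹ * c a = 1 := by rw [← hm, inv_mul_cancel, h11]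
    refine ⟨fun h2 v => ?_, fun h2 => LinearMap.ext fun v => ?_⟩
    · have h4 : c a * φ (a.1.symm (b.1 v)) = c b * φ (b.1.symm (b.1 v)) :=
        congrArg (· (b.1 v)) h2
      rw [LinearEquiv.symm_apply_apply] at h4
      change φ (a.1.symm (b.1 v)) = _
      rw [hm]
      linear_combination c a⁻¹ * h4 - φ (a.1.symm (b.1 v)) * h3
    · have h4 : φ (a.1.symm (b.1 (b.1.symm v))) = _ := h2 (b.1.symm v)
      rw [LinearEquiv.apply_symm_apply, hm] at h4
      change c a * φ (a.1.symm v) = c b * φ (b.1.symm v)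
      linear_combination c a * h4 + c b * φ (b.1.symm v) * h3
  have hr : Set.range f = {ψ : Dual F V | ψ x = 1} := by
    ext ψ
    constructor
    · rintro ⟨a, rfl⟩
      change c a * φ (a.1.symm x) = 1
      rw [← smul_eq_mul, ← map_smul, ← map_smul, ← hc, LinearEquiv.symm_apply_apply, h1]
    · intro h2
      obtain ⟨a, ha, h3, h4⟩ := h x x φ ψ h1 h2
      have ha' : a ∈ stab X x := mem_stab.2 ⟨ha, by rw [h3]; exact mem_span_singleton_self x⟩
      have h5 : c ⟨a, ha'⟩ = 1 := smul_left_injective F hx <| by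
        simp only [one_smul]; exact (hc _).symm.trans h3
      exact ⟨⟨a, ha'⟩, LinearMap.ext fun v => by simp [f, h5, ← h4]⟩
  rw [hr, card_dual_one hx] at hi
  obtain ⟨a, ha, b, hb, rfl⟩ := exists_of_coprime H K (hi ▸ hK.symm.pow_left _) g
  exact ⟨a, c a, hc0 a, hc a, ha, by simpa using hb⟩

theorem coprime_ncard_ne_zero (F : Type u) [Field F] [Finite F] (U : Type*) [AddCommGroup U]
    [Module F U] [FiniteDimensional F U] {a : U} (ha : a ≠ 0) :
    {b : U | b ≠ 0}.ncard.Coprime (Nat.card F) := by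
  have := finV F U
  have h1 : {b : U | b ≠ 0}.ncard + 1 = Nat.card F ^ finrank F U := by
    rw [← Module.natCard_eq_pow_finrank, ← Set.ncard_univ, ← Set.ncard_insert_of_notMem (a := 0)
      (by simp)]
    congr 1
    ext b
    simp [em]
  have : Nontrivial U := ⟨a, 0, ha⟩
  refine Nat.Coprime.coprime_dvd_right (dvd_pow_self _ (finrank_pos (R := F) (M := U)).ne') ?_
  rw [← h1]
  simp

theorem T2.key {G : Subgroup (V ≃ₗ[F] V)} (h : T2 G) (hs : Sc G) {x y x' y' : V}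
    {φ φ' : Dual F V} (hx : x ≠ 0) (hx' : x' ≠ 0) (h1 : φ x = 0) (h2 : φ y = 1) (h1' : φ' x' = 0)
    (h2' : φ' y' = 1) : ∃ g ∈ G, ∃ c : F, g x = c • x' ∧ g y = y' ∧ ∀ v, φ' (g v) = φ v := by
  obtain ⟨k, hk, rfl, h3⟩ := h.af hs y y' φ φ' h2 h2'
  obtain ⟨x', rfl⟩ := k.surjective x'
  rw [h3] at h1'
  have hi : ∀ z, z ≠ 0 → φ z = 0 → Ind F y z := fun z hz h4 => Ind.symm ⟨hz, fun h5 => by
    obtain ⟨c, rfl⟩ := mem_span_singleton.1 h5
    simp [h4] at h2⟩
  have hm : ∀ a : stab G y, ∀ w ∈ F ∙ y, a.1 w ∈ F ∙ y := fun a w hw =>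
    a.2.2 ▸ mem_map_of_mem hw
  let K : Subgroup (stab G y) :=
    { carrier := {a | a.1 x - x ∈ F ∙ y}
      one_mem' := by simp
      mul_mem' := fun {a b} ha hb => by simpa using add_mem (hm a _ hb) ha
      inv_mem' := fun {a} ha => by
        have := neg_mem (hm a⁻¹ _ ha)
        rwa [map_sub, ← LinearEquiv.mul_apply, ← Subgroup.coe_mul, inv_mul_cancel, neg_sub] at this }
  have hK : K.index = (Set.range fun a : stab G y => (F ∙ y).mkQ (a.1 x)).ncard :=
    index_eq_ncard K _ fun a b => by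
      rw [eq_comm, mkQ_apply, mkQ_apply, Submodule.Quotient.eq]
      refine ⟨fun h4 => ?_, fun h4 => ?_⟩
      · have := hm a⁻¹ _ h4
        rwa [map_sub, ← LinearEquiv.mul_apply _ a.1, ← Subgroup.coe_mul, inv_mul_cancel] at this
      · have := hm a _ h4
        rwa [map_sub, ← LinearEquiv.mul_apply, ← Subgroup.coe_mul, mul_inv_cancel_left] at this
  have hp : ∀ z, z ∉ F ∙ y → ∃ a : stab G y, a.1 x = z := fun z hz => by
    obtain ⟨g, hg, c, -, h4, h5⟩ := h.pair hs (hi x hx h1) ⟨(hi x hx h1).1, hz⟩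
    exact ⟨⟨g, mem_stab.2 ⟨hg, h4 ▸ smul_mem _ c (mem_span_singleton_self y)⟩⟩, h5⟩
  have hr : (Set.range fun a : stab G y => (F ∙ y).mkQ (a.1 x)) = {b | b ≠ 0} := by
    ext b
    constructor
    · rintro ⟨a, rfl⟩ h4
      have := hm a⁻¹ _ ((Quotient.mk_eq_zero _).1 h4)
      rw [← LinearEquiv.mul_apply, ← Subgroup.coe_mul, inv_mul_cancel] at this
      exact (hi x hx h1).2 this
    · intro hb
      obtain ⟨z, rfl⟩ := (F ∙ y).mkQ_surjective b
      obtain ⟨a, ha⟩ := hp z fun h4 => hb ((Quotient.mk_eq_zero _).2 h4)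
      exact ⟨a, by simp only [ha]⟩
  obtain ⟨g, hg⟩ := hp x' (hi x' (by simpa using hx') h1').2
  obtain ⟨a, c, hc, h4, h5, h6⟩ := (h.af hs).coprime h2 K (by
    rw [hK, hr]
    exact coprime_ncard_ne_zero F _ (a := (F ∙ y).mkQ x)
      fun h4 => (hi x hx h1).2 ((Quotient.mk_eq_zero _).1 h4)) g
  have h7 := hm a _ h6
  rw [map_sub, ← LinearEquiv.mul_apply, ← Subgroup.coe_mul, mul_inv_cancel_left, hg] at h7
  obtain ⟨d, hd⟩ := mem_span_singleton.1 h7
  have hd0 : d = 0 := by simpa [h2, h1', h5, h1] using congrArg φ hd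
  have h8 : a.1 x = x' := by rw [hd0, zero_smul, eq_comm, sub_eq_zero] at hd; exact hd.symm
  obtain ⟨s, hs1, hv⟩ := hs c⁻¹ (inv_ne_zero hc)
  exact ⟨k * s * a, G.mul_mem (G.mul_mem hk hs1) a.2.1, c⁻¹, by simp [h8, hv],
    by simp [h4, hv, hc], fun v => by simp [h3, hv, h5, hc]⟩

theorem T2.af_quo {G : Subgroup (V ≃ₗ[F] V)} (h : T2 G) (hs : Sc G) {x : V} (hx : x ≠ 0) :
    AF (quo G (F ∙ x)) := fun y y' φ φ' h1 h2 => by
  obtain ⟨y, rfl⟩ := (F ∙ x).mkQ_surjective y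
  obtain ⟨y', rfl⟩ := (F ∙ x).mkQ_surjective y'
  have h0 : (F ∙ x).mkQ x = 0 := (Quotient.mk_eq_zero _).2 (mem_span_singleton_self x)
  obtain ⟨g, hg, c, h3, h4, h5⟩ := h.key hs (φ := φ ∘ₗ (F ∙ x).mkQ) (φ' := φ' ∘ₗ (F ∙ x).mkQ) hx hx
    (by rw [LinearMap.comp_apply, h0, map_zero]) h1 (by rw [LinearMap.comp_apply, h0, map_zero]) h2
  obtain ⟨e, he, h6⟩ := exists_quo (W := F ∙ x) hg fun w hw => by
    obtain ⟨a, rfl⟩ := mem_span_singleton.1 hw
    rw [map_smul, h3]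
    exact smul_mem _ _ (smul_mem _ _ (mem_span_singleton_self x))
  refine ⟨e, he, by rw [h6, h4], fun v => ?_⟩
  obtain ⟨v, rfl⟩ := (F ∙ x).mkQ_surjective v
  rw [h6]
  exact h5 v

theorem T2.af_res {G : Subgroup (V ≃ₗ[F] V)} (h : T2 G) (hs : Sc G) {ψ : Dual F V} (h0 : ψ ≠ 0) :
    AF (res G (LinearMap.ker ψ)) := fun x x' φ φ' h1 h2 => by
  have hx : (x : V) ≠ 0 := fun h3 => by simp [show x = 0 from Subtype.ext h3] at h1
  have hx' : (x' : V) ≠ 0 := fun h3 => by simp [show x' = 0 from Subtype.ext h3] at h2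
  obtain ⟨θ, rfl⟩ := Subspace.dualRestrict_surjective φ
  obtain ⟨θ', rfl⟩ := Subspace.dualRestrict_surjective φ'
  rw [dualRestrict_apply] at h1 h2
  obtain ⟨k, hk, h3, h4⟩ := h.af hs x x' θ θ' h1 h2
  let K : Subgroup (stab G (x : V)) :=
    { carrier := {a | ∀ v, ψ (a.1 v) = ψ v}
      one_mem' := fun _ => rfl
      mul_mem' := fun {a b} ha hb v => (ha _).trans (hb v)
      inv_mem' := fun {a} ha v => by
        rw [← ha, ← LinearEquiv.mul_apply, ← Subgroup.coe_mul, mul_inv_cancel]; rfl }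
  have hK : K.index = (Set.range fun a : stab G (x : V) =>
      ψ ∘ₗ (a.1.symm : V →ₗ[F] V)).ncard := index_eq_ncard K _ fun a b =>
    ⟨fun h5 v => (congrArg (· (b.1 v)) h5).trans (congrArg ψ (b.1.symm_apply_apply v)),
      fun h5 => LinearMap.ext fun v => by
        have h6 : ψ (a.1.symm (b.1 (b.1.symm v))) = _ := h5 (b.1.symm v)
        rwa [LinearEquiv.apply_symm_apply] at h6⟩
  have hp : ∀ χ : Dual F V, χ ≠ 0 → χ x = 0 → ∃ a : stab G (x : V), ∀ v, χ (a.1 v) = ψ v :=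
    fun χ h5 h6 => by
      obtain ⟨g, hg, c, h7, h8⟩ := h.flag hs hx hx h0 h5 x.2 h6
      exact ⟨⟨g, mem_stab.2 ⟨hg, h7 ▸ smul_mem _ c (mem_span_singleton_self _)⟩⟩, h8⟩
  have hd : ∀ χ : Dual F V, χ ∈ (F ∙ (x : V)).dualAnnihilator ↔ χ x = 0 := fun χ => by
    rw [mem_dualAnnihilator]
    refine ⟨fun h => h x (mem_span_singleton_self _), fun h w hw => ?_⟩
    obtain ⟨c, rfl⟩ := mem_span_singleton.1 hw
    simp [h]
  have hr : (Set.range fun a : stab G (x : V) => ψ ∘ₗ (a.1.symm : V →ₗ[F] V)) =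
      Subtype.val '' {b : (F ∙ (x : V)).dualAnnihilator | b ≠ 0} := by
    ext χ
    constructor
    · rintro ⟨a, rfl⟩
      obtain ⟨c, hc⟩ := mem_span_singleton.1 (mem_stab.1 a⁻¹.2).2
      refine ⟨⟨_, (hd _).2 ?_⟩, fun h5 => h0 (LinearMap.ext fun v => ?_), rfl⟩
      · change ψ (a⁻¹.1 x) = 0
        rw [← hc, map_smul, show ψ x = 0 from x.2, smul_zero]
      · simpa using congrArg (fun b : (F ∙ (x : V)).dualAnnihilator => b.1 (a.1 v)) h5
    · rintro ⟨b, hb, rfl⟩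
      obtain ⟨a, ha⟩ := hp b (fun h5 => hb (Subtype.ext h5)) ((hd _).1 b.2)
      exact ⟨a, LinearMap.ext fun v => by simp [← ha]⟩
  obtain ⟨g, hg⟩ := hp (ψ ∘ₗ (k : V →ₗ[F] V))
    (fun h5 => h0 (LinearMap.ext fun v => by simpa using congrArg (· (k.symm v)) h5))
    (by simp [h3])
  have hco := coprime_ncard_ne_zero F (F ∙ (x : V)).dualAnnihilator (a := ⟨ψ, (hd _).2 x.2⟩)
    fun h5 => h0 (congrArg Subtype.val h5)
  rw [← Set.ncard_image_of_injective _ Subtype.val_injective, ← hr, ← hK] at hco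
  obtain ⟨a, c, hc, h5, h6, h7⟩ := (h.af hs).coprime h1 K hco g
  have h8 : ∀ v, ψ (k (a.1 v)) = ψ v := fun v => by
    have h9 := hg ((g⁻¹ * a).1 v)
    have h10 := K.inv_mem h7 v
    rw [← LinearEquiv.mul_apply, ← Subgroup.coe_mul, mul_inv_cancel_left] at h9
    rw [mul_inv_rev, inv_inv] at h10
    exact h9.trans h10
  obtain ⟨s, hs1, hv⟩ := hs c⁻¹ (inv_ne_zero hc)
  obtain ⟨e, he, h9⟩ := exists_res (W := LinearMap.ker ψ)
    (G.mul_mem (G.mul_mem hk hs1) a.2.1) fun w hw => by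
      simp [hv, h8, show ψ w = 0 from hw]
  exact ⟨e, he, Subtype.ext (by simp [h9, h5, hv, hc, h3]), fun v => by
    simp [dualRestrict_apply, h9, hv, h4, h6, hc]⟩

omit [FiniteDimensional F V] in
/-- An additive subgroup meeting every point in the same number `r > 1` of vectors. -/
theorem addSub (U : Submodule F V) (T : AddSubgroup V) {r : ℕ} (hr : 1 < r) {x y : V}
    (hx : x ∈ U) (hy : y ∈ U) (hxy : Ind F x y)
    (h : ∀ a ∈ U, a ≠ 0 → {c : F | c • a ∈ T}.ncard = r) {u : V} (hu : u ∈ U) : u ∈ T := by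
  classical
  have := Fintype.ofFinite F
  obtain ⟨p, hp⟩ := CharP.exists F
  obtain ⟨k, hpp, hq⟩ := FiniteField.card F p
  have := Fact.mk hpp
  have hz : ∀ a b : F, a • x + b • y = 0 → a = 0 ∧ b = 0 := fun a b hab => by
    by_cases hb : b = 0
    · simpa [hb, hxy.1] using hab
    · refine absurd (mem_span_singleton.2 ⟨-(b⁻¹ * a), ?_⟩) hxy.2
      rw [← inv_smul_smul₀ hb y, eq_neg_of_add_eq_zero_right hab]
      module
  let f : F × F →+ V := AddMonoidHom.mk' (fun c => c.1 • x + c.2 • y) fun a b => by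
    simp only [Prod.fst_add, Prod.snd_add]; module
  have hpow : ∀ {A : Type u} [AddCommGroup A] [Module F A] [Finite A] (S : AddSubgroup A),
      ∃ j, Nat.card S = p ^ j := fun {A} _ _ _ S => by
    have : FiniteDimensional F A := Module.Finite.of_finite
    have h1 := S.card_addSubgroup_dvd_card
    rw [Module.natCard_eq_pow_finrank (K := F) (V := A), Nat.card_eq_fintype_card (α := F), hq,
      ← pow_mul] at h1
    obtain ⟨j, -, hj⟩ := (Nat.dvd_prime_pow hpp).1 h1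
    exact ⟨j, hj⟩
  obtain ⟨j, hj⟩ := hpow (T.comap f)
  let S : V → AddSubgroup F := fun a => T.comap (LinearMap.toSpanSingleton F V a).toAddMonoidHom
  have hS : ∀ a ∈ U, a ≠ 0 → Nat.card (S a) = r := fun a ha h0 => h a ha h0
  obtain ⟨i, hi⟩ := hpow (S x)
  rw [hS x hx hxy.1] at hi
  have hc : Nat.card (T.comap f) = r + Fintype.card F * (r - 1) := by
    have e : (T.comap f) ≃ S x ⊕ Σ t : F, {c : S (t • x + y) // c ≠ 0} := by
      refine (Equiv.ofBijective (Sum.elim (fun c => ⟨(c.1, 0), by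
          have : c.1 • x ∈ T := c.2
          simpa [f]⟩)
        fun c => ⟨(c.2.1.1 * c.1, c.2.1.1), by
          have : c.2.1.1 • (c.1 • x + y) ∈ T := c.2.1.2
          simpa [f, mul_smul] using this⟩) ⟨?_, ?_⟩).symm
      · rintro (a | ⟨t, ⟨a, ha⟩, a0⟩) (b | ⟨t', ⟨b, hb⟩, b0⟩) hab <;>
          simp only [Sum.elim_inl, Sum.elim_inr, Subtype.mk.injEq, Prod.mk.injEq] at hab
        · exact congrArg _ (Subtype.ext hab.1)
        · exact absurd (Subtype.ext hab.2.symm) b0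
        · exact absurd (Subtype.ext hab.2) a0
        · obtain ⟨h1, rfl⟩ := hab
          obtain rfl := mul_left_cancel₀ (fun h2 => a0 (Subtype.ext h2)) h1
          rfl
      · rintro ⟨⟨a, b⟩, hab⟩
        by_cases hb : b = 0
        · exact ⟨.inl ⟨a, show a • x ∈ T by simpa [f, hb] using hab⟩, by simp [hb]⟩
        · refine ⟨.inr ⟨b⁻¹ * a, ⟨b, ?_⟩, fun h2 => hb (congrArg Subtype.val h2)⟩, by simp [hb]⟩
          simpa [f, S, smul_smul, hb] using hab
    rw [Nat.card_congr e, Nat.card_sum, hS x hx hxy.1, Nat.card_sigma, Finset.sum_congr rfl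
      (g := fun _ => r - 1), Finset.sum_const, Finset.card_univ, smul_eq_mul]
    intro t _
    rw [← hS (t • x + y) (add_mem (smul_mem _ t hx) hy) fun h2 => one_ne_zero (hz t 1 (by simpa)).2]
    have := Fintype.ofFinite (S (t • x + y))
    simp [Nat.card_eq_fintype_card]
  have hrq : r = Fintype.card F := by
    have h1 : r ∣ Fintype.card F := by
      rw [← hS x hx hxy.1, ← Nat.card_eq_fintype_card]
      exact AddSubgroup.card_addSubgroup_dvd_card _
    obtain ⟨s, hs⟩ := h1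
    obtain ⟨l, -, hl⟩ := (Nat.dvd_prime_pow hpp).1 (hq ▸ Dvd.intro_left r hs.symm)
    rcases l with _ | l
    · rw [hs, hl, pow_zero, mul_one]
    have h2 : p ^ j = p ^ i * (1 + s * (r - 1)) := by rw [← hj, hc, hs, ← hi]; ring
    obtain ⟨m, -, hm⟩ := (Nat.dvd_prime_pow hpp).1 (Dvd.intro_left _ h2.symm)
    rcases m with _ | m
    · have : 0 < s * (r - 1) := Nat.mul_pos (hl ▸ pow_pos hpp.pos _) (by omega)
      rw [pow_zero] at hm
      omega
    · have h3 : p ∣ 1 + s * (r - 1) := hm ▸ dvd_pow_self p m.succ_ne_zero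
      exact absurd ((Nat.dvd_add_left ((hl ▸ dvd_pow_self p l.succ_ne_zero :
        p ∣ s).mul_right _)).1 h3) hpp.not_dvd_one
  by_cases h0 : u = 0
  · exact h0 ▸ T.zero_mem
  have : S u = ⊤ := AddSubgroup.eq_top_of_card_eq _ (by
    rw [hS u hu h0, hrq, Nat.card_eq_fintype_card])
  simpa [S] using (this ▸ AddSubgroup.mem_top (1 : F) : (1 : F) ∈ S u)

end H53.CK
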