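import Cfsg.Agent.Base

/-! Counting conjugacy classes by generating functions: the abstract count and estimates for the
coefficients of products of power series with nonnegative coefficients. -/

set_option autoImplicit false

namespace H53

open Finset PowerSeries

section count
variable {A : Type*} [CommGroup A] [Finite A] [IsCyclic A]

omit [Finite A] in
theorem index_dvd_of_pow_mem {H : Subgroup A} {k : ℕ} (h : ∀ a, a ^ k ∈ H) : H.index ∣ k := by
  have := isCyclic_of_surjective _ (QuotientGroup.mk'_surjective H)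
  rw [Subgroup.index, ← IsCyclic.exponent_eq_card, Monoid.exponent_dvd_iff_forall_pow_eq_one]
  rintro ⟨a⟩
  exact (QuotientGroup.eq_one_iff _).2 (h a)

theorem index_le_gcd {H : Subgroup A} {S : Finset ℕ} (h : ∀ k ∈ S, ∀ a, a ^ k ∈ H) :
    H.index ≤ (Nat.card A).gcd (S.gcd id) :=
  Nat.le_of_dvd (Nat.gcd_pos_of_pos_left _ Nat.card_pos) (Nat.dvd_gcd H.index_dvd_card
    (dvd_gcd fun k hk => index_dvd_of_pow_mem (h k hk)))

open Classical in
theorem card_fiber_le [Fintype A] (S : Finset ℕ) (ε : A) :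
    Nat.card A * #{c : S → A | ∏ k, c k ^ k.1 = ε} ≤
      (Nat.card A).gcd (S.gcd id) * Nat.card A ^ #S := by
  let χ : (S → A) →* A := ∏ k : S, (powMonoidHom k.1).comp (Pi.evalMonoidHom _ k)
  have h1 : ∀ c, χ c = ∏ k, c k ^ k.1 := fun c => by simp [χ]
  have h2 : χ.range.index ≤ _ := index_le_gcd (S := S) fun k hk a => ⟨Pi.mulSingle ⟨k, hk⟩ a, by
    rw [h1, Fintype.prod_eq_single ⟨k, hk⟩ fun j hj => by simp [Pi.mulSingle_eq_of_ne hj]]; simp⟩
  have h3 : #{c : S → A | ∏ k, c k ^ k.1 = ε} ≤ Nat.card χ.ker := by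
    rcases Set.eq_empty_or_nonempty (χ ⁻¹' {ε}) with h | ⟨c, hc⟩
    · rw [filter_eq_empty_iff.2 fun c _ hc => h.subset (show c ∈ χ ⁻¹' {ε} from (h1 c).trans hc)]
      simp
    · rw [Nat.card_eq_fintype_card, Fintype.card_subtype]
      refine card_le_card_of_injOn (· * c⁻¹) (fun a ha => ?_) (mul_left_injective _).injOn
      simp only [coe_filter, mem_univ, true_and, Set.mem_ofPred_eq, ← h1] at ha ⊢
      simp [ha, Set.mem_singleton_iff.1 hc]
  have h4 := χ.ker.card_mul_index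
  rw [Subgroup.index_ker, Nat.card_fun, Nat.card_eq_fintype_card (α := S), Fintype.card_coe] at h4
  calc _ ≤ Nat.card χ.range * χ.range.index * Nat.card χ.ker := by
        rw [Subgroup.card_mul_index]; gcongr
    _ ≤ _ := by rw [← h4, mul_right_comm, mul_comm, mul_comm (Nat.card χ.ker)]; gcongr

/-- The objects `x` have a label of degree `l x k` and constant `c x k` for each block size `k`. -/
theorem count_le {X Y : Type*} [Finite X] (s : Finset ℕ) (n : ℕ) (R : ℕ → ℕ⟦X⟧)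
    (hR : ∀ k, coeff 0 (R k) = 1) (Ys : ℕ → ℕ → A → Finset Y)
    (hY : ∀ k j a, j ≠ 0 → Nat.card A * #(Ys k j a) ≤ coeff j (R k))
    (l : X → ℕ →₀ ℕ) (hl : ∀ x, l x ∈ finsuppAntidiag s n) (hk : ∀ x k, k ∣ l x k)
    (lab : X → ℕ → Y) (c : X → ℕ → A) (hm : ∀ x k, l x k ≠ 0 → lab x k ∈ Ys k (l x k) (c x k))
    (ε : A) (hc : ∀ x, ∏ k ∈ (l x).support, c x k ^ k = ε)
    (hw : ∀ x, Nat.card {y // l y = l x ∧ ∀ k, l x k ≠ 0 → lab y k = lab x k} ≤
      (Nat.card A).gcd ((l x).support.gcd id)) :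
    Nat.card A * Nat.card X ≤ ∑ d ∈ ((Nat.card A).gcd n).divisors,
      max 1 (d ^ 2 - 1) * coeff n (∏ k ∈ s with d ∣ k, R k) := by
  classical
  have := Fintype.ofFinite X
  have := Fintype.ofFinite A
  have h0 : 0 < Nat.card A := Nat.card_pos
  have h1 : ∀ m ∈ finsuppAntidiag s n, Nat.card A * #{x | l x = m} ≤
      ((Nat.card A).gcd (m.support.gcd id)) ^ 2 * ∏ k ∈ s, coeff (m k) (R k) := fun m hm' => by
    have h2 := card_le_mul_card_image_of_maps_to (s := {x | l x = m})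
      (f := fun x (k : m.support) => lab x k)
      (t := ({c : m.support → A | ∏ k, c k ^ k.1 = ε} : Finset _).biUnion fun c =>
        Fintype.piFinset fun k => Ys k (m k) (c k))
      (fun x hx => by
        obtain rfl := (mem_filter.1 hx).2
        exact mem_biUnion.2 ⟨fun k => c x k, mem_filter.2 ⟨mem_univ _, (prod_coe_sort _
          fun k => c x k ^ k).trans (hc x)⟩, Fintype.mem_piFinset.2 fun k =>
            hm x k (Finsupp.mem_support_iff.1 k.2)⟩)
      ((Nat.card A).gcd (m.support.gcd id)) fun b _ => by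
        rcases ({a ∈ ({x | l x = m} : Finset X) | (fun k : m.support => lab a k) = b} :
          Finset X).eq_empty_or_nonempty with h | ⟨x, hx⟩
        · simp [h]
        obtain ⟨hx', rfl⟩ := mem_filter.1 hx
        obtain rfl := (mem_filter.1 hx').2
        refine le_trans ?_ (hw x)
        rw [Nat.card_eq_fintype_card, Fintype.card_subtype]
        refine card_le_card fun y hy => ?_
        simp only [mem_filter, mem_univ, true_and] at hy ⊢
        exact ⟨hy.1, fun k hk => congrFun hy.2 ⟨k, Finsupp.mem_support_iff.2 hk⟩⟩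
    have h3 : ∀ c : m.support → A, Nat.card A ^ #m.support *
        #(Fintype.piFinset fun k : m.support => Ys k (m k) (c k)) ≤ ∏ k ∈ s, coeff (m k) (R k) :=
      fun c => by
        rw [← prod_subset (mem_finsuppAntidiag.1 hm').2 fun k _ hk => by
          rw [Finsupp.notMem_support_iff.1 hk, hR], ← prod_coe_sort m.support, Fintype.card_piFinset,
          ← Fintype.card_coe, ← card_univ, ← prod_const, ← prod_mul_distrib]
        exact prod_le_prod' fun k _ => hY _ _ _ (Finsupp.mem_support_iff.1 k.2)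
    have h4 := card_fiber_le m.support ε
    refine Nat.le_of_mul_le_mul_left ?_ (pow_pos h0 #m.support)
    have h5 := (Nat.mul_le_mul_left (Nat.card A ^ #m.support) card_biUnion_le).trans
      ((mul_sum ..).trans_le (sum_le_card_nsmul _ _ _ fun c (_ : c ∈ ({c : m.support → A |
        ∏ k, c k ^ k.1 = ε} : Finset _)) => h3 c))
    rw [smul_eq_mul] at h5
    have key : ∀ {a N g x b f W : ℕ}, x ≤ g * b → N * f ≤ g * a → a * b ≤ f * W →
        a * (N * x) ≤ a * (g ^ 2 * W) := fun {a N g x b f W} h2 h4 h5 =>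
      calc _ ≤ a * (N * (g * b)) := by gcongr
        _ = N * g * (a * b) := by ring
        _ ≤ N * g * (f * W) := by gcongr
        _ = g * (N * f) * W := by ring
        _ ≤ g * (g * a) * W := by gcongr
        _ = _ := by ring
    exact key h2 h4 h5
  have h2 : ∀ d, coeff n (∏ k ∈ s with d ∣ k, R k) = ∑ m ∈ finsuppAntidiag s n,
      if ∀ k ∈ m.support, d ∣ k then ∏ k ∈ s, coeff (m k) (R k) else 0 := fun d => by
    rw [coeff_prod, ← sum_filter]
    refine sum_congr (Finset.ext fun m => ?_) fun m hm => prod_subset (filter_subset _ _)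
      fun k h1 h2 => ?_
    · simp only [mem_finsuppAntidiag', subset_iff, mem_filter, and_assoc, ← forall_and]
    · rw [Finsupp.notMem_support_iff.1 fun h => h2 (mem_filter.2 ⟨h1, (mem_filter.1 hm).2 k h⟩), hR]
  simp only [h2, mul_sum]
  rw [sum_comm, Nat.card_eq_fintype_card (α := X), ← card_univ,
    card_eq_sum_card_fiberwise (f := l) (t := finsuppAntidiag s n) fun x _ => hl x, mul_sum]
  refine sum_le_sum fun m hm => ?_
  rcases ({x | l x = m} : Finset X).eq_empty_or_nonempty with h | ⟨x, hx⟩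
  · simp [h]
  obtain rfl := (mem_filter.1 hx).2
  refine (h1 _ hm).trans ?_
  refine le_trans (Nat.mul_le_mul_right _ ?_) ((sum_mul _ (fun d => if ∀ k ∈ (l x).support, d ∣ k then
    max 1 (d ^ 2 - 1) else 0) _).trans_le (sum_le_sum fun d _ => by split_ifs <;> simp))
  have h3 : ∀ k ∈ (l x).support, (Nat.card A).gcd ((l x).support.gcd id) ∣ k := fun k hk =>
    (Nat.gcd_dvd_right _ _).trans (gcd_dvd hk)
  have h4 : (Nat.card A).gcd ((l x).support.gcd id) ∈ ((Nat.card A).gcd n).divisors :=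
    Nat.mem_divisors.2 ⟨Nat.dvd_gcd (Nat.gcd_dvd_left _ _) (by
      rw [← (mem_finsuppAntidiag'.1 hm).1]
      exact dvd_sum fun k hk' => (h3 k hk').trans (hk x k)), (Nat.gcd_pos_of_pos_left _ h0).ne'⟩
  generalize (Nat.card A).gcd ((l x).support.gcd id) = g at *
  have h5 := Nat.one_mem_divisors.2 (Nat.mem_divisors.1 h4).2
  by_cases h6 : g = 1
  · subst h6
    exact le_trans (by simp) (single_le_sum (fun _ _ => Nat.zero_le _) h5)
  · refine le_trans ?_ (sum_le_sum_of_subset (s := {g, 1}) (insert_subset h4 (singleton_subset_iff.2 h5)))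
    rw [sum_pair h6, if_pos h3, if_pos fun _ _ => one_dvd _]
    omega

end count

section series
variable {α q d e n J N : ℕ}

/-- `1 + α ∑ q^(m-1) t^(e m)` -/
def RS (α q e : ℕ) : ℕ⟦X⟧ := mk fun j => if j = 0 then 1 else if e ∣ j then α * q ^ (j / e - 1) else 0

/-- `∑ q^m t^(e m)` -/
def GS (q e : ℕ) : ℕ⟦X⟧ := mk fun j => if e ∣ j then q ^ (j / e) else 0

theorem coeff_zero_RS : coeff 0 (RS α q e) = 1 := by simp [RS]

theorem coeff_RS (he : 0 < e) {m : ℕ} (hm : 0 < m) : coeff (e * m) (RS α q e) = α * q ^ (m - 1) := by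
  simp [RS, he.ne', hm.ne', Nat.mul_div_cancel_left _ he]

/-- the substitution `t ↦ t ^ d` -/
noncomputable def ex (d : ℕ) (f : ℕ⟦X⟧) : ℕ⟦X⟧ := mk fun j => if d ∣ j then coeff (j / d) f else 0

theorem ex_prod (hd : d ≠ 0) (s : Finset ℕ) (f : ℕ → ℕ⟦X⟧) : ex d (∏ k ∈ s, f k) = ∏ k ∈ s, ex d (f k) := by
  have h : ∀ f, map (Nat.castRingHom ℤ) (ex d f) = expand d hd (map (Nat.castRingHom ℤ) f) := fun f => by
    ext j; simp [ex, coeff_expand]
  refine map_injective (Nat.castRingHom ℤ) Nat.cast_injective ?_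
  simp only [h, map_prod]

theorem RS_mul (hd : d ≠ 0) : RS α q (d * e) = ex d (RS α q e) := by
  ext j
  rw [ex, coeff_mk]
  split_ifs with h
  · obtain ⟨j, rfl⟩ := h
    simp [RS, Nat.mul_div_cancel_left _ (Nat.pos_of_ne_zero hd), hd, Nat.mul_dvd_mul_iff_left
      (Nat.pos_of_ne_zero hd), Nat.mul_div_mul_left _ _ (Nat.pos_of_ne_zero hd)]
  · have : j ≠ 0 := by rintro rfl; simp at h
    simp [RS, this, mt (dvd_of_mul_right_dvd (b := e)) h]

theorem GS_eq (he : 0 < e) : GS q e = 1 + C q * X ^ e * GS q e := by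
  ext j
  rw [map_add, mul_assoc, coeff_C_mul, coeff_X_pow_mul', coeff_one]
  simp only [GS, coeff_mk]
  rcases j.eq_zero_or_pos with rfl | hj
  · simp [he.ne']
  by_cases h : e ∣ j
  · obtain ⟨j, rfl⟩ := h
    obtain ⟨j, rfl⟩ := Nat.exists_eq_add_one_of_ne_zero (show j ≠ 0 by rintro rfl; simp at hj)
    simp [mul_add, he.ne', Nat.mul_div_cancel_left _ he, Nat.add_div_right _ he, pow_succ']
  · rw [if_neg h, if_neg hj.ne']
    split_ifs with h1 h2
    · exact absurd ((Nat.dvd_sub_iff_left h1 dvd_rfl).1 h2) h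
    all_goals simp

theorem RS_eq (he : 0 < e) : RS α q e = 1 + C α * X ^ e * GS q e := by
  ext j
  rw [map_add, mul_assoc, coeff_C_mul, coeff_X_pow_mul', coeff_one]
  simp only [GS, RS, coeff_mk]
  rcases j.eq_zero_or_pos with rfl | hj
  · simp [he.ne']
  by_cases h : e ∣ j
  · obtain ⟨j, rfl⟩ := h
    obtain ⟨j, rfl⟩ := Nat.exists_eq_add_one_of_ne_zero (show j ≠ 0 by rintro rfl; simp at hj)
    simp [mul_add, he.ne', Nat.mul_div_cancel_left _ he, Nat.add_div_right _ he]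
  · rw [if_neg h, if_neg hj.ne']
    split_ifs with h1 h2
    · exact absurd ((Nat.dvd_sub_iff_left h1 dvd_rfl).1 h2) h
    all_goals simp

/-- the coefficients of the product of the first `J` factors -/
noncomputable def PC (α q J N : ℕ) : ℕ := coeff N (∏ k ∈ Icc 1 J, RS α q k)

theorem coeff_prod_RS (hd : 0 < d) (he : 0 < e) :
    coeff n (∏ k ∈ Icc 1 n with d ∣ k, RS α q (e * k)) =
      if e * d ∣ n then PC α q (n / d) (n / (e * d)) else 0 := by
  have h1 : {k ∈ Icc 1 n | d ∣ k} = (Icc 1 (n / d)).image (d * ·) := by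
    ext k
    simp only [mem_filter, mem_Icc, mem_image, Nat.le_div_iff_mul_le hd]
    exact ⟨fun ⟨⟨h1, h2⟩, j, h3⟩ => ⟨j, ⟨Nat.pos_of_ne_zero (by rintro rfl; omega), by
      rwa [mul_comm, ← h3]⟩, h3.symm⟩, fun ⟨j, ⟨h1, h2⟩, h3⟩ =>
        h3 ▸ ⟨⟨Nat.mul_pos hd h1, by rwa [mul_comm]⟩, Dvd.intro _ rfl⟩⟩
  rw [h1, prod_image fun _ _ _ _ h => Nat.eq_of_mul_eq_mul_left hd h]
  simp only [← mul_assoc, RS_mul (Nat.mul_pos he hd).ne', ← ex_prod (Nat.mul_pos he hd).ne', PC]
  rw [ex, coeff_mk]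

theorem le_coeff_mul (f : ℕ⟦X⟧) {g : ℕ⟦X⟧} (hg : coeff 0 g = 1) (N : ℕ) :
    coeff N f ≤ coeff N (f * g) := by
  rw [coeff_mul]
  exact le_trans (by simp [hg]) (single_le_sum (f := fun p : ℕ × ℕ => coeff p.1 f * coeff p.2 g)
    (fun _ _ => Nat.zero_le _) (a := (N, 0)) (by simp))

theorem exists_gl_defect (α J : ℕ) : ∃ D : ℕ⟦X⟧,
    ∏ k ∈ Icc 1 (J + 1), RS α (α + 1) k + D + X ^ (J + 1) * GS (α + 1) 1 = GS (α + 1) 1 ∧
      (∀ N, 0 < N → N ≤ J → 1 ≤ coeff N D) ∧ (1 ≤ J → α ≤ coeff 3 D) := by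
  have hi := map_injective (Nat.castRingHom ℤ) Nat.cast_injective
  have h1 := congrArg (map (Nat.castRingHom ℤ)) (GS_eq (q := α + 1) one_pos)
  induction J with
  | zero =>
    refine ⟨0, hi ?_, fun N h1 h2 => by omega, by simp⟩
    simp only [zero_add, Icc_self, prod_singleton, RS_eq one_pos, map_add, map_mul, map_one, map_pow,
      map_C, map_X, map_zero, Nat.cast_add] at h1 ⊢
    linear_combination -h1
  | succ J ih =>
    obtain ⟨D, h2, h3, h4⟩ := ih
    refine ⟨D * RS α (α + 1) (J + 2) + X ^ (J + 1) * RS α (α + 1) (J + 2), hi ?_, fun N h5 h6 => ?_,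
      fun _ => ?_⟩
    · replace h2 := congrArg (map (Nat.castRingHom ℤ)) h2
      have h5 := congrArg (map (Nat.castRingHom ℤ)) (GS_eq (q := α + 1) (e := J + 2) (by omega))
      rw [prod_Icc_succ_top (by omega), RS_eq (e := J + 1 + 1) (by omega)]
      simp only [map_add, map_mul, map_one, map_pow, map_C, map_X, Nat.cast_add] at h1 h2 h5 ⊢
      generalize map (Nat.castRingHom ℤ) (GS (α + 1) (J + 2)) = H at *
      generalize map (Nat.castRingHom ℤ) (GS (α + 1) 1) = G at *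
      generalize (C ((Nat.castRingHom ℤ) α) : ℤ⟦X⟧) = a at *
      have h6 : (X : ℤ⟦X⟧) ^ (J + 2) = X ^ (J + 1) * X := pow_succ _ _
      rw [h6] at h5 ⊢
      generalize (X : ℤ⟦X⟧) ^ (J + 1) = u at *
      linear_combination (1 + a * u * X * H) * h2 - u * (1 + a * u * X * H) * h1 + a * u * X * G * h5
    · rw [map_add]
      rcases h6.lt_or_eq with h | rfl
      · exact (h3 N h5 (by omega)).trans ((le_coeff_mul D coeff_zero_RS N).trans (Nat.le_add_right _ _))
      · exact le_trans (by simp) ((le_coeff_mul _ coeff_zero_RS _).trans (Nat.le_add_left _ _))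
    · rw [map_add]
      rcases J.eq_zero_or_pos with rfl | h
      · exact le_trans (by simp [coeff_X_pow_mul', RS]) (Nat.le_add_left _ _)
      · exact (h4 h).trans ((le_coeff_mul D coeff_zero_RS 3).trans (Nat.le_add_right _ _))

theorem PC_gl (hq : 0 < q) (hJ : 0 < J) (hN : 0 < N) : PC (q - 1) q J N + 1 ≤ q ^ N := by
  obtain ⟨α, rfl⟩ := Nat.exists_eq_add_one_of_ne_zero hq.ne'
  obtain ⟨J, rfl⟩ := Nat.exists_eq_add_one_of_ne_zero hJ.ne'
  obtain ⟨D, h1, h2, -⟩ := exists_gl_defect α J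
  have h3 := congrArg (coeff N) h1
  simp only [map_add, coeff_X_pow_mul', GS, coeff_mk, one_dvd, if_true, Nat.div_one] at h3
  rw [← h3, Nat.add_sub_cancel, PC, add_assoc]
  refine Nat.add_le_add_left ?_ _
  split_ifs with h
  · exact le_add_left (Nat.one_le_pow _ _ hq)
  · exact h2 N hN (by omega)

theorem PC_gl_three (hq : 0 < q) : PC (q - 1) q 3 3 + q ≤ q ^ 3 := by
  obtain ⟨α, rfl⟩ := Nat.exists_eq_add_one_of_ne_zero hq.ne'
  obtain ⟨D, h1, -, h2⟩ := exists_gl_defect α 2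
  have h3 := congrArg (coeff 3) h1
  simp only [map_add, coeff_X_pow_mul', GS, coeff_mk, one_dvd, if_true, Nat.div_one] at h3
  rw [← h3, Nat.add_sub_cancel, PC, add_assoc]
  simpa using h2 one_le_two

variable {f g : ℕ⟦X⟧} {y ρ σ : ℝ}

/-- `f` converges at `1 / y` and the sum is at most `ρ` -/
def Ev (y : ℝ) (f : ℕ⟦X⟧) (ρ : ℝ) : Prop := ∀ N, ∑ j ∈ range N, (coeff j f : ℕ) / y ^ j ≤ ρ

/-- the coefficients grow at most like `ρ y^N` -/
def Bd (y : ℝ) (f : ℕ⟦X⟧) (ρ : ℝ) : Prop := ∀ N, (coeff N f : ℕ) ≤ ρ * y ^ N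

theorem Ev.nonneg (h : Ev y f ρ) : 0 ≤ ρ := by simpa using h 0

theorem Ev.mono (h : Ev y f ρ) (h' : ρ ≤ σ) : Ev y f σ := fun N => (h N).trans h'

theorem Bd.mono (hy : 0 < y) (h : Bd y f ρ) (h' : ρ ≤ σ) : Bd y f σ := fun N =>
  (h N).trans (by gcongr)

theorem Ev.add (h : Ev y f ρ) (h' : Ev y g σ) : Ev y (f + g) (ρ + σ) := fun N => by
  simpa only [map_add, Nat.cast_add, add_div, sum_add_distrib] using add_le_add (h N) (h' N)

theorem ev_X_pow (hy : 0 < y) (e : ℕ) : Ev y (X ^ e) (1 / y ^ e) := fun N => by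
  simp only [coeff_X_pow, Nat.cast_ite, Nat.cast_one, Nat.cast_zero, ite_div, zero_div, sum_ite_eq']
  split_ifs <;> first | rfl | positivity

theorem ev_one (hy : 0 < y) : Ev y 1 1 := by simpa using ev_X_pow hy 0

theorem sum_coeff_mul_le (hy : 0 < y) (f g : ℕ⟦X⟧) (N : ℕ) :
    ∑ j ∈ range N, ((coeff j (f * g) : ℕ) : ℝ) / y ^ j ≤
      (∑ j ∈ range N, ((coeff j f : ℕ) : ℝ) / y ^ j) * ∑ j ∈ range N, ((coeff j g : ℕ) : ℝ) / y ^ j := by
  simp only [coeff_mul, Nat.cast_sum, sum_div]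
  rw [sum_mul_sum, ← sum_product', sum_sigma']
  refine le_trans (le_of_eq ?_) (sum_le_sum_of_subset_of_nonneg (s := {p ∈ range N ×ˢ range N | p.1 + p.2 < N})
    (filter_subset _ _) fun _ _ _ => by positivity)
  refine sum_nbij' (fun x => x.2) (fun p => ⟨p.1 + p.2, p⟩) (fun a ha => ?_) (by simp) (fun a ha => ?_)
    (by simp) fun a ha => ?_
  · simp only [mem_sigma, mem_range, HasAntidiagonal.mem_antidiagonal, mem_product, mem_filter] at ha ⊢
    omega
  · rw [mem_antidiagonal.1 (mem_sigma.1 ha).2]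
  · rw [← mem_antidiagonal.1 (mem_sigma.1 ha).2, pow_add, Nat.cast_mul, mul_div_mul_comm]

theorem Ev.mul (hy : 0 < y) (h : Ev y f ρ) (h' : Ev y g σ) : Ev y (f * g) (ρ * σ) := fun N =>
  (sum_coeff_mul_le hy f g N).trans (mul_le_mul (h N) (h' N) (by positivity) h.nonneg)

theorem Ev.pow (hy : 0 < y) (h : Ev y f ρ) (k : ℕ) : Ev y (f ^ k) (ρ ^ k) := by
  induction k with
  | zero => simpa using ev_one hy
  | succ k ih => simpa only [pow_succ] using ih.mul hy h

theorem Ev.prod (hy : 0 < y) {s : Finset ℕ} {f : ℕ → ℕ⟦X⟧} {ρ : ℕ → ℝ}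
    (h : ∀ k ∈ s, Ev y (f k) (ρ k)) : Ev y (∏ k ∈ s, f k) (∏ k ∈ s, ρ k) := by
  induction s using Finset.induction_on with
  | empty => simpa using ev_one hy
  | insert a s ha ih =>
    rw [prod_insert ha, prod_insert ha]
    exact (h a (by simp)).mul hy (ih fun k hk => h k (by simp [hk]))

theorem ev_C (hy : 0 < y) (a : ℕ) : Ev y (C a) a := fun N => by
  simp only [coeff_C, Nat.cast_ite, Nat.cast_zero, ite_div, zero_div, sum_ite_eq']
  split_ifs <;> simp

theorem ev_GS (hy : 0 < y) (he : 0 < e) (h : q < y ^ e) : Ev y (GS q e) (1 / (1 - q / y ^ e)) :=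
  fun N => by
    have h1 : ∑ j ∈ range N, ((coeff j (GS q e) : ℕ) : ℝ) / y ^ j ≤
        1 + q * (1 / y ^ e) * ∑ j ∈ range N, ((coeff j (GS q e) : ℕ) : ℝ) / y ^ j := by
      conv_lhs => rw [GS_eq he]
      simp only [map_add, Nat.cast_add, add_div, sum_add_distrib]
      exact add_le_add (ev_one hy N) ((sum_coeff_mul_le hy _ _ N).trans
        (mul_le_mul_of_nonneg_right (((ev_C hy q).mul hy (ev_X_pow hy e)) N) (by positivity)))
    rw [le_div_iff₀ (sub_pos.2 ((div_lt_one (by positivity)).2 h))]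
    rw [mul_one_div] at h1
    linarith

theorem Bd.mul (hy : 0 < y) (h : Bd y f ρ) (h' : Ev y g σ) : Bd y (f * g) (ρ * σ) := fun N => by
  have h0 : 0 ≤ ρ := by simpa using (Nat.cast_nonneg _).trans (h 0)
  rw [mul_comm f, coeff_mul, Nat.sum_antidiagonal_eq_sum_range_succ_mk, Nat.cast_sum, mul_right_comm]
  refine le_trans ?_ (mul_le_mul_of_nonneg_left (h' (N + 1)) (by positivity))
  rw [mul_sum]
  refine sum_le_sum fun j hj => ?_
  obtain ⟨i, rfl⟩ := Nat.exists_eq_add_of_le (Nat.lt_succ_iff.1 (mem_range.1 hj))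
  rw [Nat.cast_mul, Nat.add_sub_cancel_left, pow_add]
  exact (mul_le_mul_of_nonneg_left (h i) (Nat.cast_nonneg _)).trans_eq (by field_simp)

theorem bd_GS (hy : 0 < y) (h : (q : ℝ) ≤ y ^ e) : Bd y (GS q e) 1 := fun N => by
  simp only [GS, coeff_mk, one_mul]
  split_ifs with h1
  · obtain ⟨j, rfl⟩ := h1
    rcases e.eq_zero_or_pos with rfl | he
    · simp
    rw [Nat.mul_div_cancel_left _ he, pow_mul, Nat.cast_pow]
    gcongr
  · simp [hy.le]

end series

end H53
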