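import Cfsg.Agent.H53.PStar
import Cfsg.Agent.H53.CNum

/-! The layers of a multiset of elementary divisors: `lay s k` is the product of the irreducible
`φ` with `φ ^ k ∈ s`.  Counting conjugacy classes by their layers. -/

set_option autoImplicit false

open Polynomial Finset Module Matrix

namespace H53

variable {F : Type*} [Field F] {s t : Multiset F[X]} {P φ : F[X]} {k : ℕ}

open Classical in
/-- the base of a prime power -/
noncomputable def bas (P : F[X]) : F[X] := if h : IsPP P then h.choose else 1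

open Classical in
/-- the exponent of a prime power -/
noncomputable def xp (P : F[X]) : ℕ := if h : IsPP P then h.choose_spec.choose else 0

theorem IsPP.spec (h : IsPP P) :
    (bas P).Monic ∧ Irreducible (bas P) ∧ 0 < xp P ∧ P = bas P ^ xp P := by
  rw [bas, xp, dif_pos h, dif_pos h]; exact h.choose_spec.choose_spec

theorem bas_xp_pow (hm : φ.Monic) (hi : Irreducible φ) (hk : 0 < k) :
    bas (φ ^ k) = φ ∧ xp (φ ^ k) = k := by
  obtain ⟨h1, h2, h3, h4⟩ := IsPP.spec ⟨φ, k, hm, hi, hk, rfl⟩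
  exact monic_irreducible_eq_of_pow_eq h1 h2 hm hi h3 h4.symm

/-- the product of the bases of the elementary divisors with exponent `k` -/
noncomputable def lay (s : Multiset F[X]) (k : ℕ) : F[X] := ((s.filter (xp · = k)).map bas).prod

theorem lay_zero (k : ℕ) : lay (0 : Multiset F[X]) k = 1 := by simp [lay]

theorem lay_cons (P : F[X]) (s : Multiset F[X]) (k : ℕ) :
    lay (P ::ₘ s) k = (if xp P = k then bas P else 1) * lay s k := by
  rw [lay, Multiset.filter_cons]
  split_ifs <;> simp [lay]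

theorem lay_add (s t : Multiset F[X]) (k : ℕ) : lay (s + t) k = lay s k * lay t k := by simp [lay]

theorem monic_lay (hs : ∀ P ∈ s, IsPP P) (k : ℕ) : (lay s k).Monic :=
  monic_multiset_prod_of_monic _ _ fun P h => (hs P (Multiset.mem_of_mem_filter h)).spec.1

theorem prod_lay (hs : ∀ P ∈ s, IsPP P) {S : Finset ℕ} (hS : ∀ P ∈ s, xp P ∈ S) :
    ∏ k ∈ S, lay s k ^ k = s.prod := by
  induction s using Multiset.induction_on with
  | empty => simp [lay_zero]
  | cons P s ih =>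
    simp only [Multiset.forall_mem_cons] at hs hS
    simp only [lay_cons, mul_pow, prod_mul_distrib, ih hs.2 hS.2, ite_pow, one_pow, prod_ite_eq,
      if_pos hS.1, Multiset.prod_cons, ← hs.1.spec.2.2.2]

theorem eq_of_prod_eq (hs : ∀ P ∈ s, P.Monic ∧ Irreducible P) (ht : ∀ P ∈ t, P.Monic ∧ Irreducible P)
    (h : s.prod = t.prod) : s = t := by
  classical
  have key : ∀ s : Multiset F[X], (∀ P ∈ s, P.Monic ∧ Irreducible P) →
      UniqueFactorizationMonoid.normalizedFactors s.prod = s := fun s hs => by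
    rw [UniqueFactorizationMonoid.normalizedFactors_prod_eq _ fun P h => (hs P h).2,
      Multiset.map_congr rfl fun P h => (hs P h).1.normalize_eq_self, Multiset.map_id']
  rw [← key s hs, h, key t ht]

theorem exists_prod_eq (hP : P.Monic) :
    ∃ s : Multiset F[X], (∀ φ ∈ s, φ.Monic ∧ Irreducible φ) ∧ s.prod = P := by
  classical
  exact ⟨UniqueFactorizationMonoid.normalizedFactors P, fun φ h =>
    have h1 := UniqueFactorizationMonoid.irreducible_of_normalized_factor φ h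
    ⟨(normalize_eq_self_iff_monic h1.ne_zero).1
      (UniqueFactorizationMonoid.normalize_normalized_factor φ h), h1⟩,
    (UniqueFactorizationMonoid.prod_normalizedFactors_eq hP.ne_zero).trans hP.normalize_eq_self⟩

theorem lay_inj (hs : ∀ P ∈ s, IsPP P) (ht : ∀ P ∈ t, IsPP P) (h : ∀ k, lay s k = lay t k) :
    s = t := by
  classical
  have h1 : ∀ {s : Multiset F[X]}, (∀ P ∈ s, IsPP P) → ∀ k, ∀ φ ∈ (s.filter (xp · = k)).map bas,
      φ.Monic ∧ Irreducible φ := fun hs k φ h => by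
    obtain ⟨P, hP, rfl⟩ := Multiset.mem_map.1 h
    exact ⟨(hs P (Multiset.mem_of_mem_filter hP)).spec.1, (hs P (Multiset.mem_of_mem_filter hP)).spec.2.1⟩
  have h2 : ∀ {s : Multiset F[X]}, (∀ P ∈ s, IsPP P) → ∀ k,
      ((s.filter (xp · = k)).map bas).map (· ^ k) = s.filter (xp · = k) := fun hs k => by
    rw [Multiset.map_map]
    refine (Multiset.map_congr rfl fun P hP => ?_).trans (Multiset.map_id' _)
    obtain ⟨hQ, rfl⟩ := Multiset.mem_filter.1 hP
    exact (hs P hQ).spec.2.2.2.symm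
  ext P
  rw [← Multiset.count_filter_of_pos (p := (xp · = xp P)) rfl, ← h2 hs,
    eq_of_prod_eq (h1 hs _) (h1 ht _) (h _), h2 ht, Multiset.count_filter_of_pos (p := (xp · = xp P)) rfl]

theorem exists_of_lay (hs : ∀ P ∈ s, IsPP P) (h : (lay s k).natDegree ≠ 0) :
    ∃ φ : F[X], φ.Monic ∧ Irreducible φ ∧ φ ^ k ∈ s := by
  obtain ⟨P, hP⟩ := Multiset.exists_mem_of_ne_zero (s := s.filter (xp · = k)) fun h1 =>
    h (by simp [lay, h1])
  obtain ⟨hQ, rfl⟩ := Multiset.mem_filter.1 hP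
  exact ⟨_, (hs P hQ).spec.1, (hs P hQ).spec.2.1, (hs P hQ).spec.2.2.2 ▸ hQ⟩

theorem lay_map (θ : F[X] →* F[X]) (hθ : ∀ φ, φ.Monic → Irreducible φ → (θ φ).Monic ∧ Irreducible (θ φ))
    (hs : ∀ P ∈ s, IsPP P) (k : ℕ) : lay (s.map θ) k = θ (lay s k) := by
  induction s using Multiset.induction_on with
  | empty => simp [lay_zero]
  | cons P s ih =>
    obtain ⟨⟨φ, j, h1, h2, h3, rfl⟩, hs'⟩ := Multiset.forall_mem_cons.1 hs
    rw [Multiset.map_cons, lay_cons, lay_cons, ih hs', map_mul, map_pow, (bas_xp_pow h1 h2 h3).1,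
      (bas_xp_pow h1 h2 h3).2, (bas_xp_pow (hθ φ h1 h2).1 (hθ φ h1 h2).2 h3).1,
      (bas_xp_pow (hθ φ h1 h2).1 (hθ φ h1 h2).2 h3).2, apply_ite θ, map_one]

theorem coeff_zero_lay (hs : ∀ P ∈ s, IsPP P) (h0 : ∀ P ∈ s, P.coeff 0 ≠ 0) (k : ℕ) :
    (lay s k).coeff 0 ≠ 0 := by
  rw [lay, coeff_zero_multiset_prod, Multiset.map_map]
  refine Multiset.prod_ne_zero fun h => ?_
  obtain ⟨P, hP, h⟩ := Multiset.mem_map.1 h
  have h1 := Multiset.mem_of_mem_filter hP
  exact (coeff_zero_pow_ne_zero_iff (hs P h1).spec.2.2.1).1 ((hs P h1).spec.2.2.2 ▸ h0 P h1) h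

theorem xp_mem (hs : ∀ P ∈ s, IsPP P) {n : ℕ} (hd : (s.map natDegree).sum = n) :
    ∀ P ∈ s, xp P ∈ Icc 1 n := fun P hP => by
  obtain ⟨h1, h2, h3, h4⟩ := (hs P hP).spec
  refine mem_Icc.2 ⟨h3, le_trans ?_ (hd ▸ Multiset.le_sum_of_mem (Multiset.mem_map_of_mem _ hP))⟩
  conv_rhs => rw [h4, natDegree_pow]
  exact Nat.le_mul_of_pos_right _ h2.natDegree_pos

theorem sum_natDegree_lay (hs : ∀ P ∈ s, IsPP P) {n : ℕ} (hd : (s.map natDegree).sum = n) :
    ∑ k ∈ Icc 1 n, k * (lay s k).natDegree = n := by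
  conv_rhs => rw [← hd, ← natDegree_multiset_prod_of_monic _ fun P h => (hs P h).monic,
    ← prod_lay hs (xp_mem hs hd), natDegree_prod_of_monic _ _ fun k _ => (monic_lay hs k).pow k]
  simp only [natDegree_pow]

theorem natDegree_lay_eq_zero (hs : ∀ P ∈ s, IsPP P) {n : ℕ} (hd : (s.map natDegree).sum = n)
    (hk : k ∉ Icc 1 n) : lay s k = 1 := by
  rw [lay, Multiset.filter_eq_nil.2 fun P hP (h : xp P = k) => hk (h ▸ xp_mem hs hd P hP)]
  simp

/-- `pstar` as a monoid homomorphism -/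
noncomputable def pstarHom (σ : F →+* F) : F[X] →* F[X] := ⟨⟨pstar σ, pstar_one⟩, pstar_mul⟩

theorem pstar_lay {σ : F →+* F} (hσ : ∀ a, σ (σ a) = a) (hs : ∀ P ∈ s, IsPP P)
    (h : s.map (pstar σ) = s) (k : ℕ) : pstar σ (lay s k) = lay s k :=
  (lay_map (pstarHom σ) (fun _ h1 h2 => ⟨monic_pstar h1.ne_zero, irreducible_pstar hσ h1 h2⟩)
    hs k).symm.trans (congrArg (lay · k) h)

/-- scaling the roots as an automorphism -/
noncomputable def scl (c : Fˣ) : F[X] ≃* F[X] where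
  toFun P := P.scaleRoots c
  invFun P := P.scaleRoots (c⁻¹ : Fˣ)
  left_inv P := by simp [← scaleRoots_mul]
  right_inv P := by simp [← scaleRoots_mul]
  map_mul' P Q := mul_scaleRoots_of_noZeroDivisors P Q _

theorem scl_apply (c : Fˣ) (P : F[X]) : scl c P = P.scaleRoots c := rfl

theorem scl_lay {c : Fˣ} (hs : ∀ P ∈ s, IsPP P) (h : s.map (scl c) = s) (k : ℕ) :
    (lay s k).scaleRoots c = lay s k :=
  (lay_map (scl c) (fun _ h1 h2 => ⟨(monic_scaleRoots_iff _).2 h1, (MulEquiv.irreducible_iff _).2 h2⟩)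
    hs k).symm.trans (congrArg (lay · k) h)

theorem ed_smul {V : Type*} [AddCommGroup V] [Module F V] [FiniteDimensional F V] (c : Fˣ)
    (f : End F V) : ed ((c : F) • f) = (ed f).map (scl c) := by
  classical
  have h : ∀ Q, kd ((c : F) • f) (scl c Q) = kd f Q := fun Q => by
    have := scaleRoots_eval₂_mul_of_commute (p := Q) (algebraMap F (End F V)) f c
      (Algebra.commutes _ _) fun _ _ => Algebra.commutes _ _
    rw [← map_pow, ← Algebra.smul_def, ← Algebra.smul_def] at this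
    rw [kd, kd, scl_apply, aeval_def, this, LinearMap.ker_smul _ _ (pow_ne_zero _ c.ne_zero), aeval_def]
  have h' : ∀ {c : Fˣ} {P : F[X]}, IsPP P → IsPP (scl c P) := fun ⟨φ, k, h1, h2, h3, h4⟩ =>
    ⟨scl _ φ, k, (monic_scaleRoots_iff _).2 h1, (MulEquiv.irreducible_iff _).2 h2, h3,
      h4 ▸ map_pow _ _ _⟩
  ext P
  obtain ⟨P, rfl⟩ := (scl c).surjective P
  rw [Multiset.count_map_eq_count' _ _ (scl c).injective]
  by_cases hP : IsPP P
  · obtain ⟨φ, k, hm, hi, hk, rfl⟩ := hP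
    obtain ⟨k, rfl⟩ := Nat.exists_eq_add_one_of_ne_zero hk.ne'
    have h1 := count_ed f hm hi k
    have h2 := count_ed ((c : F) • f) (φ := scl c φ) ((monic_scaleRoots_iff _).2 hm)
      ((MulEquiv.irreducible_iff _).2 hi) k
    simp only [← map_pow, h] at h2
    rw [h1, add_right_inj, scl_apply c φ, natDegree_scaleRoots] at h2
    exact (Nat.eq_of_mul_eq_mul_right hi.natDegree_pos h2).symm
  · rw [Multiset.count_eq_zero.2 fun h1 => hP (ed_isPP f P h1), Multiset.count_eq_zero.2 fun h1 =>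
      hP ((scl c).symm_apply_apply P ▸ h' (c := c⁻¹) (ed_isPP _ _ h1))]

theorem med_smul {n : Type*} [Fintype n] [DecidableEq n] (c : Fˣ) (A : Matrix n n F) :
    med ((c : F) • A) = (med A).map (scl c) := by
  rw [med, map_smul, ed_smul, med]

section card
variable [Finite F]

instance finite_monic (m : ℕ) : Finite {P : F[X] // P.Monic ∧ P.natDegree = m} :=
  .of_equiv _ ((monicEquivDegreeLT m).trans (degreeLTEquiv F m).toEquiv).symm

instance finite_monic' (m : ℕ) (p : F[X] → Prop) :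
    Finite {P : F[X] // P.Monic ∧ P.natDegree = m ∧ p P} :=
  .of_injective (fun P => (⟨P.1, P.2.1, P.2.2.1⟩ : {P : F[X] // P.Monic ∧ P.natDegree = m}))
    fun _ _ h => Subtype.ext (Subtype.mk.inj h)

theorem card_monic_scale {m e : ℕ} (hm : 0 < m) {ζ : Fˣ} (he : orderOf ζ = e) {a : F} (ha : a ≠ 0) :
    Nat.card {P : F[X] // P.Monic ∧ P.natDegree = m ∧ P.coeff 0 = a ∧ P.scaleRoots ζ = P} ≤
      if e ∣ m then Nat.card F ^ (m / e - 1) else 0 := by
  have h1 : ∀ P : {P : F[X] // P.Monic ∧ P.natDegree = m ∧ P.coeff 0 = a ∧ P.scaleRoots ζ = P},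
      ∀ i, P.1.coeff i ≠ 0 → e ∣ m - i := fun ⟨P, _, h2, _, h4⟩ i hi => by
    have := congrArg (coeff · i) h4
    simp only [coeff_scaleRoots, h2] at this
    rw [← he, orderOf_dvd_iff_pow_eq_one, ← Units.val_eq_one, Units.val_pow_eq_pow_val]
    exact (mul_eq_left₀ hi).1 this
  split_ifs with h
  · obtain ⟨m, rfl⟩ := h
    have h0 := Nat.pos_of_mul_pos_right hm
    rw [Nat.mul_div_cancel_left _ h0, ← Nat.card_fin (m - 1), ← Nat.card_fun]
    refine Nat.card_le_card_of_injective (fun P j => P.1.coeff (e * (j + 1))) fun P Q h =>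
      Subtype.ext (Polynomial.ext fun i => ?_)
    rcases lt_or_ge (e * m) i with hi | hi
    · rw [coeff_eq_zero_of_natDegree_lt (P.2.2.1.trans_lt hi),
        coeff_eq_zero_of_natDegree_lt (Q.2.2.1.trans_lt hi)]
    by_cases h2 : e ∣ i
    · obtain ⟨_ | j, rfl⟩ := h2
      · exact P.2.2.2.1.trans Q.2.2.2.1.symm
      rcases (Nat.le_of_mul_le_mul_left hi h0).lt_or_eq with h3 | rfl
      · exact congrFun h ⟨j, by omega⟩
      · exact ((congrArg _ P.2.2.1.symm).trans P.2.1.coeff_natDegree).trans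
          ((congrArg _ Q.2.2.1.symm).trans Q.2.1.coeff_natDegree).symm
    · have h3 := mt (Nat.dvd_sub_iff_right hi (dvd_mul_right e m)).1 h2
      rw [not_not.1 (mt (h1 P i) h3), not_not.1 (mt (h1 Q i) h3)]
  · exact (Nat.card_eq_zero.2 (.inl ⟨fun P => h (h1 P 0 (P.2.2.2.1.trans_ne ha))⟩)).le

variable {A X : Type*} [CommGroup A] [Finite A] [IsCyclic A] [Finite X] {n e α q : ℕ}

/-- the bound for the number of classes -/
noncomputable def SB (a α q e n : ℕ) : ℕ := ∑ d ∈ (a.gcd n).divisors,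
  max 1 (d ^ 2 - 1) * if e * d ∣ n then PC α q (n / d) (n / (e * d)) else 0

theorem count_lay0 (he : 0 < e) (s : X → Multiset F[X]) (hs : ∀ x, ∀ P ∈ s x, IsPP P)
    (hd : ∀ x, ((s x).map natDegree).sum = n) (χ : F[X] → A) (Pr : F[X] → Prop)
    (hP : ∀ x k, Pr (lay (s x) k))
    (hY : ∀ m a, 0 < m → Nat.card A * Nat.card {P : F[X] // P.Monic ∧ P.natDegree = m ∧ χ P = a ∧
      Pr P} ≤ if e ∣ m then α * q ^ (m / e - 1) else 0)
    (ε : A) (h1 : χ 1 = 1) (hε : ∀ x, ∏ k ∈ Icc 1 n, χ (lay (s x) k) ^ k = ε)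
    (hw : ∀ x, ∃ H : Subgroup A, Nat.card {y // s y = s x} ≤ H.index ∧
      ∀ (φ : F[X]) k, φ.Monic → Irreducible φ → φ ^ k ∈ s x → ∀ c, c ^ k ∈ H) :
    Nat.card A * Nat.card X ≤ SB (Nat.card A) α q e n := by
  classical
  let l : X → ℕ →₀ ℕ := fun x => Finsupp.onFinset (Icc 1 n) (fun k => k * (lay (s x) k).natDegree)
    fun k hk => by_contra fun h => hk (by rw [natDegree_lay_eq_zero (hs x) (hd x) h]; simp)
  have hl : ∀ x k, l x k = k * (lay (s x) k).natDegree := fun _ _ => rfl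
  have h2 : ∀ x k, l x k = 0 → lay (s x) k = 1 := fun x k h => by
    rcases mul_eq_zero.1 ((hl x k).symm.trans h) with rfl | h
    · exact natDegree_lay_eq_zero (hs x) (hd x) (by simp)
    · exact (monic_lay (hs x) k).natDegree_eq_zero.1 h
  have hf : ∀ m a, {P : F[X] | P.Monic ∧ P.natDegree = m ∧ χ P = a ∧ Pr P}.Finite := fun m a =>
    finite_monic' m _
  refine (count_le (Icc 1 n) n (fun k => RS α q (e * k)) (fun _ => coeff_zero_RS)
    (fun k j a => if k ∣ j then (hf (j / k) a).toFinset else ∅) (fun k j a hj => ?_) l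
    (fun x => mem_finsuppAntidiag.2 ⟨sum_natDegree_lay (hs x) (hd x), Finsupp.support_onFinset_subset⟩)
    (fun x k => Dvd.intro _ rfl) (fun x => lay (s x)) (fun x k => χ (lay (s x) k)) (fun x k h => ?_) ε
    (fun x => ?_) fun x => ?_).trans_eq (sum_congr rfl fun d hd => ?_)
  · split_ifs with h
    · obtain ⟨m, rfl⟩ := h
      have hk := Nat.pos_of_ne_zero (left_ne_zero_of_mul hj)
      have := hY m a (Nat.pos_of_ne_zero (right_ne_zero_of_mul hj))
      rw [Nat.mul_div_cancel_left _ hk, ← Nat.card_eq_card_finite_toFinset]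
      refine this.trans_eq ?_
      simp only [RS, PowerSeries.coeff_mk, if_neg hj, mul_comm e k, Nat.mul_dvd_mul_iff_left hk,
        Nat.mul_div_mul_left _ _ hk]
    · simp
  · rw [hl] at h ⊢
    rw [if_pos (Dvd.intro _ rfl), Set.Finite.mem_toFinset,
      Nat.mul_div_cancel_left _ (Nat.pos_of_ne_zero (left_ne_zero_of_mul h))]
    exact ⟨monic_lay (hs x) k, rfl, rfl, hP x k⟩
  · rw [← hε x]
    exact prod_subset Finsupp.support_onFinset_subset fun k _ h => by
      rw [h2 x k (Finsupp.notMem_support_iff.1 h), h1, one_pow]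
  · obtain ⟨H, h3, h4⟩ := hw x
    refine le_trans ?_ (h3.trans (index_le_gcd fun k hk => ?_))
    · refine Nat.card_le_card_of_injective (fun y => ⟨y.1, lay_inj (hs _) (hs _) fun k => ?_⟩)
        fun _ _ h => Subtype.ext (Subtype.mk.inj h)
      by_cases h : l x k = 0
      · rw [h2 x k h, h2 y k (y.2.1.symm ▸ h :)]
      · exact y.2.2 k h
    · obtain ⟨φ, h5, h6, h7⟩ := exists_of_lay (hs x) (right_ne_zero_of_mul (Finsupp.mem_support_iff.1 hk))
      exact h4 φ k h5 h6 h7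
  · rw [coeff_prod_RS (Nat.pos_of_mem_divisors hd) he]

theorem count_lay (he : 0 < e) (s : X → Multiset F[X]) (hs : ∀ x, ∀ P ∈ s x, IsPP P)
    (hd : ∀ x, ((s x).map natDegree).sum = n) (ι : A →* F) (hι : Function.Injective ι)
    (Pr : F[X] → Prop) (hP : ∀ x k, Pr (lay (s x) k)) (hA : ∀ x k, ∃ a, ι a = (lay (s x) k).coeff 0)
    (hY : ∀ m a, 0 < m → Nat.card {P : F[X] // P.Monic ∧ P.natDegree = m ∧ P.coeff 0 = ι a ∧
      Pr P} ≤ if e ∣ m then q ^ (m / e - 1) else 0)
    (ε : F) (hε : ∀ x, (s x).prod.coeff 0 = ε)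
    (hw : ∀ x, ∃ H : Subgroup A, Nat.card {y // s y = s x} ≤ H.index ∧
      ∀ (φ : F[X]) k, φ.Monic → Irreducible φ → φ ^ k ∈ s x → ∀ c, c ^ k ∈ H) :
    Nat.card A * Nat.card X ≤ SB (Nat.card A) (Nat.card A) q e n := by
  rcases isEmpty_or_nonempty X with h | ⟨⟨x⟩⟩
  · simp
  have h1 : ∀ x, ι (∏ k ∈ Icc 1 n, Function.invFun ι ((lay (s x) k).coeff 0) ^ k) = ε := fun x => by
    rw [← hε x, ← prod_lay (hs x) (xp_mem (hs x) (hd x)), map_prod, coeff_zero_prod]
    exact prod_congr rfl fun k _ => by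
      rw [map_pow, Function.invFun_eq (hA x k), ← constantCoeff_apply, ← map_pow, constantCoeff_apply]
  refine count_lay0 he s hs hd (fun P => Function.invFun ι (P.coeff 0))
    (fun P => Pr P ∧ ∃ a, ι a = P.coeff 0) (fun x k => ⟨hP x k, hA x k⟩) (fun m a hm => ?_) _
    (hι (by rw [Function.invFun_eq (f := ι) ⟨1, by simp⟩]; simp)) (fun y => hι ((h1 y).trans (h1 x).symm)) hw
  refine (Nat.mul_le_mul_left _ (le_trans ?_ (hY m a hm))).trans_eq (by split_ifs <;> simp)
  exact Nat.card_le_card_of_injective (fun P => ⟨P.1, P.2.1, P.2.2.1,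
    (Function.invFun_eq P.2.2.2.2.2).symm.trans (congrArg ι P.2.2.2.1), P.2.2.2.2.1⟩)
      fun _ _ h => Subtype.ext (Subtype.mk.inj h)

end card

end H53
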