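/- Tower DG: the closed forms of the structural jobs. -/
import Cfsg.Agent.H53.DGGen
import Cfsg.Agent.H53.DGR3
import Cfsg.Agent.H7.DGT2
import Cfsg.Agent.H56.DGPar
import Cfsg.Agent.H96.DGM
import Cfsg.Agent.H5.DGHol
import Cfsg.Agent.H8.DGKZ
import Cfsg.Agent.H96.DGSrg
import Cfsg.Agent.H29.DGCusp
import Cfsg.Agent.H29.DGCusp2
import Cfsg.Agent.H54.DGInd
import Cfsg.Agent.H62.DGIso
import Cfsg.Agent.H12.DGIdx
import Cfsg.Agent.H56.DGRes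
import Cfsg.Agent.H56.DGTS

set_option autoImplicit false

namespace H53.DG

theorem aM1 : AM1 := H96.DGM.jobM1 H8.DG.jobKZ H56.DGPar.jobPar
theorem aM2 : AM2 := H96.DGM.jobM2 H8.DG.jobKZ H56.DGPar.jobPar
theorem aInd : AInd := H54.DG.jobInd H8.DG.jobMK H56.DGPar.jobPar aM1 aM2
theorem aHol : AHol := H5.DGHol.jobHol H8.DG.jobMK H7.DGT2.jobT2 H56.DGPar.jobPar aM1 aM2
theorem aIdx : AIdx := H12.DGIdx.jobIdx H62.DGIso.jobSv H62.DGIso.jobIso H56.DGPar.jobPar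
theorem aGen : AGen := jobGen aInd H29.DG.jobCusp aIdx H62.DGIso.jobIso
theorem aR2 : AR2 := jobR2 H62.DGIso.jobSv
theorem aR3 : AR3 := jobR3 H96.DGS.jobSRG H62.DGIso.jobSv H62.DGIso.jobIso
theorem aPS : APS := jobPS H96.DGS.jobSRG H62.DGIso.jobSv H62.DGIso.jobIso
theorem aRes : ARes := H56.DGRes.jobRes aR3
theorem aTS : ATS := H56.DGTS.jobTS aHol H29.DG.jobCusp2 aIdx H62.DGIso.jobIso

end H53.DG
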