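/- Tower DG: small kit on the permutation character on points. -/
import Cfsg.Agent.H53.DGSpec
import Cfsg.Agent.H28.CharKer

set_option autoImplicit false

namespace H53.DG

open Cfsg H28 Matrix Module

variable {F V : Type} [Field F] [AddCommGroup V] [Module F V]

theorem FS.neg_smul_pt (S : FS F V) (p : S.Pt) : S.neg • p = p :=
  Subtype.ext (by
    rw [S.smul_val]
    ext v
    refine ⟨?_, fun hv => ⟨-v, p.1.neg_mem hv, by simp⟩⟩
    rintro ⟨u, hu, rfl⟩
    exact p.1.neg_mem hu)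

theorem FS.pc_neg (S : FS F V) : S.pc S.neg = S.pc 1 := by
  have : MulAction.fixedBy S.Pt S.neg = MulAction.fixedBy S.Pt (1 : S.I) := by
    ext p
    simp [S.neg_smul_pt]
  simp only [FS.pc, H30.fixChar_apply, this]

theorem FS.pc_char (S : FS F V) [Finite V] : IsCharacter S.I S.pc := H30.isCharacter_fixChar _

theorem apply_eq_of_add {G : Type} [Group G] [Finite G] {χ ψ : G → ℂ} (hχ : IsCharacter G χ)
    (hψ : IsCharacter G ψ) {z : G} (h : (χ + ψ) z = (χ + ψ) 1) : χ z = χ 1 := by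
  have := (hχ.add hψ).mem_charKer.2 h
  rw [hχ.charKer_add hψ] at this
  exact hχ.mem_charKer.1 this.1

/-- The constituents of the permutation character on points are even. -/
theorem FS.Le.even {S : FS F V} [Finite V] {τ : S.I → ℂ} (h : S.Le τ) (hτ : IsCharacter _ τ) :
    τ S.neg = τ 1 := by
  obtain ⟨τ', h1, h2⟩ := h
  exact apply_eq_of_add hτ h1 (by rw [← h2, S.pc_neg])

theorem FS.PS.deg {S : FS F V} [Finite V] {d : ℕ} (h : S.PS d) : S.Deg d := by
  obtain ⟨τ, h1, h2, h3⟩ := h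
  exact ⟨τ, h1, h2, h3.even h1.isCharacter⟩

theorem FS.Deg.deg' {S : FS F V} {d : ℕ} (h : S.Deg d) : S.Deg' d := by
  obtain ⟨τ, h1, h2, -⟩ := h
  exact ⟨τ, h1, h2⟩

/-- The trivial character is a constituent unless there are no points. -/
theorem one_le_or (S : FS F V) [Finite V] {k : ℕ} (hk : k ≠ 0) : S.Le (fun _ => 1) ∨ S.NoTs k := by
  by_cases h : Nonempty S.Pt
  · refine Or.inl ⟨_, S.pc_char.sub_irr isIrrCharacter_one ?_, by simp⟩
    rw [FS.pc, H30.classInner_fixChar_one]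
    have : Nonempty (MulAction.orbitRel.Quotient S.I S.Pt) := ⟨Quotient.mk _ h.some⟩
    exact card_ne_zero' _
  · refine Or.inr fun u hu hQ _ => h ⟨⟨F ∙ u ⟨0, Nat.pos_of_ne_zero hk⟩, finrank_span_singleton (hu.ne_zero _), ?_⟩⟩
    intro v hv
    obtain ⟨c, rfl⟩ := Submodule.mem_span_singleton.1 hv
    rw [QuadraticMap.map_smul, hQ, smul_zero]

end H53.DG
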