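/- Tower DG: the closed forms of the jobs (`AX` = `JobX` for all finite fields and spaces). -/
import Cfsg.Agent.H53.DGGen0

set_option autoImplicit false

namespace H53.DG

def APar : Prop := ∀ (F : Type) [Field F] [Fintype F] [DecidableEq F] (V : Type) [AddCommGroup V]
  [Module F V] [Fintype V], JobPar F V

def AM1 : Prop := ∀ (F : Type) [Field F] [Fintype F] [DecidableEq F] (V : Type) [AddCommGroup V]
  [Module F V] [Fintype V], JobM1 F V

def AM2 : Prop := ∀ (F : Type) [Field F] [Fintype F] [DecidableEq F] (V : Type) [AddCommGroup V]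
  [Module F V] [Fintype V], JobM2 F V

def AInd : Prop := ∀ (F : Type) [Field F] [Fintype F] [DecidableEq F] (V : Type) [AddCommGroup V]
  [Module F V] [Fintype V], JobInd F V

def AHol : Prop := ∀ (F : Type) [Field F] [Fintype F] [DecidableEq F] (V : Type) [AddCommGroup V]
  [Module F V] [Fintype V], JobHol F V

def ASv : Prop := ∀ (F : Type) [Field F] [Fintype F] [DecidableEq F] (V : Type) [AddCommGroup V]
  [Module F V] [Fintype V], JobSv F V

def AIso : Prop := ∀ (F : Type) [Field F] [Fintype F] [DecidableEq F] (V : Type) [AddCommGroup V]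
  [Module F V] [Fintype V], JobIso F V

def AIdx : Prop := ∀ (F : Type) [Field F] [Fintype F] [DecidableEq F] (V : Type) [AddCommGroup V]
  [Module F V] [Fintype V], JobIdx F V

def AR2 : Prop := ∀ (F : Type) [Field F] [Fintype F] [DecidableEq F] (V : Type) [AddCommGroup V]
  [Module F V] [Fintype V], JobR2 F V

def AR3 : Prop := ∀ (F : Type) [Field F] [Fintype F] [DecidableEq F] (V : Type) [AddCommGroup V]
  [Module F V] [Fintype V], JobR3 F V

def AGen : Prop := ∀ (F : Type) [Field F] [Fintype F] [DecidableEq F] (V : Type) [AddCommGroup V]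
  [Module F V] [Fintype V], JobGen F V

def APS : Prop := ∀ (F : Type) [Field F] [Fintype F] [DecidableEq F] (V : Type) [AddCommGroup V]
  [Module F V] [Fintype V], JobPS F V

def ARes : Prop := ∀ (F : Type) [Field F] [Fintype F] [DecidableEq F] (V : Type) [AddCommGroup V]
  [Module F V] [Fintype V], JobRes F V

def ACusp : Prop := ∀ (F : Type) [Field F] [Fintype F] [DecidableEq F], JobCusp F

def ACusp2 : Prop := ∀ (F : Type) [Field F] [Fintype F] [DecidableEq F], JobCusp2 F

def ATS : Prop := ∀ (F : Type) [Field F] [Fintype F] [DecidableEq F], JobTS F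

def AFC : Prop := ∀ (F : Type) [Field F] [Fintype F] [DecidableEq F], JobFC F

def AFB : Prop := ∀ (F : Type) [Field F] [Fintype F] [DecidableEq F], JobFB F

def AFP : Prop := ∀ (F : Type) [Field F] [Fintype F] [DecidableEq F], JobFP F

def AFM : Prop := ∀ (F : Type) [Field F] [Fintype F] [DecidableEq F], JobFM F

def ABS : Prop := ∀ (F : Type) [Field F] [Fintype F] [DecidableEq F], JobBS F

def ABO : Prop := ∀ (F : Type) [Field F] [Fintype F] [DecidableEq F], JobBO F

end H53.DG
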