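/- Tower DG: arithmetic kit for the covering of pairs of primes. -/
import Cfsg.Agent.H53.DGSpec2

set_option autoImplicit false

namespace H53.DG

open Cfsg

theorem cancel {q k d D c m n j0 : ℕ} {s : ℕ → ℕ} (hq : 1 < q) (hk : k ≠ 0)
    (h : D * (q ^ k - 1) = d * ∏ j ∈ Finset.Ioc m n, s j) (h1 : m < j0) (h2 : j0 ≤ n)
    (hc : s j0 = (q ^ k - 1) * c) : d * c ∣ D ∧ ∀ j, m < j → j ≤ n → j ≠ j0 → s j ∣ D := by
  have h0 : 0 < q ^ k - 1 := Nat.sub_pos_of_lt (Nat.one_lt_pow hk hq)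
  rw [← Finset.mul_prod_erase _ _ (Finset.mem_Ioc.2 ⟨h1, h2⟩), hc] at h
  have e : D = d * c * ∏ j ∈ (Finset.Ioc m n).erase j0, s j := Nat.eq_of_mul_eq_mul_right h0 (by rw [h]; ring)
  exact ⟨e ▸ dvd_mul_right _ _, fun j a b hj => e ▸ Dvd.dvd.mul_left
    (Finset.dvd_prod_of_mem _ (Finset.mem_erase.2 ⟨hj, Finset.mem_Ioc.2 ⟨a, b⟩⟩)) _⟩

theorem split2 (q i : ℕ) : q ^ (2 * i) - 1 = (q ^ i - 1) * (q ^ i + 1) := by
  rw [pow_mul', mul_comm]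
  simpa using Nat.sq_sub_sq (q ^ i) 1

theorem mdvd (q : ℕ) {i j : ℕ} (h : i ∣ j) : q ^ i - 1 ∣ q ^ j - 1 := by
  obtain ⟨c, rfl⟩ := h
  rw [pow_mul]
  simpa using Nat.sub_dvd_pow_sub_pow (q ^ i) 1 c

theorem pdvd (q : ℕ) {i j : ℕ} (h : 2 * i ∣ j) : q ^ i + 1 ∣ q ^ j - 1 :=
  (Dvd.intro_left _ (split2 q i).symm).trans (mdvd q h)

theorem of_split {q r i j : ℕ} (hr : r.Prime) (h : r ∣ q ^ j - 1) (e : j = 2 * i) :
    r ∣ q ^ i - 1 ∨ r ∣ q ^ i + 1 := by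
  rw [e, split2] at h
  exact hr.dvd_mul.1 h

theorem of_NN {q n r : ℕ} (hr : r.Prime) (h : r ∣ NN q n) : ∃ i, 1 ≤ i ∧ i ≤ n ∧ r ∣ q ^ (2 * i) - 1 := by
  obtain ⟨i, hi, h⟩ := (Prime.dvd_finsetProd_iff hr.prime _).1 h
  exact ⟨i, (Finset.mem_Icc.1 hi).1, (Finset.mem_Icc.1 hi).2, h⟩

theorem eight_dvd {q : ℕ} (hq : ¬ 2 ∣ q) {j : ℕ} (hj : 2 ∣ j) : 8 ∣ q ^ j - 1 := by
  refine Dvd.dvd.trans ?_ (mdvd q hj)
  obtain ⟨k, rfl | rfl⟩ : ∃ k, q = 4 * k + 1 ∨ q = 4 * k + 3 := ⟨q / 4, by omega⟩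
  · exact ⟨2 * k ^ 2 + k, Nat.sub_eq_of_eq_add (by ring)⟩
  · exact ⟨2 * k ^ 2 + 3 * k + 1, Nat.sub_eq_of_eq_add (by ring)⟩

theorem not_dvd_sub {q r j : ℕ} (hr : r.Prime) (h : r ∣ q) (hq : 0 < q) (hj : j ≠ 0) : ¬ r ∣ q ^ j - 1 :=
  fun h' => hr.one_lt.ne' (Nat.dvd_one.1 ((Nat.dvd_sub_iff_right (Nat.one_le_pow _ _ hq)
    (h.trans (dvd_pow_self q hj))).1 h'))

theorem four_dvd (F : Type) [Field F] [Fintype F] (h : 2 ∣ Fintype.card F) (h3 : 3 ≤ Fintype.card F) :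
    4 ∣ Fintype.card F := by
  obtain ⟨p, _, n, hp, e⟩ := FiniteField.card' F
  rw [e] at h h3 ⊢
  obtain rfl : 2 = p := (Nat.prime_dvd_prime_iff_eq Nat.prime_two hp).1 (Nat.prime_two.dvd_of_dvd_pow h)
  refine pow_dvd_pow 2 (show 2 ≤ (n : ℕ) from ?_)
  by_contra hn
  have : (n : ℕ) ≤ 1 := by omega
  have := Nat.pow_le_pow_right (show 0 < 2 by norm_num) this
  omega

theorem pair {r s d : ℕ} (hr : r.Prime) (hs : s.Prime) (h : r ≠ s) (h1 : r ∣ d) (h2 : s ∣ d) : r * s ∣ d :=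
  ((Nat.coprime_primes hr hs).2 h).mul_dvd_of_dvd_of_dvd h1 h2

/-- `r` divides `D` often enough to survive the restriction to `PΩ`. -/
def Cov (q D r : ℕ) : Prop := r ∣ D ∧ (r = 2 → 8 ∣ D ∨ (2 ∣ q ∧ 4 ∣ D))

theorem Cov.dvd {q D d r : ℕ} (h : Cov q D r) (hr : r.Prime) (h1 : D ∣ 4 * d) (h2 : Even q → D ∣ 2 * d) :
    r ∣ d := by
  by_cases e : r = 2
  · subst e
    rcases h.2 rfl with h | h
    · have := h.trans h1
      omega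
    · have := h.2.trans (h2 (even_iff_two_dvd.2 h.1))
      omega
  · refine (hr.dvd_mul.1 (h.1.trans h1)).resolve_left fun h4 => e ?_
    exact (Nat.prime_dvd_prime_iff_eq hr Nat.prime_two).1 (hr.dvd_of_dvd_pow (n := 2) h4)

theorem cov_of {q D r j : ℕ} (h : r ∣ D) (hj : 2 ∣ j) (h8 : q ^ j - 1 ∣ D) (h4 : r ∣ q → q ^ 2 ∣ D) :
    Cov q D r := by
  refine ⟨h, fun e => ?_⟩
  subst e
  by_cases h2 : 2 ∣ q
  · exact Or.inr ⟨h2, (pow_dvd_pow_of_dvd h2 2).trans (h4 h2)⟩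
  · exact Or.inl ((eight_dvd h2 hj).trans h8)

/-- Two primes covered by a degree of `O` give a degree of `PΩ`. -/
theorem cov_pair {G : Type} [Group G] {q D r s : ℕ}
    (h : ∃ d' ∈ charDegrees G, D ∣ 4 * d' ∧ (Even q → D ∣ 2 * d')) (hr : r.Prime) (hs : s.Prime) (hrs : r ≠ s)
    (h1 : Cov q D r) (h2 : Cov q D s) : ∃ d ∈ charDegrees G, r * s ∣ d := by
  obtain ⟨d, hd, a, b⟩ := h
  exact ⟨d, hd, pair hr hs hrs (h1.dvd hr a b) (h2.dvd hs a b)⟩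

theorem sv_q (q : ℕ) {j : ℕ} (hj : 0 < j) : sv q q j = q ^ (2 * j) - 1 := by
  rw [sv, ← pow_succ, Nat.sub_add_cancel hj, split2]

theorem sv_one (q j : ℕ) : sv q 1 j = (q ^ j - 1) * (q ^ (j - 1) + 1) := by rw [sv, mul_one]

theorem sv_sq (q : ℕ) {j : ℕ} (hj : 0 < j) : sv q (q ^ 2) j = (q ^ j - 1) * (q ^ (j + 1) + 1) := by
  rw [sv, ← pow_add, show j - 1 + 2 = j + 1 by omega]

end H53.DG
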