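import Cfsg.Agent.H57.U2CSpec

/-! One dihedral pair on an `F₂`-module. -/

set_option autoImplicit false

namespace H53.DPV

open Subgroup Cfsg H96 H57.U2C

universe u

theorem pr : PR.{u} := by
  intro W _ _ a x h2 _ x3 hax
  have hx3 : x * x * x = 1 := by
    have := pow_orderOf_eq_one x
    rw [x3] at this
    simpa [pow_succ] using this
  have e3 : ∀ w : W, x • x • x • w = w := fun w => by
    rw [← mul_smul, ← mul_smul, hx3, one_smul]
  have fpf : ∀ w ∈ Wx x, x • w = w → w = 0 := by
    set τ : W →+ W := AddMonoidHom.id W + DistribSMul.toAddMonoidHom W x +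
      DistribSMul.toAddMonoidHom W (x * x) with hτ
    have ht : ∀ w, τ w = w + x • w + x • x • w := fun w => by simp [hτ, mul_smul]
    have hp : ∀ (n : ℕ) (w : W), τ (x ^ n • w) = τ w := by
      intro n
      induction n with
      | zero => simp
      | succ n ih =>
        intro w
        rw [pow_succ, mul_smul, ih, ht, ht, e3]; abel
    have hk : Wx x ≤ τ.ker := cm_top_le.2 fun g hg w => by
      obtain ⟨n, rfl⟩ := mem_powers_iff_mem_zpowers.2 hg
      rw [AddMonoidHom.mem_ker, H96.dl_apply, map_sub]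
      exact sub_eq_zero.2 (hp n w)
    intro w hw e
    have := hk hw
    rw [AddMonoidHom.mem_ker, ht, e, e, h2, zero_add] at this
    exact this
  have nrmU : ∀ g : H98.Au W, g * x * g⁻¹ ∈ zpowers x → g ∈ nrm (H98.Au W) (Wx x) := fun g hg =>
    nrm_cm ⟨nrm_top (G := H98.Au W) (V := W) ▸ mem_top g, H98.mem_normalizer_of_cj_le (by
      rw [H98.cj, MonoidHom.map_zpowers, zpowers_le]; exact hg)⟩
  have na := nrmU a (by rw [hax]; exact inv_mem (mem_zpowers x))
  have nx := nrmU x (by simp)
  have hker : (H96.dl a : W →+ W).ker = fx W (zpowers a) := by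
    ext w
    rw [AddMonoidHom.mem_ker, H96.dl_eq_zero, mem_fx]
    refine ⟨fun h g hg => ?_, fun h => h a (mem_zpowers a)⟩
    exact (zpowers_le (G := H98.Au W)).2 (show a ∈ MulAction.stabilizer (H98.Au W) w from h) hg
  have hn : nI a x = Nat.card ((Wx x).map (H96.dl a)) := by
    rw [← AddSubgroup.relIndex_ker, hker]
  have sq : Nat.card (Wx x) ≤ nI a x * nI a x := by
    rw [hn, ← Nat.card_prod]
    refine Nat.card_le_card_of_injective (fun w => (⟨H96.dl a (w : W), w, w.2, rfl⟩,
      ⟨H96.dl a (x • (w : W)), _, smul_mem_of_nrm nx w.2, rfl⟩)) fun v w e => ?_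
    have e1 : H96.dl a (v : W) = H96.dl a (w : W) := congrArg (fun p => (p.1 : W)) e
    have e2 : H96.dl a (x • (v : W)) = H96.dl a (x • (w : W)) := congrArg (fun p => (p.2 : W)) e
    rw [← sub_eq_zero, ← map_sub, H96.dl_eq_zero] at e1 e2
    rw [← smul_sub, ← mul_smul, mul_inv_eq_iff_eq_mul.1 hax, mul_smul, e1, inv_smul_eq_iff] at e2
    refine Subtype.ext (sub_eq_zero.1 (fpf _ (sub_mem v.2 w.2) ?_))
    conv_lhs => rw [e2]
    exact e3 _
  refine ⟨fpf, fun w hw => smul_mem_of_nrm na hw, ?_, by rw [hn]; rfl, sq, fun h => ?_⟩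
  · by_contra h
    have h0 : 0 < nI a x := ridx_pos _ _
    have h1 : nI a x = 1 := by omega
    rw [h1] at sq
    have hb : Wx x = ⊥ := AddSubgroup.eq_bot_of_card_le _ sq
    have : x = 1 := eq_one_of_dl (V := W) fun v =>
      AddSubgroup.mem_bot.1 (hb ▸ dl_mem_cm (mem_zpowers x) (AddSubgroup.mem_top v))
    rw [this, orderOf_one] at x3
    omega
  · rw [h] at sq
    rw [hn] at h
    obtain ⟨⟨_, w, hw, rfl⟩, hc, huniq⟩ := (Nat.card_eq_two_iff' 0).1 h
    set c := H96.dl a w with hcd
    have c0 : c ≠ 0 := fun e => hc (Subtype.ext e)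
    have cU : c ∈ Wx x := dl_mem_of_nrm na hw
    have xc : x • c ≠ c := fun e => c0 (fpf c cU e)
    have xc0 : x • c ≠ 0 := fun e => c0 ((smul_eq_zero_iff_eq x).1 e)
    have cxc : c + x • c ≠ 0 := fun e => xc (by rw [← h2 c] at e; exact add_left_cancel e)
    have hset : ({0, c, x • c, c + x • c} : Set W) = (Wx x : Set W) := by
      refine Set.eq_of_subset_of_ncard_le ?_ ?_ (Set.toFinite _)
      · rintro _ (rfl | rfl | rfl | rfl)
        · exact zero_mem _
        · exact cU
        · exact smul_mem_of_nrm nx cU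
        · exact add_mem cU (smul_mem_of_nrm nx cU)
      · generalize x • c = d at xc xc0 cxc
        rw [Set.ncard_insert_of_notMem (by simp [c0.symm, xc0.symm, cxc.symm]),
          Set.ncard_insert_of_notMem (by simp [xc.symm, xc0]), Set.ncard_pair (by simp [c0])]
        exact sq
    refine ⟨w, ⟨xc, fun v => ?_⟩, fun v hv => ?_⟩
    · have : H96.dl x v ∈ ({0, c, x • c, c + x • c} : Set W) :=
        hset ▸ dl_mem_cm (mem_zpowers x) (AddSubgroup.mem_top v)
      simpa using this
    · by_cases e : H96.dl a v = 0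
      · exact .inl e
      · exact .inr (congrArg Subtype.val
          (huniq ⟨H96.dl a v, v, hv, rfl⟩ fun e' => e (congrArg Subtype.val e')))

end H53.DPV
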