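import Cfsg.Agent.H53.OClass
import Cfsg.Agent.H56.OmegaFin

/-! The discriminant (a square class) of a possibly degenerate reflexive bilinear form. -/

set_option autoImplicit false

open Module Matrix

namespace H53

open H56 (IsBasisMod SqCl sqcl sqcl_mul)
open H58 (gramB)

variable {F : Type*} [Field F]
variable {U V W : Type*} [AddCommGroup U] [Module F U] [AddCommGroup V] [Module F V]
  [AddCommGroup W] [Module F W]
variable {ι κ : Type*} [Fintype ι] [DecidableEq ι] [Fintype κ] [DecidableEq κ]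
variable {β : V →ₗ[F] V →ₗ[F] F} {β' : W →ₗ[F] W →ₗ[F] F} {x : ι → V}

omit [DecidableEq ι] in
theorem isBasisMod_of_mk {K : Submodule F V} (b : Basis ι F (V ⧸ K))
    (hx : ∀ i, Submodule.Quotient.mk (x i) = b i) : IsBasisMod K x := by
  have e : ∀ c : ι → F, ∑ i, c i • b i = Submodule.Quotient.mk (∑ i, c i • x i) := fun c => by
    simp only [← hx, ← Submodule.mkQ_apply, map_sum, map_smul]
  refine ⟨fun c hc => ?_, fun v => ⟨b.repr (Submodule.Quotient.mk v), ?_⟩⟩
  · refine Fintype.linearIndependent_iff.1 b.linearIndependent c ?_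
    rwa [e, Submodule.Quotient.mk_eq_zero]
  · rw [← Submodule.Quotient.eq, ← e, b.sum_repr]

theorem nondeg_liftQ (hr : β.IsRefl) :
    LinearMap.BilinForm.Nondegenerate (hr.liftQ₂ β (LinearMap.ker β) le_rfl) := by
  refine ⟨fun a h => ?_, fun a h => ?_⟩ <;> obtain ⟨a, rfl⟩ := Submodule.Quotient.mk_surjective _ a
  · exact (Submodule.Quotient.mk_eq_zero _).2 (LinearMap.ext fun y => h (Submodule.Quotient.mk y))
  · exact (Submodule.Quotient.mk_eq_zero _).2 (LinearMap.ext fun y =>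
      hr _ _ (h (Submodule.Quotient.mk y)))

theorem gramB_liftQ (hr : β.IsRefl) {b : ι → V ⧸ LinearMap.ker β}
    (hb : ∀ i, b i = Submodule.Quotient.mk (x i)) :
    gramB (hr.liftQ₂ β (LinearMap.ker β) le_rfl) b = gramB β x := by
  simp only [gramB, hb]; rfl

theorem gramB_ne_zero_of_mod (hr : β.IsRefl) (h : IsBasisMod (LinearMap.ker β) x) :
    gramB β x ≠ 0 := by
  obtain ⟨b, hb⟩ := h.exists_basis
  exact gramB_liftQ hr hb ▸ H58.gramB_ne_zero (nondeg_liftQ hr) b

theorem eq_zero_of_gramB (h : gramB β x ≠ 0) {a : ι → F} (ha : ∀ j, ∑ i, a i * β (x i) (x j) = 0) :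
    a = 0 := eq_zero_of_vecMul_eq_zero h (funext ha)

theorem gramB_comp (b : Basis ι F V) (r : End F V) :
    (of fun i j => β (r (b i)) (b j)).det = LinearMap.det r * gramB β b := by
  rw [← LinearMap.det_toMatrix b, ← det_transpose (LinearMap.toMatrix b b r), gramB, ← det_mul]
  congr 1
  ext i j
  conv_lhs => rw [of_apply, ← b.sum_repr (r (b i)), map_sum, LinearMap.sum_apply]
  simp [mul_apply, LinearMap.toMatrix_apply]

variable [FiniteDimensional F U] [FiniteDimensional F V] [FiniteDimensional F W]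

/-- the discriminant of the nondegenerate part -/
noncomputable def dsc (β : V →ₗ[F] V →ₗ[F] F) : SqCl F :=
  sqcl (gramB β (H56.exists_isBasisMod (LinearMap.ker β)).choose)

theorem dsc_eq (hr : β.IsRefl) (h : IsBasisMod (LinearMap.ker β) x) : dsc β = sqcl (gramB β x) := by
  obtain ⟨b, hb⟩ := h.exists_basis
  obtain ⟨c, hc⟩ := (H56.exists_isBasisMod (LinearMap.ker β)).choose_spec.exists_basis
  rw [dsc, ← gramB_liftQ hr hb, ← gramB_liftQ hr hc, H58.gramB_basis, H58.gramB_basis,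
    H56.sqcl_det_toMatrix_basis _ b]

omit [DecidableEq ι] [FiniteDimensional F V] [FiniteDimensional F W] in
theorem isBasisMod_comp (hr : β'.IsRefl) (π : V →ₗ[F] W) (h : ∀ x y, β x y = β' (π x) (π y))
    (hs : ∀ w, ∃ v, w - π v ∈ LinearMap.ker β') (hx : IsBasisMod (LinearMap.ker β) x) :
    IsBasisMod (LinearMap.ker β') fun i => π (x i) := by
  have e : ∀ c : ι → F, ∑ i, c i • π (x i) = π (∑ i, c i • x i) := fun c => by simp
  refine ⟨fun c hc => hx.indep c (LinearMap.ext fun y => ?_), fun w => ?_⟩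
  · rw [h, ← e, LinearMap.mem_ker.1 hc]; rfl
  · obtain ⟨v, hv⟩ := hs w
    obtain ⟨c, hc⟩ := hx.span v
    refine ⟨c, ?_⟩
    rw [e, ← sub_add_sub_cancel _ (π v), ← map_sub]
    refine add_mem hv (LinearMap.ext fun y => ?_)
    obtain ⟨z, hz⟩ := hs y
    rw [← sub_add_cancel y (π z), map_add, ← h, LinearMap.mem_ker.1 hc,
      hr _ _ (LinearMap.congr_fun hz _)]
    simp

theorem dsc_comp (hr : β'.IsRefl) (π : V →ₗ[F] W) (h : ∀ x y, β x y = β' (π x) (π y))
    (hs : ∀ w, ∃ v, w - π v ∈ LinearMap.ker β') : dsc β = dsc β' := by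
  rw [dsc_eq hr (isBasisMod_comp hr π h hs (H56.exists_isBasisMod _).choose_spec), dsc]
  simp only [gramB, h]

theorem dsc_zero (h : ∀ x y, β x y = 0) : dsc β = 1 := by
  rw [dsc_eq (fun _ _ _ => h _ _) (x := (Empty.elim : Empty → V))
    ⟨fun _ _ i => i.elim, fun v => ⟨0, LinearMap.ext (h _)⟩⟩]
  simp [gramB]

theorem dsc_sumForm (hr : β.IsRefl) (hr' : β'.IsRefl) (hs : (sumForm β β').IsRefl) :
    dsc (sumForm β β') = dsc β * dsc β' := by
  obtain ⟨x, hx⟩ := H56.exists_isBasisMod (LinearMap.ker β)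
  obtain ⟨y, hy⟩ := H56.exists_isBasisMod (LinearMap.ker β')
  rw [dsc_eq hr hx, dsc_eq hr' hy, ← sqcl_mul (gramB_ne_zero_of_mod hr hx) (gramB_ne_zero_of_mod hr' hy),
    dsc_eq hs (x := Sum.elim (fun i => (x i, 0)) fun j => (0, y j)) ⟨fun c hc => ?_, fun v => ?_⟩]
  · rw [gramB, gramB, gramB, ← det_fromBlocks_zero₂₁ _ 0]
    congr 2
    ext (i | i) (j | j) <;> simp
  · rintro (i | i)
    · exact hx.indep (fun i => c (.inl i)) (LinearMap.ext fun z => by
        simpa [Prod.fst_sum, Prod.snd_sum] using LinearMap.congr_fun hc (z, 0)) i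
    · exact hy.indep (fun i => c (.inr i)) (LinearMap.ext fun z => by
        simpa [Prod.fst_sum, Prod.snd_sum] using LinearMap.congr_fun hc (0, z)) i
  · obtain ⟨c, hc⟩ := hx.span v.1
    obtain ⟨d, hd⟩ := hy.span v.2
    refine ⟨Sum.elim c d, LinearMap.ext fun z => ?_⟩
    have := congrArg₂ (· + ·) (LinearMap.congr_fun hc z.1) (LinearMap.congr_fun hd z.2)
    simpa [Prod.fst_sum, Prod.snd_sum, add_sub_add_comm] using this

variable {ε : F}

omit [FiniteDimensional F V] in
theorem IsSF.isRefl (h : IsSF (σ := RingHom.id F) ε β) : β.IsRefl := fun _ _ => h.eq_zero_comm.1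

omit [DecidableEq ι] [FiniteDimensional F V] in
theorem IsSF.isBasisMod (h : IsSF (σ := RingHom.id F) ε β) (b : Basis ι F V) :
    IsBasisMod (LinearMap.ker β) b :=
  LinearMap.ker_eq_bot.2 h.injective ▸ H56.isBasisMod_bot b

theorem IsSF.dsc_eq (h : IsSF (σ := RingHom.id F) ε β) (b : Basis ι F V) :
    dsc β = sqcl (gramB β b) := H53.dsc_eq h.isRefl (h.isBasisMod b)

theorem Iso.dsc_eq {f : End F V} {g : End F W} (h : Iso β f β' g) (hr : β'.IsRefl) :
    dsc β = dsc β' := by
  obtain ⟨e, -, he⟩ := h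
  exact dsc_comp hr e (fun x y => (he x y).symm) fun w => ⟨e.symm w, by simp⟩

theorem IsSF.dsc_eq_mul (h : IsSF (σ := RingHom.id F) ε β) {A : Submodule F V}
    (hd : Disjoint A (H59.perp β A)) : dsc β =
      dsc (β.domRestrict₁₂ A A) * dsc (β.domRestrict₁₂ (H59.perp β A) (H59.perp β A)) := by
  have h1 := h.restrict hd
  have h2 := h.restrict (h.disjoint_perp hd)
  rw [← ((Inv.one (B := β)).iso_sumForm h (fun _ => id) hd).dsc_eq h.isRefl,
    dsc_sumForm h1.isRefl h2.isRefl (h1.sumForm h2).isRefl]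

theorem dsc_alt (ha : ∀ x, β x x = 0) : dsc β = 1 := by
  obtain ⟨m, k, b, h1, h2, h3, h4⟩ := H54.exists_symplectic_basis_radical (B := β) ha
  have hr : β.IsRefl := LinearMap.IsAlt.isRefl ha
  have h5 : gramB β (fun i => b (.inl i)) = 1 := by
    rw [gramB, show (of fun i j => β (b (.inl i)) (b (.inl j))) =
      fromBlocks 1 1 0 1 * fromBlocks 1 0 (-1) 1 * fromBlocks 1 1 0 1 from ?_]
    · simp only [det_mul, det_fromBlocks_zero₂₁, det_fromBlocks_zero₁₂, det_one, mul_one]
    simp only [fromBlocks_multiply]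
    ext (i | i) (j | j)
    · simp [h2]
    · simp [h1, one_apply]
    · simp [← LinearMap.IsAlt.neg ha (b (.inl (.inl j))), h1, one_apply, eq_comm]
    · simp [h3]
  rw [dsc_eq hr (x := fun i => b (.inl i)) ⟨fun c hc => ?_, fun v => ⟨fun i => b.repr v (.inl i), ?_⟩⟩,
    h5, H56.sqcl_one]
  · exact congrFun (eq_zero_of_gramB (h5 ▸ one_ne_zero) fun j => by
      simpa using LinearMap.congr_fun hc (b (.inl j)))
  · conv => enter [2, 1]; rw [← b.sum_repr v, Fintype.sum_sum_type]
    rw [add_sub_cancel_left]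
    exact sum_mem fun j _ => Submodule.smul_mem _ _ (LinearMap.ext (h4 j))

/-- Classification of symmetric and alternating forms over a finite field of odd order. -/
theorem exists_isometry_of_dsc [Finite F] (h2 : (2 : F) ≠ 0) (h : IsSF (σ := RingHom.id F) ε β)
    (h' : IsSF (σ := RingHom.id F) ε β') (hd : finrank F V = finrank F W) (he : ε = 1 → dsc β = dsc β') :
    ∃ e : V ≃ₗ[F] W, ∀ x y, β' (e x) (e y) = β x y := by
  rcases mul_self_eq_one_iff.1 h.eps with rfl | rfl
  · obtain ⟨Q, rfl⟩ := exists_qinv_of_two_ne h2 h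
    obtain ⟨Q', rfl⟩ := exists_qinv_of_two_ne h2 h'
    obtain ⟨e, he⟩ := H58.exists_equiv_of_isSquare_gram h2 h.nondegenerate h'.nondegenerate hd
      (finBasis F V) (finBasis F W) ((H56.sqcl_eq_iff_isSquare_mul
        (H58.gram_ne_zero h.nondegenerate _) (H58.gram_ne_zero h'.nondegenerate _)).1
          ((h.dsc_eq _).symm.trans ((he rfl).trans (h'.dsc_eq _))))
    exact ⟨e, H58.polar_equiv e he⟩
  · have : ∀ a : F, a = -1 * a → a = 0 := fun a h =>
      (mul_eq_zero.1 (show 2 * a = 0 by linear_combination h)).resolve_left h2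
    exact H54.exists_isometry_of_finrank_eq h.nondegenerate (fun x => this _ (h.symm x x))
      h'.nondegenerate (fun x => this _ (h'.symm x x)) hd

omit [FiniteDimensional F V] in
theorem isSF_liftQ (hε : ε * ε = 1) (hr : β.IsRefl) (h : ∀ x y, β y x = ε * β x y) :
    IsSF (σ := RingHom.id F) ε (hr.liftQ₂ β (LinearMap.ker β) le_rfl) :=
  ⟨fun _ => rfl, hε, fun a b => by
    obtain ⟨a, rfl⟩ := Submodule.Quotient.mk_surjective _ a
    obtain ⟨b, rfl⟩ := Submodule.Quotient.mk_surjective _ b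
    exact h a b, (nondeg_liftQ hr).1⟩

theorem exists_gram_eq_of_dsc [Finite F] (h2 : (2 : F) ≠ 0) (hε : ε * ε = 1)
    (h : ∀ x y, β y x = ε * β x y) (h' : ∀ x y, β' y x = ε * β' x y)
    (hx : IsBasisMod (LinearMap.ker β) x) {x' : ι → W} (hx' : IsBasisMod (LinearMap.ker β') x')
    (he : ε = 1 → dsc β = dsc β') :
    ∃ y : ι → W, IsBasisMod (LinearMap.ker β') y ∧ ∀ i j, β' (y i) (y j) = β (x i) (x j) := by
  have hr : β.IsRefl := fun x y h0 => by rw [h, h0, mul_zero]
  have hr' : β'.IsRefl := fun x y h0 => by rw [h', h0, mul_zero]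
  obtain ⟨b, hb⟩ := hx.exists_basis
  obtain ⟨b', hb'⟩ := hx'.exists_basis
  have h3 := isSF_liftQ hε hr h
  have h4 := isSF_liftQ hε hr' h'
  obtain ⟨e, he⟩ := exists_isometry_of_dsc h2 h3 h4
    ((finrank_eq_card_basis b).trans (finrank_eq_card_basis b').symm) fun h1 => by
      rw [h3.dsc_eq b, gramB_liftQ hr hb, ← dsc_eq hr hx, he h1, dsc_eq hr' hx',
        ← gramB_liftQ hr' hb', h4.dsc_eq b']
  choose y hy using fun i => Submodule.Quotient.mk_surjective _ (e (b i))
  refine ⟨y, isBasisMod_of_mk (b.map e) hy, fun i j => ?_⟩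
  have := he (b i) (b j)
  rwa [← hy, ← hy, hb, hb] at this

end H53
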