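/- Tower EA, job EV: virtual projective characters of a block with elementary defect group. -/
import Cfsg.Agent.H68.EaSpec

set_option autoImplicit false

open scoped MonoidAlgebra ComplexConjugate

namespace H53.EA

open Cfsg H28 H34 H35 H39 H24.KB Subgroup H68.EA

universe u

variable {G : Type u} [Group G] [Fintype G] {p : ℕ} {M : Ideal AlgInt} [M.IsMaximal]
  {B : Set (IrrCharacter G)} {D : Subgroup G} {e : (F M)[G]}

open Classical in
theorem sum_inv {χ : G → ℂ} (hχ : IsIrrCharacter G χ) :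
    (∑ s : G with s * s = 1, ∑ t : G with t * t = 1, χ (s * t)) * χ 1 =
      (∑ s : G with s * s = 1, χ s) ^ 2 := by
  have hφ : IsClassFunction G fun g : G => if g * g = 1 then (1 : ℂ) else 0 := fun g k => by
    have : k * g * k⁻¹ * (k * g * k⁻¹) = 1 ↔ g * g = 1 := by
      rw [show k * g * k⁻¹ * (k * g * k⁻¹) = k * (g * g) * k⁻¹ by group, conj_eq_one_iff]
    simp only [this]
  rw [Finset.sum_comm, Finset.sum_mul, sq, Finset.mul_sum]
  refine Finset.sum_congr rfl fun t _ => ?_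
  simpa [Finset.sum_filter] using H30.sum_classFun_mul_irr hχ hφ t

theorem vanish (h : BD p M B D e) {R : Finset D} (hc : ∀ t : SS p M B, ∃ i ∈ R, t.Cj (h.s i))
    {a : IrrCharacter G → ℂ} (ha : ∀ i ∈ R, i ≠ 1 → ∑ ψ ∈ bF B, a ψ • (h.s i).f ψ = 0) (g : G)
    (hg : p ∣ orderOf g) : (∑ ψ ∈ bF B, a ψ • (ψ : G → ℂ)) g = 0 := by
  classical
  obtain ⟨u, hu⟩ := H41.exists_isPPart h.hM.1 g
  have hs := H41.isSec_centralizer (p := p) (u := u) hu.choose_spec.2.2.1
  obtain ⟨y, hy, rfl⟩ := hs.exists_eq_mul hu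
  have u1 : u ≠ 1 := by
    rintro rfl
    rw [one_mul, orderOf_coe] at hg
    exact hy hg
  simp only [Finset.sum_apply, Pi.smul_apply, smul_eq_mul]
  rw [Finset.sum_congr rfl fun ψ hψ => by
    rw [show (ψ : G → ℂ) (u * y) = _ from apply_eq_sum_fsec h.hM h.hB hs (mem_bF.1 hψ) hy,
      Finset.mul_sum], Finset.sum_comm]
  refine Finset.sum_eq_zero fun b hb => ?_
  rw [Finset.mem_filter, mem_blocks] at hb
  let t : SS p M B := ⟨u, _, b, hs, (hs.isInducedBlock_iff h.hM).2 ⟨hb.1, h.hB, hb.2⟩⟩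
  obtain ⟨i, hi, hti⟩ := hc t
  have i1 : i ≠ 1 := by
    rintro rfl
    exact u1 (isConj_one_left.1 (H24.KS.SS_isConj hti))
  obtain ⟨σ, -, hσ⟩ := hti.exists_equiv
  have := congrFun (ha i hi i1) (σ y)
  simp only [Finset.sum_apply, Pi.smul_apply, smul_eq_mul, Pi.zero_apply] at this
  rw [← this]
  refine Finset.sum_congr rfl fun ψ _ => ?_
  rw [hσ _ ψ.2.isClassFunction]

open Classical in
theorem term_mem (jF : JobFrob.{u}) (h : BD 2 M B D e) (h2 : ∀ x : D, x ^ 2 = 1) (hD : D ≠ ⊥)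
    {χ : IrrCharacter G} (hχ : χ ∈ B) : MemLocalIdeal M ((Nat.card G : ℂ)⁻¹ *
      ∑ s : G with s * s = 1, ∑ t : G with t * t = 1, χ.1 (s * t)) := by
  obtain ⟨n, hn⟩ := jF G 2 χ Nat.prime_two χ.2.isGeneralizedCharacter
  have h3 : ∑ s : G with s * s = 1, χ.1 s = ∑ x : G with ∃ k, orderOf x = 2 ^ k, χ.1 x := by
    refine Finset.sum_subset (fun s hs => ?_) fun x hx h4 => ?_
    · simp only [Finset.mem_filter, Finset.mem_univ, true_and] at hs ⊢
      exact ((Nat.dvd_prime_pow Nat.prime_two (m := 1)).1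
        (orderOf_dvd_of_pow_eq_one (by rw [pow_one, sq, hs]))).imp fun _ h => h.2
    · simp only [Finset.mem_filter, Finset.mem_univ, true_and] at hx h4
      refine H41.irr_eq_zero_of_not_conj_mem h.hM h.hB h.isDefectGroup hχ (x := x)
        ⟨1, mul_one _, Commute.one_right _, hx, by simp⟩ fun t ht => h4 ?_
      have h5 := congrArg Subtype.val (h2 ⟨_, ht⟩)
      rwa [coe_pow, coe_one, conj_pow, conj_eq_one_iff, sq] at h5
  have h4 := sum_inv χ.2
  rw [h3, hn, ← coe_deg] at h4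
  have hd := deg_ne_zero χ
  have hG : Nat.card G ≠ 0 := Nat.card_pos.ne'
  have h5 : (charDegree χ.1).factorization 2 < (Nat.card G).factorization 2 :=
    (deg_factorization_le 2 χ.2).lt_of_ne fun h6 => hD (card_eq_one.1 (by
      rw [h.card_eq, defect_zero_of_vanish h.hM h.hB hχ (vanish_of_nu_eq h.hM.1 h6), pow_zero]))
  have h6 := (P_natCast_div_natCast_iff h.hM (a := (2 ^ (Nat.card G).factorization 2) ^ 2)
    (by positivity) (mul_ne_zero hG hd)).2 (by
      rw [Nat.factorization_mul hG hd, ← pow_mul, Nat.prime_two.factorization_pow]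
      simp only [Finsupp.add_apply, Finsupp.single_eq_same]
      omega)
  convert P_mul_right h6 (intCast_mem (S M) (n ^ 2)) using 1
  rw [eq_div_of_mul_eq (Nat.cast_ne_zero.2 hd) h4]
  push_cast
  field_simp

theorem jobEV : JobEV.{u} := by
  intro jQ jF G _ _ M _ B D e h h2 hD R hc w hw
  classical
  have h3 : ∀ i ∈ R, i ≠ 1 → ∑ ψ ∈ bF B, (w ψ : ℂ) • (h.s i).f ψ = 0 := fun i hi i1 => by
    rw [← fsec_sum, ← classInner_self_eq_zero]
    refine (con_sum (h.s i) _ _).trans (Finset.sum_eq_zero fun χ hχ => ?_)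
    rw [← SS.conj_con, con_sum, map_sum, Finset.sum_congr rfl fun ψ _ => by
      rw [map_mul, SS.conj_con, map_intCast, mul_comm], hw i hi i1 χ hχ, mul_zero]
  have h4 := jQ G M _ h.hM (isGeneralizedCharacter_sum _ fun χ _ =>
    χ.2.isGeneralizedCharacter.intCast_smul (w χ)) (vanish h hc h3) (by
      simp only [Finset.sum_apply, Pi.smul_apply, smul_eq_mul]
      rw [Finset.sum_congr rfl fun s _ => Finset.sum_comm, Finset.sum_comm, Finset.mul_sum]
      refine P_sum _ _ fun χ hχ => ?_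
      simp only [← Finset.mul_sum]
      rw [mul_left_comm]
      exact P_mul_left (intCast_mem _ _) (term_mem jF h h2 hD (mem_bF.1 hχ)))
  rw [classInner_sum_right, Finset.sum_congr rfl (g := fun χ => ((w χ ^ 2 : ℤ) : ℂ)) fun χ hχ => by
    rw [classInner_smul_right, classInner_sum_bF _ (mem_bF.1 hχ), map_intCast, ← sq, Int.cast_pow],
    ← Int.cast_sum, P_intCast_iff h.hM] at h4
  have h5 : Even (∑ χ ∈ bF B, w χ ^ 2 - ∑ χ ∈ bF B, w χ) := by
    rw [← Finset.sum_sub_distrib]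
    exact Finset.even_sum _ fun χ _ => by
      rw [show w χ ^ 2 - w χ = w χ * (w χ - 1) by ring]
      exact Int.even_mul_pred_self _
  exact (Int.even_sub.1 h5).1 (even_iff_two_dvd.2 h4)

end H53.EA
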