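import Cfsg.Agent.H44.DP0EPSpec

/-! An involution of a 2-group with centraliser of order four. -/

set_option autoImplicit false

namespace H53.EP

open Subgroup Cfsg H98 H48.DP H57.DPC H48.DP2 H44.EP

universe u

theorem exists_central {G : Type*} [Group G] [Finite G] {T : Subgroup G} (hT : IsPGroup 2 T)
    (hne : T ≠ ⊥) : ∃ z ∈ T, z ≠ 1 ∧ ∀ x ∈ T, Commute z x := by
  have : Fact (Nat.Prime 2) := ⟨Nat.prime_two⟩
  have : Nontrivial T := (nontrivial_iff_ne_bot T).2 hne
  have := hT.center_nontrivial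
  obtain ⟨⟨z, hz⟩, hz1⟩ := exists_ne (1 : center T)
  refine ⟨z, z.2, fun h => hz1 (Subtype.ext (Subtype.ext h)), fun x hx => ?_⟩
  have := mem_center_iff.1 hz ⟨x, hx⟩
  exact (congrArg Subtype.val this).symm

theorem jobE7 : E7.{u} := by
  intro G _ _ T S y t g v gr hvS hvC hvt hvS'
  have hS1 : ∀ a ∈ S, a ∈ T ⊓ No S := fun a ha => ⟨gr.le ha, le_normalizer ha⟩
  have hvc : ∀ a ∈ S, Commute v a := fun a ha => (mem_centralizer_iff.1 hvC a ha).symm
  have dec : ∀ b ∈ T ⊓ No S, b ∉ S → b * t⁻¹ ∈ S := fun b hb hb' =>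
    gr.mul b hb t⁻¹ (inv_mem ⟨gr.tT, gr.tN⟩) hb' (fun h => gr.tS (by simpa using inv_mem h))
  have inS : ∀ b ∈ T ⊓ No S, Commute v b → b ∈ S := by
    intro b hb hc
    by_contra hb'
    have h1 := (hvc _ (dec b hb hb')).inv_right.mul_right hc
    exact hvt (by simpa [mul_assoc] using h1)
  have mul' : ∀ a ∈ T ⊓ No S, ∀ b ∈ T ⊓ No S, a ∉ cj g S → b ∉ cj g S → a * b ∈ cj g S := by
    intro a ha b hb ha' hb'
    rw [mem_cj] at ha' hb' ⊢
    have := gr.mul _ (conj_mem_of_mem_normalizer' gr.gN ha) _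
      (conj_mem_of_mem_normalizer' gr.gN hb) ha' hb'
    convert this using 1
    group
  -- the conjugate of `v`
  set v' := g * v * g⁻¹ with hv'
  have hv'1 : v' ∈ T ⊓ No S := conj_mem_of_mem_normalizer gr.gN (hS1 v hvS)
  have hv'S : v' ∉ S := by
    intro h
    apply hvS'
    rw [mem_cj]
    have := conj_mem_of_mem_normalizer' gr.g2 h
    convert this using 1
    rw [hv']; group
  have hv'c : ∀ a ∈ cj g S, Commute v' a := by
    intro a ha
    have h := (hvc _ (mem_cj.1 ha)).eq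
    show v' * a = a * v'
    rw [hv']
    calc g * v * g⁻¹ * a = g * (v * (g⁻¹ * a * g)) * g⁻¹ := by group
      _ = g * ((g⁻¹ * a * g) * v) * g⁻¹ := by rw [h]
      _ = _ := by group
  have hy3 : y * y * y = 1 := by
    have := pow_orderOf_eq_one y
    rw [gr.y3] at this
    simpa [pow_succ] using this
  have hty : t⁻¹ * y * t = y * y := by
    have h1 : y⁻¹ = y * y := by
      rw [inv_eq_iff_mul_eq_one, ← mul_assoc, hy3]
    have h2 : t⁻¹ * y * t = y⁻¹ := by
      have h := gr.ty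
      calc t⁻¹ * y * t = (t⁻¹ * y⁻¹ * t)⁻¹ := by group
        _ = (t⁻¹ * (t * y * t⁻¹) * t)⁻¹ := by rw [h]
        _ = y⁻¹ := by group
    rw [h2, h1]
  have key : ∀ w ∈ S, w ∈ cj g S → y⁻¹ * w * y ∈ cj g S → w = 1 := by
    intro w hw hw1 hw2
    have hs := dec v' hv'1 hv'S
    set s := v' * t⁻¹ with hsd
    have hvs : v' = s * t := by rw [hsd]; group
    have c1 := hv'c w hw1
    have c2 : Commute (y * v' * y⁻¹) w := by
      have h := (hv'c _ hw2).eq
      show y * v' * y⁻¹ * w = w * (y * v' * y⁻¹)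
      calc y * v' * y⁻¹ * w = y * (v' * (y⁻¹ * w * y)) * y⁻¹ := by group
        _ = y * ((y⁻¹ * w * y) * v') * y⁻¹ := by rw [h]
        _ = _ := by group
    have c3 := c1.inv_left.mul_left c2
    have hr : t⁻¹ * (s⁻¹ * (y * s * y⁻¹)) * t ∈ S :=
      conj_mem_of_mem_normalizer' gr.tN (mul_mem (inv_mem hs) (conj_mem_of_mem_normalizer gr.yS hs))
    refine gr.fp.fpf _ hr w hw ?_
    have e : t⁻¹ * (s⁻¹ * (y * s * y⁻¹)) * t * y = v'⁻¹ * (y * v' * y⁻¹) := by
      rw [hvs]
      calc t⁻¹ * (s⁻¹ * (y * s * y⁻¹)) * t * y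
          = t⁻¹ * (s⁻¹ * (y * s * y⁻¹)) * t * (y * y) * y⁻¹ := by group
        _ = t⁻¹ * (s⁻¹ * (y * s * y⁻¹)) * t * (t⁻¹ * y * t) * y⁻¹ := by rw [hty]
        _ = _ := by group
    rw [e]
    exact c3
  have hsq : ∀ a ∈ S, a * a ∈ cj g S := by
    intro a ha
    by_cases h : a ∈ cj g S
    · exact mul_mem h h
    · exact mul' a (hS1 a ha) a (hS1 a ha) h h
  have hv2 : v * v = 1 := by
    refine key _ (mul_mem hvS hvS) (hsq v hvS) ?_
    have := hsq _ (conj_mem_of_mem_normalizer' gr.yS hvS)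
    convert this using 1
    group
  have hv1 : v ≠ 1 := by
    rintro rfl
    exact hvt (Commute.one_left t)
  have hvi : v⁻¹ = v := inv_eq_of_mul_eq_one_right hv2
  refine ⟨orderOf_eq_prime (by rw [pow_two, hv2]) hv1, ?_⟩
  obtain ⟨z, hzT, hz1, hzc⟩ := exists_central gr.two
    (fun h => gr.nt (le_bot_iff.1 (h ▸ gr.le)))
  have cN : ∀ c : G, (∀ a ∈ S, Commute c a) → c ∈ No S := fun c hc =>
    centralizer_le_normalizer _ (mem_centralizer_iff.2 fun a ha => (hc a ha).symm.eq)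
  have hzS : z ∈ S := inS z ⟨hzT, cN z fun a ha => hzc a (gr.le ha)⟩ (hzc v (gr.le hvS)).symm
  have hzS' : z ∈ cj g S := by
    rw [mem_cj, mul_assoc, (hzc g gr.gT).eq, inv_mul_cancel_left]
    exact hzS
  have hint : ∀ w ∈ S, w ∈ cj g S → w = 1 ∨ w = z := by
    intro w hw hw'
    by_cases h1 : w = 1
    · exact .inl h1
    refine .inr ?_
    have a1 : y⁻¹ * w * y ∉ cj g S := fun h => h1 (key w hw hw' h)
    have a2 : y⁻¹ * z⁻¹ * y ∉ cj g S := fun h =>
      hz1 (inv_eq_one.1 (key _ (inv_mem hzS) (inv_mem hzS') h))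
    have a3 := mul' _ (hS1 _ (conj_mem_of_mem_normalizer' gr.yS hw)) _
      (hS1 _ (conj_mem_of_mem_normalizer' gr.yS (inv_mem hzS))) a1 a2
    refine mul_inv_eq_one.1 (key _ (mul_mem hw (inv_mem hzS)) (mul_mem hw' (inv_mem hzS')) ?_)
    convert a3 using 1
    group
  have hall : ∀ a ∈ S, a = 1 ∨ a = z ∨ a = v ∨ a = z * v := by
    intro a ha
    by_cases h : a ∈ cj g S
    · rcases hint a ha h with h | h
      · exact .inl h
      · exact .inr (.inl h)
    · rcases hint _ (mul_mem ha hvS) (mul' a (hS1 a ha) v (hS1 v hvS) h hvS') with h | h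
      · exact .inr (.inr (.inl (by rw [← hvi]; exact eq_inv_of_mul_eq_one_left h)))
      · exact .inr (.inr (.inr (by rw [← h, mul_assoc, hv2, mul_one])))
  have heq : T ⊓ C1 v = S := by
    refine le_antisymm ?_ fun a ha => ⟨gr.le ha, mem_centralizer_singleton_iff.2 (hvc a ha).symm.eq⟩
    rintro c ⟨hcT, hc⟩
    have hcv : Commute c v := mem_centralizer_singleton_iff.1 hc
    refine inS c ⟨hcT, cN c fun a ha => ?_⟩ hcv.symm
    rcases hall a ha with rfl | rfl | rfl | rfl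
    · exact Commute.one_right c
    · exact (hzc c hcT).symm
    · exact hcv
    · exact (hzc c hcT).symm.mul_right hcv
  rw [heq]
  have hset : (S : Set G) = {1, z, v, z * v} := by
    ext a
    simp only [SetLike.mem_coe, Set.mem_insert_iff, Set.mem_singleton_iff]
    refine ⟨hall a, ?_⟩
    rintro (rfl | rfl | rfl | rfl)
    · exact one_mem S
    · exact hzS
    · exact hvS
    · exact mul_mem hzS hvS
  have hzv : z ≠ v := fun h => hvS' (h ▸ hzS')
  have hzv1 : z * v ≠ 1 := fun h => hzv (by rw [← hvi]; exact eq_inv_of_mul_eq_one_left h)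
  have : Nat.card S = (S : Set G).ncard := rfl
  rw [this, hset, Set.ncard_insert_of_notMem (by simp [hz1.symm, hv1.symm, hzv1.symm]),
    Set.ncard_insert_of_notMem (by simp [hzv, hv1]), Set.ncard_pair (by simp [hz1])]

end H53.EP
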