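import Cfsg.Agent.H53.F2C
import Cfsg.Agent.H50.F2S6
import Cfsg.Agent.H50.F2S8
import Cfsg.Agent.H19.F2D
import Cfsg.Agent.H29.F2D5

/-! CL3 tower, `r = 2`: the endgame. -/

set_option autoImplicit false

namespace H53.F2

open H12.CL

theorem jobF2E : AllX fun r _ V W _ _ _ _ _ S => r = 2 → Ty S.B S.Gd →
    ∀ X Y : Subgroup (W ≃ₗ[ZMod r] W), Y ≤ X → Group.IsSolvable Y →
    (∀ T : Submodule (ZMod r) W, (∀ y ∈ Y, ∀ a ∈ T, y a ∈ T) → T = ⊥ ∨ T = ⊤) →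
    (∀ φ ∈ X, ∀ a b, S.B (φ a) (φ b) = S.B a b) → (∀ φ ∈ X, ∀ a, S.Gd (φ a) ↔ S.Gd a) →
    (∀ u v : V, H12.CL.Fac X Y (S.Fx u v)) → (TyO S.B S.Gd ∨ Nat.card W ≠ 64) →
    Group.IsSolvable X :=
  jobF2E' (jobF2 H19.F2.jobMN H50.F2.jobS8 H50.F2.jobS6 H29.D5.jobD5 H19.F2.jobD4 H19.F2.jobDA)

end H53.F2
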