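/- Tower FE, job M. -/
import Cfsg.Agent.H14.FESpec
import Cfsg.Agent.S1225
import Cfsg.Agent.S1137

set_option autoImplicit false
set_option linter.unusedSectionVars false

namespace H53.FE

open Cfsg Subgroup MulAction H14 H98 H1.Gold H31.S2 H14.GC H14.FE
open scoped commutatorElement

universe u

theorem exists_inv_zpowers {G : Type*} [Group G] [Finite G] {y : G} (h : 2 ∣ orderOf y) :
    ∃ d ∈ zpowers y, Inv d := by
  have := Fact.mk Nat.prime_two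
  obtain ⟨d, hd⟩ := exists_prime_orderOf_dvd_card' (G := zpowers y) 2 (Nat.card_zpowers y ▸ h)
  exact ⟨d, d.2, inv_iff.2 ((orderOf_coe d).trans hd)⟩

theorem odd_of_NI {G : Type u} [Group G] [Finite G] {Y : Subgroup G} (h : NI Y) {y : G}
    (hy : y ∈ Y) : Odd (orderOf y) := Nat.not_even_iff_odd.1 fun e =>
  (exists_inv_zpowers e.two_dvd).elim fun d hd => h d (zpowers_le.2 hy hd.1) hd.2

theorem eq_one_of_odd {G : Type*} [Group G] {g : G} {m k : ℕ} (hm : Odd m) (h1 : g ^ m = 1)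
    (h2 : g ^ 2 ^ k = 1) : g = 1 := by
  have := pow_gcd_eq_one.2 ⟨h1, h2⟩
  rwa [(Nat.coprime_two_right.2 hm).pow_right k, pow_one] at this

theorem perm {Ω : Type u} [Finite Ω] (hS : JobSE1.{u}) {L : Subgroup (Equiv.Perm Ω)} {w : Ω}
    (hZ : ∀ v ∈ L, Inv v → ∀ b c, v b = b → v c = c → b = c) {z z' : Equiv.Perm Ω} (hz : z ∈ L)
    (z2 : Inv z) (zw : z w = w) (hz' : z' ∈ L) (z2' : Inv z') (zw' : z' w ≠ w)
    (hO : oddCore L = ⊥) : ∃ P : Subgroup (Equiv.Perm Ω),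
      (∀ v, v ∈ P ↔ v ∈ L ∧ v w = w ∧ ∃ k, v ^ 2 ^ k = 1) ∧
      (∀ v ∈ P, v * v = 1 → ∀ p ∈ P, v * p = p * v) ∧ ∀ v ∈ L, Inv v → ∃ c ∈ L, c * z * c⁻¹ = v := by
  have := Fact.mk Nat.prime_two
  have o2 : ∀ {v : Equiv.Perm Ω} (h : v ∈ L), Inv v → orderOf (⟨v, h⟩ : L) = 2 := fun h e =>
    (orderOf_coe _).symm.trans (inv_iff.1 e)
  have hM : IsStronglyEmbedded (stabilizer L w) := by
    refine ⟨fun e => zw' (e.ge (mem_top ⟨z', hz'⟩)), even_iff_two_dvd.2 ?_, fun g hg => ?_⟩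
    · rw [← o2 hz z2]
      exact Subgroup.orderOf_dvd_natCard _ zw
    refine Nat.not_even_iff_odd.1 fun e => hg ?_
    obtain ⟨v, hv⟩ := exists_prime_orderOf_dvd_card' 2 e.two_dvd
    have h1 : (g⁻¹ * v * g) • w = w := mem_cj.1 v.2.2
    rw [mul_smul, mul_smul, inv_smul_eq_iff] at h1
    exact hZ v.1.1 v.1.2 (inv_iff.2 ((orderOf_coe _).trans ((orderOf_coe _).trans hv))) _ _ h1 v.2.1
  obtain ⟨P, h1, h2, h3, h4⟩ := hS L _ hM hO
  refine ⟨P.map L.subtype, fun v => ⟨?_, fun ⟨a, b, k, c⟩ => ⟨⟨v, a⟩, ?_, rfl⟩⟩, ?_,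
    fun v hv v2 => ?_⟩
  · rintro ⟨p, hp, rfl⟩
    exact ⟨p.2, h2 hp, (isPGroup_iff_forall.1 h1.isPGroup p hp).imp fun k e =>
      congrArg Subtype.val e⟩
  · exact h1.le_of_le_normalizer' (isPGroup_zpowers (x := (⟨v, a⟩ : L)) (k := k) (Subtype.ext c))
      le_top (zpowers_le.2 (h3 b)) (mem_zpowers _)
  · rintro _ ⟨v, hv, rfl⟩ v2 _ ⟨p, hp, rfl⟩
    refine congrArg Subtype.val (?_ : v * p = p * v)
    have v2' : v * v = 1 := Subtype.ext v2
    rcases h4 with h4 | h4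
    · have := h4 _ (mul_mem hv hp)
      calc v * p = v * (v * p * (v * p)) * p * (p * p)⁻¹ * ((v * v)⁻¹ * (v * v)) := by
            rw [this, h4 p hp, v2']; group
        _ = v * v * (p * v) * (p * p) * (p * p)⁻¹ * ((v * v)⁻¹ * (v * v)) := by group
        _ = p * v := by rw [v2']; group
    · by_cases v1 : v = 1
      · simp [v1]
      exact (congrArg Subtype.val (mem_center_iff.1 (((Cfsg.Agent.S1137.result h4).1 ⟨v, hv⟩).1
        ⟨mt Subtype.ext_iff.1 v1, Subtype.ext v2'⟩).1 ⟨p, hp⟩)).symm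
  · obtain ⟨c, hc⟩ := isConj_iff.1 ((Cfsg.Agent.S1225.result _ hM ⟨z', hz'⟩ (o2 hz' z2') zw'
      ⟨z, hz⟩ ⟨z, hz⟩ (o2 hz z2) zw (o2 hz z2) zw).2 _ _ (o2 hz z2) (o2 hv v2))
    exact ⟨c, c.2, congrArg Subtype.val hc⟩

variable {X : Type u} [Group X] [Finite X] {J Ω : Type u} [MulAction X J] [MulAction X Ω]
  {pt : J → Ω} {B : J → Subgroup X} {β : Subgroup X → Prop}

theorem conj_mem (h : PG pt B β) {j : J} {d : X} (hd : d ∈ B j) (g : X) :
    g * d * g⁻¹ ∈ B (g • j) := by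
  rw [h.B_smul]
  exact ⟨d, hd, rfl⟩

theorem zz_conj (h : PG pt B β) {j : J} {z : X} (h3 : Big β (cen1 z ⊓ B j)) (g : X) :
    Big β (cen1 (g * z * g⁻¹) ⊓ B (g • j)) := by
  obtain ⟨U, h1, h2, h3⟩ := h3
  refine ⟨cj g U, ?_, h2.map _, h.bt.cj U g h3⟩
  rintro _ ⟨x, hx, rfl⟩
  refine ⟨mem_cen1.2 ?_, conj_mem h (h1 hx).2 g⟩
  change g * x * g⁻¹ * _ = _ * (g * x * g⁻¹)
  rw [conj_mul, conj_mul, mem_cen1.1 (h1 hx).1]

theorem exists_zz (h : PG pt B β) (j : J) : ∃ z ∈ B j, Inv z ∧ Big β (cen1 z ⊓ B j) := by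
  have := Fact.mk Nat.prime_two
  obtain ⟨U, h1, h2, h3⟩ := h.big j
  have : Nontrivial U := (nontrivial_iff_ne_bot U).2 fun e => h.bt.ne U h3 fun a ha => by
    rw [mem_bot.1 (e.le ha), mul_one]
  have := h2.center_nontrivial
  obtain ⟨c, hc⟩ := exists_ne (1 : center U)
  obtain ⟨k, hk⟩ := IsPGroup.iff_orderOf.1 (h2.to_subgroup (center U)) c
  obtain ⟨z, -, hz⟩ := exists_inv_zpowers (y := c) (hk ▸ dvd_pow_self 2 fun e => hc (by
    rwa [e, pow_zero, orderOf_eq_one_iff] at hk))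
  exact ⟨z, h1 z.1.2, inv_iff.2 ((orderOf_coe _).trans ((orderOf_coe _).trans (inv_iff.1 hz))),
    U, fun x hx => ⟨mem_cen1.2 (congrArg Subtype.val (mem_center_iff.1 z.2 ⟨x, hx⟩)), h1 hx⟩, h2, h3⟩

theorem ne_one (h : PG pt B β) {j : J} {d : X} (hd : d ∈ B j) (d2 : Inv d) :
    toPermHom X Ω d ≠ 1 := fun e => by
  obtain ⟨a, b, hab⟩ := h.two
  exact hab ((h.fix j d hd d2 a (Equiv.congr_fun e a)).trans
    (h.fix j d hd d2 b (Equiv.congr_fun e b)).symm)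

theorem fix_pt (h : PG pt B β) {i j : J} (e : pt i = pt j) {d : X} (hd : d ∈ B i) :
    d • pt j = pt j := by
  rw [← h.pt_smul, show d • j = j from h.mn i j e hd]

theorem odd_comm (h : PG pt B β) {i j : J} (e : pt i = pt j) (hne : i ≠ j) {b d : X}
    (hb : b ∈ B i) (hd : d ∈ B j) : ⁅b, d⁆ ∈ B j ∧ Odd (orderOf ⁅b, d⁆) := by
  have h1 := conj_mem h hd b
  have h2 := conj_mem h (inv_mem hb) d
  rw [show b • j = j from h.mn i j e hb] at h1
  rw [show d • i = i from h.mn j i e.symm hd] at h2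
  have h3 : ⁅b, d⁆ ∈ B j := mul_mem h1 (inv_mem hd)
  refine ⟨h3, odd_of_NI (h.ti i j hne) (mem_inf.2 ⟨?_, h3⟩)⟩
  simpa only [commutatorElement_def, mul_assoc] using mul_mem hb h2

theorem jobM : JobM.{u} := by
  intro hS X _ _ J Ω _ _ _ _ pt B β h _ hOd hZC a l hl lw la U hU U2 r hr x hx r2
  let f := toPermHom X Ω
  have fa : ∀ (g : X) (b : Ω), f g b = g • b := fun _ _ => rfl
  have hN : (closure (ZZ B β)).Normal := ⟨fun n hn g => by
    refine (Subgroup.closure_le ((closure (ZZ B β)).comap (MulAut.conj g).toMonoidHom)).2 ?_ hn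
    rintro z ⟨j, h1, h2, h3⟩
    exact Subgroup.subset_closure ⟨g • j, conj_mem h h1 g, h2.conj g, zz_conj h h3 g⟩⟩
  set L := (closure (ZZ B β)).map f with hL
  have nL : ∀ g : X, ∀ v ∈ L, f g * v * (f g)⁻¹ ∈ L := by
    rintro g _ ⟨n, hn, rfl⟩
    exact ⟨g * n * g⁻¹, hN.conj_mem n hn g, by simp⟩
  have lL : f l ∈ L := by
    have := mem_map_of_mem f hl
    rwa [Subgroup.map_sup, (Subgroup.map_eq_bot_iff (toPermHom X Ω).ker).2 le_rfl, sup_bot_eq] at this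
  obtain ⟨z, z1, z2, z3⟩ := exists_zz h a
  obtain ⟨b, hb⟩ : ∃ b, b ≠ pt a := by
    obtain ⟨b, c, e⟩ := h.two
    by_contra h1
    push Not at h1
    exact e ((h1 b).trans (h1 c).symm)
  obtain ⟨j', rfl⟩ := h.surj b
  obtain ⟨z', y1, y2, y3⟩ := exists_zz h j'
  have hO : oddCore L = ⊥ := by
    refine (map_eq_bot_iff_of_injective _ L.subtype_injective).1 (hOd _
      ((map_subtype_le _).trans (map_le_range _ _)) ?_ ?_)
    · rintro _ ⟨g, rfl⟩
      have := H2.pPrimeCore_characteristic 2 L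
      refine mem_normalizer_fintype ?_
      rintro _ ⟨n, hn, rfl⟩
      let φ := L.normalizerMonoidHom ⟨f g, mem_normalizer_fintype (nL g)⟩
      exact ⟨φ n, (characteristic_iff_le_comap.1 this φ) hn, rfl⟩
    · rw [card_subtype]
      exact H99.odd_card_oddCore
  obtain ⟨P, mP, cP, tP⟩ := perm hS (L := L) (w := pt a) (by
      rintro _ ⟨n, hn, rfl⟩ n2 b c e1 e2
      exact (hZC n hn (fun e => n2.1 (Equiv.ext e)) fun b =>
        Equiv.congr_fun ((map_mul f n n).trans n2.2) b).unique e1 e2)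
    (mem_map_of_mem f (subset_closure ⟨a, z1, z2, z3⟩)) (z2.map f (ne_one h z1 z2))
    (fix_pt h rfl z1) (mem_map_of_mem f (subset_closure ⟨j', y1, y2, y3⟩))
    (y2.map f (ne_one h y1 y2)) (fun e => hb (h.fix j' z' y1 y2 _ e).symm) hO
  have nP : ∀ g : X, g • pt a = pt a → ∀ v ∈ P, f g * v * (f g)⁻¹ ∈ P := fun g hg v hv => by
    obtain ⟨h1, h2, k, h3⟩ := (mP v).1 hv
    refine (mP _).2 ⟨nL g v h1, ?_, k, by rw [conj_pow, h3, mul_one, mul_inv_cancel]⟩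
    rw [← map_inv, Equiv.Perm.mul_apply, Equiv.Perm.mul_apply, fa, fa, inv_smul_eq_iff.2 hg.symm,
      h2, hg]
  have c5 : ∀ j, pt a = pt j → a ≠ j → ∀ d ∈ B j, f d ∈ P → f x * f d = f d * f x :=
    fun j e hne d hd hP => by
      obtain ⟨-, -, k, h3⟩ := (mP _).1 (mul_mem (nP x (fix_pt h rfl (hU hx)) _ hP) (inv_mem hP))
      rw [← commutatorElement_eq_one_iff_mul_comm]
      refine eq_one_of_odd (odd_comm h e hne (hU hx) hd).2 ?_ h3
      rw [← map_commutatorElement, ← map_pow, pow_orderOf_eq_one, map_one]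
  have c4 : ∀ v ∈ P, v * v = 1 → v ∉ (B a).map f → f x * v = v * f x := fun v hv v2 hn => by
    obtain ⟨_, ⟨c, -, rfl⟩, e⟩ := tP v ((mP v).1 hv).1 ⟨fun e => hn (e ▸ one_mem _), v2⟩
    rw [← map_inv, ← map_mul, ← map_mul] at e
    subst e
    refine c5 (c • a) (h.fix _ _ (conj_mem h z1 c) (z2.conj c) _ ((mP _).1 hv).2.1)
      (fun e => hn (mem_map_of_mem f ?_)) _ (conj_mem h z1 c) hv
    have := conj_mem h z1 c
    rwa [← e] at this
  have e1 : pt a = pt (l • a) := by rw [h.pt_smul, lw]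
  have c6 : ∀ v ∈ P, v * v = 1 → f x * v = v * f x := fun v hv v2 => by
    by_cases h1 : ∃ v0 ∈ P, v0 * v0 = 1 ∧ v0 ∉ (B a).map f
    · obtain ⟨v0, h1, h2, h3⟩ := h1
      by_cases h4 : v ∈ (B a).map f
      · have h5 := c4 (v * v0) (mul_mem hv h1) (by
          rw [mul_assoc, ← mul_assoc v0, ← cP v hv v2 v0 h1, mul_assoc, h2, mul_one, v2])
          fun e => h3 ((mul_mem_cancel_left h4).1 e)
        refine mul_right_cancel (b := v0) ?_
        rw [mul_assoc, h5, mul_assoc, mul_assoc, c4 v0 h1 h2 h3]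
      · exact c4 v hv v2 h4
    · push Not at h1
      obtain ⟨d, hd, e⟩ := h1 _ (nP l⁻¹ (inv_smul_eq_iff.2 lw.symm) v hv) (by
        rw [conj_mul, v2, mul_one, mul_inv_cancel])
      have e' : f (l * d * l⁻¹) = v := by simp [e, mul_assoc]
      exact e' ▸ c5 _ e1 la.symm _ (conj_mem h hd l) (e' ▸ hv)
  -- the element `u`
  have r' := conj_mem h (hU hr) l
  have ri : r⁻¹ = r := inv_eq_of_mul_eq_one_right r2
  obtain ⟨h1, k, hk⟩ := odd_comm h e1 la.symm (hU hr) r'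
  set t := l * r * l⁻¹ with ht
  have t2 : t * t = 1 := by rw [ht, conj_mul, r2, mul_one, mul_inv_cancel]
  have hq : ⁅r, t⁆ = (r * t) ^ 2 := by
    rw [commutatorElement_def, ri, inv_eq_of_mul_eq_one_right t2, sq, mul_assoc]
  have u2 : (r * t) ^ (2 * k + 1) * (r * t) ^ (2 * k + 1) = 1 := by
    rw [← sq, ← pow_mul, mul_comm, pow_mul, ← hq, ← hk, pow_orderOf_eq_one]
  have hu : r * (r * t) ^ (2 * k + 1) ∈ B (l • a) := by
    rw [pow_succ', ← mul_assoc, ← mul_assoc, r2, one_mul, pow_mul, ← hq]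
    exact mul_mem r' (pow_mem h1 k)
  have uP : f ((r * t) ^ (2 * k + 1)) ∈ P := by
    refine (mP _).2 ⟨?_, ?_, 1, by rw [pow_one, ← map_pow, sq, u2, map_one]⟩
    · rw [map_pow]
      refine pow_mem ?_ _
      simpa only [ht, map_mul, map_inv, ri, mul_assoc, ← map_inv f r] using
        mul_mem (nL r _ lL) (inv_mem lL)
    · exact (stabilizer X (pt a)).pow_mem ((stabilizer X (pt a)).mul_mem (fix_pt h rfl (hU hr))
        (fix_pt h e1.symm r')) _
  have h2 := c6 _ uP (by rw [← map_mul, u2, map_one])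
  generalize (r * t) ^ (2 * k + 1) = u at u2 hu uP h2
  have h3 : f ⁅x, r * u⁆ = f ⁅x, r⁆ := by
    simp only [commutatorElement_def, map_mul, map_inv, mul_inv_rev]
    rw [mul_assoc (f x), mul_assoc (f r), ← ((show Commute (f x) (f u) from h2).inv_left).eq]
    group
  have h4 : ⁅x, r⁆ ∈ U := mul_mem (mul_mem (mul_mem hx hr) (inv_mem hx)) (inv_mem hr)
  obtain ⟨n, hn⟩ := isPGroup_iff_forall.1 U2 _ h4
  have h5 : f ⁅x, r⁆ = 1 := eq_one_of_odd (k := n) (odd_comm h e1 la.symm (hU hx) hu).2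
    (by rw [← h3, ← map_pow, pow_orderOf_eq_one, map_one]) (by rw [← map_pow, hn, map_one])
  refine (commutatorElement_eq_one_iff_mul_comm.1 (eq_one_of_odd (Nat.not_even_iff_odd.1
    fun e => ?_) (pow_orderOf_eq_one _) hn)).symm
  obtain ⟨d, ⟨i, rfl⟩, d2⟩ := exists_inv_zpowers e.two_dvd
  exact ne_one h (zpow_mem (hU h4) i) d2 (by rw [map_zpow, h5, one_zpow])

end H53.FE
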