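/- Tower KU (S2196): assembly of the jobs. -/
import Cfsg.Agent.H53.KUKit
import Cfsg.Agent.H55.Transport

set_option autoImplicit false

namespace H53.KU

open Cfsg H59 H53.WU Module MulAction

theorem main (dc : JobDc) (et : JobEt) (ch : JobCh) (ar : JobAr) (p3 : JobP3) (M : JobM) (gl1 : JobGl1)
    (gl2 : JobGl2) (ra : JobRa) (rb : JobRb) (rc : JobRc) (po : JobPo) (bc1 : JobBC1) (bc2 : JobBC2) (b1 : JobB1)
    (conn : JobConn) (b2a : JobB2a) (b2b : JobB2b) (b3a : JobB3a) (b3b : JobB3b) : JobMain := by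
  intro S h
  refine (p3 S h).resolve_left fun h2 => ?_
  obtain ⟨h4, hK⟩ := (dc _ S.K).1 h
  have key : S.AG ∨ (S.CT2 ∧ S.HR) := by
    by_cases hg : S.AG
    · exact .inl hg
    obtain ⟨Φ, hΦ⟩ := not_forall.1 hg
    obtain ⟨a, b⟩ := (ar S.F S.r S.q _ S.hF S.hq _ (fun a ha => (Φ.mem_D.1 ha).elim fun k e => et _ _ Φ S.hr k a e.2) (M S Φ h).1
      fun t => (gl2 S ((M S Φ h).2 t)).2.1 Φ).resolve_left hΦ
    have := gl2 S ((M S Φ h).2 a)
    exact .inr ⟨this.1, this.2.2 Φ b⟩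
  by_cases nf : S.NF
  · rcases key with hg | ⟨c2, hr⟩
    · obtain ⟨g1, g2, g3⟩ := gl1 S hg
      exact po S g3 (rc S (rb S nf g1 (ra S nf g2)) hg)
    · exact bc2 S hr (bc1 S nf c2 hr)
  obtain ⟨x, hx⟩ : ∃ x, S.O x := by simpa [KS.NF] using nf
  have sp := b1 S h2 h4 ⟨x, hx⟩
  have cn := conn S h2 sp
  refine hK (KS.top_of_all ?_)
  by_cases h0 : ∀ x y z, S.O x → S.O y → S.O z →
      S.B x y * S.B y z * S.B z x + (S.B x y * S.B y z * S.B z x) ^ S.q = 0
  · obtain ⟨N, h5, h6⟩ := b3a S sp cn h0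
    obtain ⟨c2, -⟩ := key.resolve_left fun hg => b3b S N sp h5 h6 (gl1 S hg).1
    have ex : ∀ v, S.Iso v → ∃ y, S.TI v y := fun v hv => by
      obtain ⟨Φ, e, -⟩ := ch S.toHS _ 1 S.hr PE.one 1 (by omega) ![v] (by simpa using hv.2)
        (by simpa using hv.1) (by simp)
      exact ⟨Φ.e 1, (show Φ.e 0 = v from e 0) ▸ (Fr.ti3 Φ).1⟩
    intro v hv
    obtain ⟨y, hy⟩ := ex x hx.1
    obtain ⟨w, hw⟩ := ex v hv
    obtain ⟨k, hk, a, -, -, e, -⟩ := c2 _ _ _ _ hy hw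
    simpa [e, smul_smul] using (hx.map hk).smul (inv_ne_zero a.ne_zero)
  · push Not at h0
    obtain ⟨x, y, z, hx, hy, hz, h0⟩ := h0
    obtain ⟨E, e1, e2, e3, e4⟩ := b2a S x y z hx hy hz h0
    exact b2b S E sp cn e1 e2 e3 e4

theorem rk3_comap {A : Type} {G X : Type*} [Group A] [Group G] [MulAction G X] [IsPretransitive G X]
    (ρ : A →* G) (hρ : Function.Surjective ρ) (x : X)
    (h3 : Nat.card (orbitRel.Quotient (stabilizer G x) X) = 3) : Rk3 ((stabilizer G x).comap ρ) := by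
  let _ : MulAction A X := MulAction.compHom X ρ
  have hb : Function.Bijective (ofQuotientStabilizer A x) := by
    refine ⟨injective_ofQuotientStabilizer A x, fun y => ?_⟩
    obtain ⟨g, rfl⟩ := exists_smul_eq G x y
    obtain ⟨a, rfl⟩ := hρ g
    exact ⟨QuotientGroup.mk a, rfl⟩
  refine Eq.trans (Nat.card_congr (Quotient.congr (Equiv.ofBijective _ hb) fun a b => ?_)) h3
  rw [orbitRel_apply, orbitRel_apply]
  constructor
  · rintro ⟨⟨k, hk⟩, rfl⟩
    exact ⟨⟨ρ k, hk⟩, (ofQuotientStabilizer_smul A x k b).symm⟩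
  · rintro ⟨⟨g, hg⟩, e⟩
    obtain ⟨k, rfl⟩ := hρ g
    exact ⟨⟨k, hg⟩, hb.1 ((ofQuotientStabilizer_smul A x k b).trans e)⟩

theorem row (H : JobMain) {G X : Type*} [Group G] [MulAction G X] [Fintype X] {F : Type*} [Field F] [Fintype F]
    (n q : ℕ) (hn : 6 ≤ n) (hq : 3 ≤ q) (hF : Fintype.card F = q ^ 2) (e : G ≃* PSU n F q)
    (hprim : IsPreprimitive G X) (x : X) (h3 : Nat.card (orbitRel.Quotient (stabilizer G x) X) = 3) :
    (Even n → Fintype.card X * (q ^ 2 - 1) = (q ^ n - 1) * (q ^ (n - 1) + 1)) ∧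
    (Odd n → Fintype.card X * (q ^ 2 - 1) = (q ^ n + 1) * (q ^ (n - 1) - 1)) := by
  let K := Shrink.{0} F
  have : Fintype K := Fintype.ofFinite K
  have hK : Fintype.card K = q ^ 2 := (Fintype.card_congr (equivShrink.{0} F).symm).trans hF
  let S : HS := ⟨K, q, hK, Fin n → K, uForm hK n, isHerm_uForm hK n⟩
  have hS : S.n = n := Module.finrank_fin_fun K
  let ψ := ((e.trans (H55.psuCongr (Shrink.ringEquiv.{0} F).symm n q)).trans (psuEquiv hK n)).symm
  let ρ : S.G →* G := ψ.toMonoidHom.comp (QuotientGroup.mk' _)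
  have hρ : Function.Surjective ρ := ψ.surjective.comp (QuotientGroup.mk'_surjective _)
  have := hprim.toIsPretransitive
  have h := H ⟨S, n / 2 - 3, by rw [hS]; omega, hq, (stabilizer G x).comap ρ⟩ (rk3_comap ρ hρ x h3)
  change ((stabilizer G x).comap ρ).index * (q ^ 2 - 1) = numIso q S.n at h
  rw [Subgroup.index_comap_of_surjective _ hρ, index_stabilizer_of_transitive, hS, Nat.card_eq_fintype_card,
    numIso] at h
  exact ⟨fun h1 => by rwa [if_pos h1] at h, fun h1 => by rwa [if_neg (Nat.not_even_iff_odd.2 h1)] at h⟩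

end H53.KU
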