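/- Tower KU (S2196): all jobs except the common apartment and the point action. -/
import Cfsg.Agent.H53.KUAsm
import Cfsg.Agent.H14.KUB3a
import Cfsg.Agent.H15.KUPo
import Cfsg.Agent.H17.KUIm
import Cfsg.Agent.H18.KUB1a
import Cfsg.Agent.H20.KUMk
import Cfsg.Agent.H21.KUPp
import Cfsg.Agent.H24.KUFrm
import Cfsg.Agent.H27.KuM3
import Cfsg.Agent.H29.KUFD
import Cfsg.Agent.H31.KuX3
import Cfsg.Agent.H33.KuBa
import Cfsg.Agent.H4.KUExt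
import Cfsg.Agent.H46.KURb
import Cfsg.Agent.H46.KURc1
import Cfsg.Agent.H5.KUGl2
import Cfsg.Agent.H51.KUCW
import Cfsg.Agent.H52.KUBC1
import Cfsg.Agent.H56.KURc
import Cfsg.Agent.H59.KuB2b
import Cfsg.Agent.H60.KuB2a
import Cfsg.Agent.H69.KUBC2
import Cfsg.Agent.H70.KURed
import Cfsg.Agent.H71.KUCh
import Cfsg.Agent.H74.KUAr
import Cfsg.Agent.H76.KUDg
import Cfsg.Agent.H76.KUUp
import Cfsg.Agent.H77.KUAr1
import Cfsg.Agent.H8.KUK2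
import Cfsg.Agent.H80.KUK1
import Cfsg.Agent.H82.KUB1
import Cfsg.Agent.H83.KUB1b
import Cfsg.Agent.H84.KuRa
import Cfsg.Agent.H87.KuConn
import Cfsg.Agent.H89.KUM
import Cfsg.Agent.H92.KuB
import Cfsg.Agent.H93.KuM1
import Cfsg.Agent.H96.KURc2
import Cfsg.Agent.H97.KUTr

set_option autoImplicit false

namespace H53.KU

theorem fin (ca : JobCA) (p3 : JobP3) : JobMain :=
  have pp := H21.KUPp.jobPp
  have frm := H24.KUFrm.jobFrm
  have ext := H4.KUExt.jobExt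
  have up := H76.KUUp.jobUp pp
  have dg := H76.KUDg.jobDg pp
  have ch := H71.KUCh.jobCh ext frm
  have fd := H29.KUF.jobFD up dg frm
  have k1 := H80.KU.jobK1
  have cw := H51.KU.jobCW
  have ba := H33.KuBa.jobBa
  have tr := H97.KU.jobTr
  main H20.KUMk.jobDc H92.KU.jobEt ch
    (H74.KUAr.jobAr k1 (H77.KUAr1.jobAr1 k1 H8.KUK2.jobK2) H70.KURed.jobRed H17.KUIm.jobIm H31.KuX3.jobX3) p3
    (H89.KUM.jobM H93.KU.jobM1 (H20.KUMk.jobMk ca dg) dg tr) (H89.KUM.jobGl1 ch fd) (H5.KUGl2.jobGl2 ch fd)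
    H84.KuRa.jobRa (H46.KURb.jobRb cw) (H56.KURc.jobRc (H46.KURc1.jobRc1 pp) (H96.KURc2.jobRc2 up pp) ch fd)
    (H15.KU.jobPo ba ch) (H52.KUBC1.jobBC1 cw ch) (H69.KUBC2.jobBC2 ba ch)
    (H82.KUB1.jobB1 (H18.KUB1a.jobB1a ext frm tr) H83.KU.jobB1b) H87.KuConn.jobConn H60.KuB2a.jobB2a
    H59.KuB2b.jobB2b H14.KUB3a.jobB3a H92.KU.jobB3b

end H53.KU
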