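import Cfsg.Agent.H63.KgvSpec
import Cfsg.Agent.H63.Cusp3

/-! Tower KGV: the Brauer lift with its eigenvalue lists. -/

set_option autoImplicit false

namespace H53.KgvBl

open Module Finset Cfsg Polynomial
open scoped Classical

universe u

section Lin

variable {K V : Type*} [Field K] [AddCommGroup V] [Module K V] [FiniteDimensional K V]

omit [FiniteDimensional K V] in
theorem rk {ι : Type*} [Fintype ι] (b : Basis ι K V) (f : End K V) (e : ι → K)
    (h : ∀ i, f (b i) = e i • b i) (c : K) :
    finrank K (f.eigenspace c) = (univ.filter fun i => e i = c).card := by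
  have hs : f.eigenspace c = Submodule.span K (Set.range fun i : {i // e i = c} => b i) := by
    refine le_antisymm (fun v hv => ?_) (Submodule.span_le.2 ?_)
    · rw [End.mem_eigenspace_iff] at hv
      rw [← b.sum_repr v]
      refine Submodule.sum_mem _ fun i _ => ?_
      by_cases hi : e i = c
      · exact Submodule.smul_mem _ _ (Submodule.subset_span ⟨⟨i, hi⟩, rfl⟩)
      · have h1 : b.repr (f v) i = e i * b.repr v i := by
          conv_lhs => rw [← b.sum_repr v]
          simp only [map_sum, map_smul, h, Basis.repr_self, Finsupp.coe_finsetSum, Finset.sum_apply,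
            Finsupp.smul_apply, Finsupp.single_apply, smul_eq_mul]
          rw [sum_eq_single i] <;> simp +contextual [mul_comm]
        rw [hv, map_smul, Finsupp.smul_apply, smul_eq_mul] at h1
        rw [(mul_eq_zero.1 (by rw [sub_mul, h1, sub_self] :
          (e i - c) * b.repr v i = 0)).resolve_left (sub_ne_zero.2 hi), zero_smul]
        exact zero_mem _
    · rintro _ ⟨⟨i, hi⟩, rfl⟩
      exact End.mem_eigenspace_iff.2 (hi ▸ h i)
  rw [hs, ← Fintype.card_subtype]
  exact finrank_span_eq_card (b.linearIndependent.comp _ Subtype.val_injective)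

theorem diag [Fintype K] (f : End K V) (hf : f ^ Fintype.card K = f) :
    ∃ (ι : Type) (_ : Fintype ι) (b : Basis ι K V) (e : ι → K), ∀ i, f (b i) = e i • b i := by
  have ht : ⨆ c : K, f.eigenspace c = ⊤ := by
    have key : ∀ s : Finset K, LinearMap.ker (aeval f (∏ c ∈ s, (X - C c))) ≤ ⨆ c : K, f.eigenspace c := by
      intro s
      induction s using Finset.induction_on with
      | empty => simp [End.one_eq_id]
      | insert a s ha ih =>
        rw [prod_insert ha, ← sup_ker_aeval_eq_ker_aeval_mul_of_coprime f (IsCoprime.prod_right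
          fun c hc => isCoprime_X_sub_C_of_isUnit_sub (sub_ne_zero.2 fun h : a = c => ha (h ▸ hc)).isUnit)]
        refine sup_le (le_trans (fun v hv => ?_) (le_iSup _ a)) ih
        simpa [End.mem_eigenspace_iff, sub_eq_zero] using hv
    have h1 := Fintype.one_lt_card (α := K)
    have h2 := prod_multiset_X_sub_C_of_monic_of_roots_card_eq (p := (X ^ Fintype.card K - X : K[X]))
      (monic_X_pow_sub (by rw [degree_X]; exact_mod_cast h1))
      (by rw [FiniteField.roots_X_pow_card_sub_X, FiniteField.X_pow_card_sub_X_natDegree_eq K h1]; rfl)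
    rw [FiniteField.roots_X_pow_card_sub_X] at h2
    have h3 := key univ
    rw [Finset.prod, h2] at h3
    simpa [hf] using h3
  have hi := f.eigenspaces_iSupIndep
  have hd := DirectSum.isInternal_submodule_of_iSupIndep_of_iSup_eq_top hi ht
  let b := hd.collectedBasis fun c => finBasis K (f.eigenspace c)
  let κ := Fintype.equivFin (Σ c : K, Fin (finrank K (f.eigenspace c)))
  refine ⟨_, inferInstance, b.reindex κ, fun i => (κ.symm i).1, fun i => ?_⟩
  rw [Basis.reindex_apply]
  exact End.mem_eigenspace_iff.1 (hd.collectedBasis_mem _ _)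

end Lin

theorem job : H63.Kgv.BlSt.{u} := by
  intro p hp G _ _ n M ρ K _ _ _ θ hK hG
  have : CharP K p := charP_of_injective_algebraMap (algebraMap (ZMod p) K).injective p
  let ι := algebraMap (ZMod p) K
  let A : G →* Matrix (Fin n) (Fin n) (ZMod p) :=
    (LinearMap.toMatrixAlgEquiv' (R := ZMod p) (n := Fin n)).toMulEquiv.toMonoidHom.comp ρ
  let σ : G →* End K (Fin n → K) :=
    ((Matrix.toLinAlgEquiv' (R := K) (n := Fin n)).toMulEquiv.toMonoidHom.comp
      ι.mapMatrix.toMonoidHom).comp A
  have hσ : ∀ y, σ y = Matrix.toLin' ((LinearMap.toMatrix' (ρ y)).map ι) := fun y => rfl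
  have hM : 0 < M := Nat.pos_of_ne_zero fun h => by
    have := Fintype.one_lt_card (α := K); rw [hK, h] at this; simp at this
  have hy : ∀ y : G, y ^ p ^ M = y := fun y => by
    obtain ⟨k, hk⟩ := hG
    have : p ^ M = Nat.card G * k + 1 := by
      have := pow_pos hp.1.pos M; omega
    rw [this, pow_succ, pow_mul, pow_card_eq_one', one_pow, one_mul]
  have hyj : ∀ (y : G) (j : ℕ), y ^ (p ^ M) ^ j = y := fun y j => by
    induction j with
    | zero => simp
    | succ j ih => rw [pow_succ, pow_mul, ih, hy]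
  let m : G → Kˣ → ℕ := fun y c => finrank K ((σ y).eigenspace c)
  have hd : ∀ y, ∃ (ι : Type) (_ : Fintype ι) (e : ι → Kˣ), Fintype.card ι = n ∧
      ∀ (j : ℕ) (c : Kˣ), m (y ^ j) c = (univ.filter fun i => e i ^ j = c).card := fun y => by
    obtain ⟨ι, _, b, e, he⟩ := diag (σ y) (by rw [hK, ← map_pow, hy])
    have h0 : ∀ i, e i ≠ 0 := fun i h => b.ne_zero i (by
      have := congrArg (σ y⁻¹) (he i)
      rwa [← End.mul_apply, ← map_mul, inv_mul_cancel, map_one, h, zero_smul, map_zero] at this)
    refine ⟨ι, _, fun i => Units.mk0 _ (h0 i), by simpa using (finrank_eq_card_basis b).symm,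
      fun j c => ?_⟩
    have hj : ∀ i, σ (y ^ j) (b i) = e i ^ j • b i := fun i => by
      induction j with
      | zero => simp
      | succ j ih => rw [pow_succ, map_mul, End.mul_apply, he, map_smul, ih, smul_smul, pow_succ']
    refine (rk b _ _ hj c).trans (congrArg _ (filter_congr fun i _ => ?_))
    simp [Units.ext_iff]
  have hs : ∀ {ι : Type} [Fintype ι] (e : ι → Kˣ) (F : Kˣ → ℂ),
      ∑ c : Kˣ, F c * ((univ.filter fun i => e i = c).card : ℂ) = ∑ i, F (e i) := by
    intro ι _ e F
    rw [← sum_fiberwise univ e]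
    refine sum_congr rfl fun c _ => ?_
    rw [sum_congr rfl fun i hi => congrArg F (mem_filter.1 hi).2, sum_const, nsmul_eq_mul, mul_comm]
  have hE : ∀ y (j : ℕ), ∑ c : Kˣ, (θ c : ℂ) * (m (y ^ j) c : ℂ) =
      ∑ x : Kˣ, (m y x : ℂ) * (θ x : ℂ) ^ j := fun y j => by
    obtain ⟨ι, _, e, -, he⟩ := hd y
    have h1 := he 1
    simp only [pow_one] at h1
    simp only [he j, h1, mul_comm (Nat.cast _ : ℂ)]
    rw [hs (fun i => e i ^ j) fun c => (θ c : ℂ), hs e fun c => (θ c : ℂ) ^ j]
    simp
  have hF : ∀ y (c : Kˣ), m y (c ^ p) = m y c := fun y c => by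
    let φ := frobeniusEquiv K p
    have e : (σ y).eigenspace (c : K) ≃ (σ y).eigenspace ((c ^ p : Kˣ) : K) :=
      (Equiv.piCongrRight fun _ : Fin n => φ.toEquiv).subtypeEquiv fun v => by
        simp only [End.mem_eigenspace_iff, hσ, funext_iff, Matrix.toLin'_apply, Matrix.mulVec,
          dotProduct, Pi.smul_apply, smul_eq_mul]
        refine forall_congr' fun i => ?_
        rw [← φ.injective.eq_iff, map_sum, map_mul]
        have : ∀ a : ZMod p, φ (ι a) = ι a := fun a => by
          rw [frobeniusEquiv_def, ← map_pow, ZMod.pow_card]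
        have h2 : φ (c : K) = ((c ^ p : Kˣ) : K) := by rw [frobeniusEquiv_def, Units.val_pow_eq_pow_val]
        simp only [map_mul, Matrix.map_apply, this, h2]
        rfl
    have := Nat.card_congr e
    rw [Module.natCard_eq_pow_finrank (K := K) (V := (σ y).eigenspace _),
      Module.natCard_eq_pow_finrank (K := K) (V := (σ y).eigenspace _)] at this
    exact (Nat.pow_right_injective Finite.one_lt_card this).symm
  refine ⟨fun y => ∑ c : Kˣ, (θ c : ℂ) * (m y c : ℂ), m, H63.Cusp.green_cop σ θ (by
    rwa [Nat.card_units, Nat.card_eq_fintype_card (α := K), hK]), fun y => ?_, fun y j => ?_,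
    fun y => ⟨?_, ?_⟩⟩
  · have hb : Function.Bijective fun c : Kˣ => c ^ p := Finite.injective_iff_bijective.1
      fun a b h => Units.ext ((frobenius_inj K p) (by simpa [frobenius_def, Units.ext_iff] using h))
    show ∑ c : Kˣ, (θ c : ℂ) * (m (y ^ p) c : ℂ) = ∑ c : Kˣ, (θ c : ℂ) * (m y c : ℂ)
    rw [hE, ← hb.sum_comp fun c => (θ c : ℂ) * (m y c : ℂ)]
    simp [hF, mul_comm]
  · convert hE y j
  · obtain ⟨ι, _, e, hn, he⟩ := hd y
    have h1 := he 1
    simp only [pow_one] at h1
    rw [finsum_eq_sum_of_fintype, ← hn]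
    simp only [h1]
    exact (card_eq_sum_card_fiberwise (f := e) fun _ _ => mem_univ _).symm
  · have h1 := H63.Cusp.rootMultiplicity_eq (σ y) (1 : K) (j := n) (by simp)
    have h2 := H63.Cusp.rootMultiplicity_eq (ρ y) (1 : ZMod p) (j := M * n)
      (by simpa using Nat.le_mul_of_pos_left n hM)
    rw [Nat.card_eq_fintype_card, hK, ← map_pow, hyj] at h1
    rw [Nat.card_zmod, pow_mul, ← map_pow, hyj] at h2
    have h3 : m y 1 = finrank (ZMod p) ((ρ y).eigenspace 1) := by
      have h4 : (LinearMap.toMatrix' (ρ y)).charpoly = (ρ y).charpoly := by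
        rw [← Matrix.charpoly_toLin', Matrix.toLin'_toMatrix']
      rw [← h2, eq_rootMultiplicity_map (f := ι) ι.injective, map_one, ← h4,
        ← Matrix.charpoly_map, ← Matrix.charpoly_toLin', ← hσ, h1]
      rfl
    have h5 := Module.natCard_eq_pow_finrank (K := ZMod p) (V := (ρ y).eigenspace 1)
    rw [Nat.card_zmod] at h5
    rw [h3, ← h5]
    exact Nat.card_congr (Equiv.subtypeEquivRight fun v => by simp [End.mem_eigenspace_iff])

end H53.KgvBl
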