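/- Tower O84, chapter E3: the data. -/
import Cfsg.Agent.H46.LangCert
import Cfsg.Agent.H63.RSE8

set_option autoImplicit false

namespace H53.O84

open Cfsg.Lie H63 H64 H46 Matrix Multiplicative

/-- An integral table modulo three. -/
def mt (n m : ℕ) (M : List (List ℤ)) : Matrix (Fin n) (Fin m) (ZMod 3) :=
  Matrix.of fun i j => (ent2 M i j : ZMod 3)

/-- The number of roots that are not trivial on `T z`. -/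
def cnt (D : ChevalleyDatum) (z : Fin D.rank → ZMod 3) : ℕ :=
  ∑ r : Fin D.nroots, if ∑ i, z i * (D.cartan i r : ZMod 3) = 0 then 0 else 1

def w1 : List ℕ := [5, 6, 7, 4, 5, 6, 0, 2, 3, 4, 5, 1, 3, 4, 2, 3, 0, 2, 1, 3, 4, 5, 6, 7, 5, 3, 4,
  2, 3, 0, 2, 1, 3, 4, 5, 6, 2, 3, 0, 2, 1, 3, 4, 5, 1, 3, 2, 0]
def w2 : List ℕ := [5, 6, 7, 4, 5, 6, 0, 2, 3, 4, 5, 1, 3, 4, 2, 3, 0, 2, 1, 3, 4, 5, 6, 7, 5, 3, 4,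
  2, 3, 0, 2, 1, 3, 4, 5, 6, 4, 3, 0, 2, 1, 3, 4, 5, 1, 3, 2, 0]
def wx : List ℕ := [1, 3] ++ (w1 ++ [1, 3] ++ w1)
def M1 : List (List ℤ) := [[-1, 0, 0, 0, 2, -2, 0, 0], [-2, 1, 0, 0, 2, -2, 0, 0],
  [-2, 1, 0, 0, 3, -4, 1, 0], [-3, 2, 0, 0, 4, -5, 0, 1], [-2, 2, 0, 0, 3, -4, 0, 0],
  [-2, 2, 0, 0, 2, -3, 0, 0], [-2, 1, 1, 0, 1, -2, 0, 0], [-1, 0, 0, 1, 0, -1, 0, 0]]
def M2 : List (List ℤ) := [[-1, 0, 0, 0, 2, -2, 0, 0], [-2, 0, 1, 0, 2, -3, 1, 0],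
  [-3, 0, 1, 0, 3, -3, 0, 0], [-4, 0, 2, 0, 4, -5, 0, 1], [-3, 0, 2, 0, 3, -4, 0, 0],
  [-3, 0, 2, 0, 2, -3, 0, 0], [-2, 1, 1, 0, 1, -2, 0, 0], [-1, 0, 0, 1, 0, -1, 0, 0]]
def MX : List (List ℤ) := [[1, 0, 0, 0, 0, 0, 0, 0], [1, 0, 1, -1, 1, -1, 1, -1],
  [1, 0, 1, 0, 0, -1, 1, -1], [2, 1, 1, -1, 1, -2, 2, -2], [2, 0, 0, 0, 1, -2, 2, -2],
  [2, 0, 0, 0, 0, -1, 2, -2], [1, 0, 0, 0, 0, -1, 2, -1], [0, 0, 0, 0, 0, 0, 1, -1]]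
def J : List (List ℤ) := [[], [1], [0, 1], [0, 0, 1], [0, 0, 0, 1]]
def G1 : List (List ℤ) := [[0, 0, 0, 1], [0, 0, 0, 1], [2, 1, 0, 0], [1, 0, 1, 2], [1, 0, 0, 1],
  [1, 0, 0, 1], [2, 2, 0, 2], [0, 0, 2, 0]]
def G2 : List (List ℤ) := [[0, 0, 0, 1], [1, 2, 0, 1], [0, 0, 0, 0], [0, 1, 1, 2], [0, 1, 0, 1],
  [0, 1, 0, 1], [2, 2, 0, 2], [0, 0, 2, 0]]
def MN : List (List ℤ) := [[0, 1, 2, 1], [0, 1, 0, 0], [1, 1, 2, 1], [0, 0, 0, 1]]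

theorem c1 : chkW chevE8 w1 id M1 = true := by decide +kernel
theorem c2 : chkW chevE8 w2 id M2 = true := by decide +kernel
theorem cx : chkW chevE8 wx id MX = true := by decide +kernel
theorem w1_sq : wW chevE8 (w1 ++ w1) = 1 :=
  (scalW_one_iff (by decide +kernel)).1 (by decide +kernel)
theorem wx_cube : wW chevE8 (wx ++ wx ++ wx) = 1 :=
  (scalW_one_iff (by decide +kernel)).1 (by decide +kernel)
theorem g1 : mt 8 4 J + mt 8 8 M1 * (mt 8 4 J + mt 8 4 J) = mt 8 4 G1 := by decide +kernel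
theorem g2 : mt 8 4 J + mt 8 8 M2 * (mt 8 4 J + mt 8 4 J) = mt 8 4 G2 := by decide +kernel
theorem gx : mt 8 8 MX * mt 8 4 G1 = mt 8 4 G1 * mt 4 4 MN := by decide +kernel
theorem gN : Fintype.card {v : Multiplicative (Fin 4 → ZMod 3) //
    ofAdd (mt 4 4 MN *ᵥ toAdd v) = v} ≤ 9 := by decide +kernel
theorem i1 : ∀ v, mt 8 4 G1 *ᵥ v = 0 → v = 0 := by decide +kernel
theorem i2 : ∀ v, mt 8 4 G2 *ᵥ v = 0 → v = 0 := by decide +kernel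
theorem n1 : ∀ a b c d : ZMod 3, cnt chevE8 (mt 8 4 G1 *ᵥ ![a, b, c, d]) ≠ 168 := by
  decide +kernel
theorem n2 : cnt chevE8 (mt 8 4 G2 *ᵥ ![0, 1, 0, 1]) = 168 := by decide +kernel

end H53.O84
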