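import Cfsg.Agent.H53.SGC
import Cfsg.Agent.H53.CKMain
import Cfsg.Agent.H93.SGM0
import Cfsg.Agent.H93.SGExc
import Cfsg.Agent.H86.SGOp
import Cfsg.Agent.H86.SGC2
import Cfsg.Agent.H30.SgRed
import Cfsg.Agent.H30.SgR2
import Cfsg.Agent.H17.SGR1
import Cfsg.Agent.H17.SGC1
import Cfsg.Agent.H44.SgU
import Cfsg.Agent.H44.SgWrap
import Cfsg.Agent.H95.SGNum
import Cfsg.Agent.H95.SGE1

/-! Overgroups of the normaliser of a Singer cycle in prime dimension. -/

set_option autoImplicit false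

namespace H53.SG

universe u v

theorem singer : Main.{u, v} :=
  main ⟨H93.SG.jobM0, H86.SG.jobOp, H30.SgR.jobRed, H44.Sg.jobU, H17.SG1.jobR1, H30.SgR.jobR2,
    H95.SG.jobNum, H17.SG1.jobC1, H86.SG.jobC2, H95.SG.jobE1, H93.SG.jobExc⟩

/-- The normaliser of a field of prime degree is maximal in `SL_n(q)`, `n ≥ 5`. -/
theorem isMaximalIn_field {F : Type u} [Field F] [Fintype F] (n : ℕ) (hn : 5 ≤ n) (r : ℕ)
    (hr : r.Prime) (K : Subalgebra F (Matrix (Fin n) (Fin n) F))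
    (hK : Cfsg.Geo.IsFieldSubalgebra r K) :
    Cfsg.Geo.IsMaximalIn (Cfsg.Geo.specialLinear (Fin n) F)
      (Cfsg.Geo.subalgebraNormalizer K ⊓ Cfsg.Geo.specialLinear (Fin n) F) :=
  H44.Sg.s5636_of CK.cameronKantor singer n hn r hr K hK

end H53.SG
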