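import Cfsg.Agent.H53.SzSpec

/-! ITO part 2: elementary facts on self-centralising subgroups. -/

set_option autoImplicit false

namespace H53.Sz

open Cfsg Subgroup H66

universe u

variable {G : Type u} [Group G] [Finite G] {A : Subgroup G}

omit [Finite G] in
theorem not_mem_of_two (ho : Odd (Nat.card A)) {u : G} (hu : orderOf u = 2) : u ∉ A := fun h =>
  (Nat.not_even_iff_odd.2 ho) (even_iff_two_dvd.2 (hu ▸ orderOf_dvd_natCard A h))

omit [Finite G] in
theorem inv_of_two (hA : IsCC A) (ho : Odd (Nat.card A)) {u : G} (hu : orderOf u = 2)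
    (hn : u ∈ normalizer (A : Set G)) {a : G} (ha : a ∈ A) : u * a * u⁻¹ = a⁻¹ := by
  have uu : u * u = 1 := by rw [← pow_two, ← hu, pow_orderOf_eq_one]
  have hb : u * a * u⁻¹ ∈ A := (mem_normalizer_iff.1 hn a).1 ha
  by_contra h
  refine not_mem_of_two ho hu (hA.mem_of_commute (mul_mem ha hb)
    (fun e => h (eq_inv_of_mul_eq_one_right e)) ?_)
  have : u * (a * (u * a * u⁻¹)) * u⁻¹ = u * a * u⁻¹ * (u * u * a * (u * u)⁻¹) := by group
  rw [uu, one_mul, inv_one, mul_one, hA.comm ha hb] at this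
  exact mul_inv_eq_iff_eq_mul.1 this

theorem exists_f (hA : IsCC A) (h4 : A.relIndex (normalizer (A : Set G)) = 4)
    (ho : Odd (Nat.card A)) (h1 : A ≠ ⊥) : ∃ f ∈ normalizer (A : Set G), orderOf f = 4 ∧
      ∀ a ∈ A, f * f * a * (f * f)⁻¹ = a⁻¹ := by
  have hc : 2 ^ 2 ∣ Nat.card (normalizer (A : Set G)) := by
    rw [← card_mul_index (A.subgroupOf _)]
    exact Dvd.dvd.mul_left (by rw [← relIndex, h4]; norm_num) _
  obtain ⟨S, hS⟩ := Sylow.exists_subgroup_card_pow_prime 2 hc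
  have two : ∀ x : S, x ≠ 1 → x * x = 1 → orderOf ((x : normalizer (A : Set G)) : G) = 2 :=
    fun x hx h => by
      rw [orderOf_coe, orderOf_coe]
      exact orderOf_eq_prime (by rwa [pow_two]) hx
  by_cases h : ∃ x : S, x * x ≠ 1
  · obtain ⟨x, hx⟩ := h
    have x4 : x ^ 2 ^ 2 = 1 := hS ▸ pow_card_eq_one'
    refine ⟨x, x.1.2, ?_, fun a ha => inv_of_two hA ho (two (x * x) hx ?_) (x * x).1.2 ha⟩
    · rw [orderOf_coe, orderOf_coe]
      exact orderOf_eq_prime_pow (p := 2) (n := 1) (by rwa [pow_one, pow_two]) x4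
    · rw [← x4]; norm_num [pow_succ, mul_assoc]
  · push Not at h
    have : Nontrivial S := Finite.one_lt_card_iff_nontrivial.1 (by rw [hS]; norm_num)
    obtain ⟨x, hx⟩ := exists_ne (1 : S)
    obtain ⟨y, hy1, hy⟩ : ∃ y : S, y ≠ 1 ∧ y ≠ x := by
      by_contra! k
      have := Nat.card_le_card_of_surjective (fun t : Bool => if t then x else (1 : S)) fun b => by
        by_cases e : b = 1
        exacts [⟨false, e.symm⟩, ⟨true, (k b e).symm⟩]
      rw [hS] at this
      simp at this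
    obtain ⟨⟨a, ha⟩, a1⟩ := ne_bot_iff_exists_ne_one.1 h1
    have e1 := inv_of_two hA ho (two x hx (h x)) x.1.2 (inv_mem ha)
    have e2 := inv_of_two hA ho (two y hy1 (h y)) y.1.2 ha
    refine (not_mem_of_two ho (two (x * y) (fun e => hy (mul_left_cancel (e.trans (h x).symm)))
      (h _)) (hA.mem_of_commute ha (fun e => a1 (Subtype.ext e)) ?_)).elim
    refine mul_inv_eq_iff_eq_mul.1 ?_
    rw [inv_inv, ← e2] at e1
    refine Eq.trans ?_ e1
    simp only [coe_mul]
    group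

omit [Finite G] in
theorem C4.odd (h : C4 A) : Odd (Nat.card A) :=
  Nat.coprime_two_right.1 (h.six.coprime_dvd_right (by norm_num))

theorem C4.exists_f (h : C4 A) : ∃ f ∈ normalizer (A : Set G), orderOf f = 4 ∧
    ∀ a ∈ A, f * f * a * (f * f)⁻¹ = a⁻¹ := H53.Sz.exists_f h.cc h.idx h.odd h.ne

end H53.Sz
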