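import Cfsg.Agent.H24.BETI
import Cfsg.Agent.H5.CCChar
import Cfsg.Agent.H28.IntVal

/-! Interface of the tower ITO, part 2 (`blueprints/ITO.md`): S3240, the Suzuki groups by three
self-centralising subgroups. -/

set_option autoImplicit false

namespace H53.Sz

open Cfsg Subgroup Finset H28 H66
open scoped Classical

universe u

/-- `g` is not conjugate to a non-identity element of `A`. -/
def Off {G : Type u} [Group G] (A : Subgroup G) (g : G) : Prop := ∀ x : G, x⁻¹ * g * x ∈ A → g = 1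

/-- The exceptional characters `E` of `A`; the other characters have the value `c χ` on `A#`. -/
structure Ex {G : Type u} [Group G] [Finite G] (A : Subgroup G) (e : ℕ)
    (E : Finset (IrrCharacter G)) (c : IrrCharacter G → ℤ) (κ : ℤ) : Prop where
  card : e * #E + 1 = Nat.card A
  val : ∀ χ, χ ∉ E → ∀ a ∈ A, a ≠ 1 → (χ : G → ℂ) a = c χ
  ind : ∀ (m : IrrCharacter G → ℂ) (k : ℂ),
    (∀ a ∈ A, a ≠ 1 → ∑ χ ∈ E, m χ * (χ : G → ℂ) a = k) → ∀ X ∈ E, ∀ Y ∈ E, m X = m Y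
  sum : ∀ a ∈ A, a ≠ 1 → ∑ χ ∈ E, (χ : G → ℂ) a = κ
  eq : ∀ g, Off A g → ∀ X ∈ E, ∀ Y ∈ E, (X : G → ℂ) g = (Y : G → ℂ) g
  rel : ∀ g, Off A g → ∀ X ∈ E, ∑ χ ∈ Eᶜ, c χ * (χ : G → ℂ) g + κ * (X : G → ℂ) g = 0
  norm : ∃ a : ℤ, ∑ χ ∈ Eᶜ, c χ ^ 2 + (a - 1) ^ 2 + (#E - 1) * a ^ 2 = e + 1 ∧
    κ ^ 2 = (#E * a - 1) ^ 2

/-- ITO-EX. -/
def JobEx : Prop :=
  ∀ (G : Type u) [Group G] [Finite G] (A : Subgroup G) (e : ℕ), IsCC A →
    A.relIndex (normalizer (A : Set G)) = e → e + 1 < Nat.card A → ∃ E c κ, Ex A e E c κ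

/-- ITO-INV. -/
def JobInv : Prop :=
  ∀ (G : Type u) [Group G] [Finite G] [IsSimpleGroup G] (A : Subgroup G)
    (E : Finset (IrrCharacter G)) (c : IrrCharacter G → ℤ) (κ : ℤ), ¬ IsMulCommutative G → IsCC A →
    A.relIndex (normalizer (A : Set G)) = 2 → 5 ≤ Nat.card A → Ex A 2 E c κ →
    ∀ t s : G, orderOf t = 2 → orderOf s = 2 → IsConj t s

section comb

variable {I : Type u} [Fintype I]

/-- A column off the three subgroups. -/
def Col {R : Type} [CommRing R] (E : Fin 3 → Finset I) (c : Fin 3 → I → ℤ) (κ : Fin 3 → ℤ)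
    (f : I → R) : Prop :=
  ∀ i, ∀ X ∈ E i, (∀ Y ∈ E i, f X = f Y) ∧ ∑ χ ∈ (E i)ᶜ, c i χ * f χ + κ i * f X = 0

/-- The numerical data of three subgroups with automisers of orders 2, 4, 4. -/
structure Tri (o : I) (E : Fin 3 → Finset I) (c : Fin 3 → I → ℤ) (κ : Fin 3 → ℤ) : Prop where
  one : ∀ i, o ∉ E i ∧ c i o = 1
  norm : ∀ i, ∃ a : ℤ, ∑ χ ∈ (E i)ᶜ, c i χ ^ 2 + (a - 1) ^ 2 + (#(E i) - 1) * a ^ 2 =
    (![2, 4, 4] i : ℤ) + 1 ∧ κ i ^ 2 = (#(E i) * a - 1) ^ 2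
  disj : ∀ i j, i ≠ j → Disjoint (E i) (E j)
  cst : ∀ i j, i ≠ j → ∀ X ∈ E j, ∀ Y ∈ E j, c i X = c i Y
  orth : ∀ i j, i ≠ j → ∀ X ∈ E i, ∀ Y ∈ E j,
    ∑ χ ∈ (E i ∪ E j)ᶜ, c i χ * c j χ + κ i * c j X + κ j * c i Y = 0
  big : 2 ≤ #(E 0) ∧ 3 ≤ #(E 1) ∧ 3 ≤ #(E 2) ∧ 7 ≤ #(E 1) + #(E 2)
  deg : ∃ f : I → ℤ, Col E c κ f ∧ f o = 1

end comb

/-- ITO-COMB. -/
def JobComb : Prop :=
  ∀ (I : Type u) [Fintype I] (o : I) (E : Fin 3 → Finset I) (c : Fin 3 → I → ℤ) (κ : Fin 3 → ℤ),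
    Tri o E c κ →
    #{χ | (∀ i, χ ∉ E i) ∧ ∃ i, c i χ ≠ 0} ≤ 4 ∧
    (∀ f : I → ℂ, Col E c κ f → (∀ χ, (∀ i, χ ∉ E i) → f χ = 0) → f = 0) ∧
    (#{χ | ∀ i, χ ∉ E i ∧ c i χ = 0} ≤ 2 → ∀ A B : I → ℤ, Col E c κ A → Col E c κ B → A o = 1 →
      B o = 0 → ∑ χ, A χ ^ 2 = 9 → ∑ χ, B χ ^ 2 = 3 → False)

variable {G : Type u} [Group G]

/-- `g ≠ 1` commutes with an element of order 2 or 3. -/
def Om (g : G) : Prop := g ≠ 1 ∧ ∃ h : G, (orderOf h = 2 ∨ orderOf h = 3) ∧ Commute g h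

/-- At most five classes of such elements. -/
def Five (G : Type u) [Group G] : Prop :=
  ∀ g : Fin 6 → G, (∀ i, Om (g i)) → ∃ i j, i ≠ j ∧ IsConj (g i) (g j)

/-- The last configuration: `C(y)` of order 36 with Sylow 2-subgroup `⟨v, w⟩`. -/
structure Cfg (y v w : G) : Prop where
  y3 : orderOf y = 3
  v2 : orderOf v = 2
  w2 : orderOf w = 2
  ne : v ≠ w
  vw : Commute v w
  yv : Commute y v
  yw : Commute y w
  cy : Nat.card (centralizer ({y} : Set G)) = 36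
  cz : Nat.card (centralizer ({y * v} : Set G)) = 12
  c1 : IsConj (y * v) (y * w)
  c2 : IsConj (y * v) (y * (v * w))
  ry : IsConj y y⁻¹
  rz : IsConj (y * v) (y * v)⁻¹

/-- The system of S3240, with orders prime to 6. -/
structure Sys (A : Fin 3 → Subgroup G) : Prop where
  cc : ∀ i, IsCC (A i)
  cop : ∀ i j, i ≠ j → (Nat.card (A i)).Coprime (Nat.card (A j))
  six : ∀ i, (Nat.card (A i)).Coprime 6
  idx : ∀ i, (A i).relIndex (normalizer (A i : Set G)) = ![2, 4, 4] i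
  big : ∀ i, ![5, 13, 13] i ≤ Nat.card (A i)
  ord : Nat.card G ≤ 3 * (Nat.card (A 0) * Nat.card (A 1) * Nat.card (A 2)) ^ 2

/-- ITO-LINK. -/
def JobLink : Prop :=
  JobEx.{u} → JobComb.{u} → ∀ (G : Type u) [Group G] [Finite G] (A : Fin 3 → Subgroup G), Sys A →
    Five G ∧ ∀ y v w : G, ¬ Cfg y v w

/-- The local hypothesis. -/
structure Few (G : Type u) [Group G] : Prop where
  one : ∀ t s : G, orderOf t = 2 → orderOf s = 2 → IsConj t s
  ab3 : ∀ P : Subgroup G, IsPGroup 3 P → IsMulCommutative P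
  four : ∃ f : G, orderOf f = 4
  six : ∃ z : G, orderOf z = 6
  five : Five G

/-- ITO-LOC0. -/
def JobLoc0 : Prop :=
  ∀ (G : Type u) [Group G] [Finite G] (t : G), Few G → orderOf t = 2 →
    HasNormalPComplement 2 (centralizer ({t} : Set G)) ∨ oddCore (centralizer ({t} : Set G)) = ⊥

/-- ITO-LOCA. -/
def JobLocA : Prop :=
  ∀ (G : Type u) [Group G] [Finite G] (t : G), Few G → orderOf t = 2 →
    oddCore (centralizer ({t} : Set G)) = ⊥ → ¬ 9 ∣ Nat.card (centralizer ({t} : Set G))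

/-- ITO-LOCB. -/
def JobLocB : Prop :=
  ∀ (G : Type u) [Group G] [Finite G] (t : G), Few G → orderOf t = 2 →
    ¬ 9 ∣ Nat.card (centralizer ({t} : Set G)) →
    (∃ z : G, orderOf z = 6 ∧ Nat.card (centralizer ({z} : Set G)) = 6) ∨ ∃ y v w : G, Cfg y v w

/-- A self-centralising subgroup of order prime to 6 with automiser of order 4. -/
structure C4 (A : Subgroup G) : Prop where
  cc : IsCC A
  idx : A.relIndex (normalizer (A : Set G)) = 4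
  six : (Nat.card A).Coprime 6
  ne : A ≠ ⊥

/-- ITO-X. -/
structure JobX : Prop where
  l2 : ∀ (G : Type u) [Group G] (A : Subgroup G) (F : Type) [Field F] [Fintype F], C4 A →
    IsEmpty (G ≃* Matrix.ProjectiveSpecialLinearGroup (Fin 2) F)
  l3 : ∀ (G : Type u) [Group G] (A : Subgroup G) (F : Type) [Field F] [Fintype F] (n : ℕ), C4 A →
    2 ≤ n → Fintype.card F = 2 ^ n → IsEmpty (G ≃* Matrix.ProjectiveSpecialLinearGroup (Fin 3) F)
  u3 : ∀ (G : Type u) [Group G] (A : Subgroup G) (F : Type) [Field F] [Fintype F] (n : ℕ), C4 A →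
    2 ≤ n → Fintype.card F = (2 ^ n) ^ 2 → IsEmpty (G ≃* PSU 3 F (2 ^ n))

end H53.Sz
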