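/- Tower WU (S4793): assembly of the jobs. -/
import Cfsg.Agent.H53.WUKit
import Cfsg.Agent.H55.Transport

set_option autoImplicit false

namespace H53.WU

open Cfsg H28 H59 Module

/-- Constituents of the conjugation character. -/
theorem cc {G : Type} [Group G] [Fintype G] {χ : G → ℂ} (h : IsCharacter G χ) :
    classInner χ (fun g : G => (Nat.card (Subgroup.centralizer ({g} : Set G)) : ℂ)) ≠ 0 ↔ Fx χ := by
  classical
  choose m hm using fun g : G => av_nat h (Subgroup.centralizer {g})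
  have c0 : ∀ g : G, (Nat.card (Subgroup.centralizer ({g} : Set G)) : ℂ) ≠ 0 := fun g => by
    exact_mod_cast Nat.card_pos.ne'
  have s1 : ∀ (x : G) (f : G → ℂ), ∑ᶠ g : Subgroup.centralizer ({x} : Set G), f g =
      ∑ g, if g * x = x * g then f g else 0 := fun x f => by
    rw [finsum_eq_sum_of_fintype, ← Finset.sum_filter]
    exact (Finset.sum_subtype _ (fun g => by simp [Subgroup.mem_centralizer_singleton_iff]) f).symm
  have key : ∑ g, χ g * (starRingEnd ℂ) (Nat.card (Subgroup.centralizer ({g} : Set G)) : ℂ) =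
      ((∑ g, Nat.card (Subgroup.centralizer ({g} : Set G)) * m g : ℕ) : ℂ) := by
    have a1 : ∀ g : G, (Nat.card (Subgroup.centralizer ({g} : Set G)) : ℂ) =
        ∑ x, if x * g = g * x then 1 else 0 := fun g => by
      rw [← s1 g fun _ => 1, finsum_eq_sum_of_fintype]
      simp
    have a2 : ∀ g : G, (Nat.card (Subgroup.centralizer ({g} : Set G)) : ℂ) * m g =
        ∑ x, if x * g = g * x then χ x else 0 := fun g => by
      rw [← hm, av, ← mul_assoc, mul_inv_cancel₀ (c0 g), one_mul, s1]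
    push_cast
    simp only [a2, map_natCast]
    rw [Finset.sum_comm]
    refine Finset.sum_congr rfl fun g _ => ?_
    rw [a1, Finset.mul_sum]
    exact Finset.sum_congr rfl fun x _ => by simp only [@eq_comm _ (x * g)]; split_ifs <;> simp
  rw [classInner, key, mul_ne_zero_iff, and_iff_right (inv_ne_zero (neZero_card_complex G).ne), Nat.cast_ne_zero, Ne,
    Finset.sum_eq_zero_iff, Fx]
  simp only [hm, Nat.cast_ne_zero, Finset.mem_univ, true_imp_iff, mul_eq_zero, Nat.card_pos.ne', false_or,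
    not_forall]

theorem fx_one {G : Type} [Group G] [Finite G] : Fx fun _ : G => (1 : ℂ) := ⟨1, fun h => by
  have := Fintype.ofFinite (Subgroup.centralizer ({1} : Set G))
  rw [av_eq_zero, finsum_eq_sum_of_fintype] at h
  simp at h⟩

namespace HS

variable {S : HS}

theorem q_add_one_ne (S : HS) : (S.q : ℂ) + 1 ≠ 0 := by exact_mod_cast Nat.succ_ne_zero S.q

theorem sc_comm (c : S.Fˣ) (x : S.V ≃ₗ[S.F] S.V) : scalarEquiv S.V c * x = x * scalarEquiv S.V c :=
  LinearEquiv.ext fun v => (map_smul x _ v).symm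

theorem comm_sc_iff (c : S.Fˣ) (x y : S.V ≃ₗ[S.F] S.V) :
    scalarEquiv S.V c * x * y = y * (scalarEquiv S.V c * x) ↔ x * y = y * x := by
  rw [← mul_assoc y, ← sc_comm, mul_assoc, mul_assoc, mul_left_cancel_iff]

/-- The Coxeter torus fixes a vector in the Weil modules of degree `(q^n+1)/(q+1)`. -/
theorem cox (irr : JobIrr) (za : JobZa) (h : S.Good) {a : S.μ →* ℂˣ} (ha : a ≠ 1) : Fx (S.za a) := by
  classical
  obtain ⟨t, -, ht⟩ := irr S h.1
  obtain ⟨c, hc⟩ := exists_sc h.2.2 t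
  have := Fintype.ofFinite S.μ
  have := Fintype.ofFinite S.G
  refine ⟨⟨_, hc⟩, fun h0 => ((za S h).1 a).apply_one_ne_zero ?_⟩
  rw [av_eq_zero, finsum_eq_single _ 1] at h0
  · exact h0
  rintro ⟨x, hx⟩ hx1
  have hxt : t.1 * x.1 = x.1 * t.1 :=
    (comm_sc_iff c.1 _ _).1 (congrArg Subtype.val (Subgroup.mem_centralizer_singleton_iff.1 hx)).symm
  have : ∀ d : S.μ, S.zt (scalarEquiv S.V d.1 * x.1) = -1 := fun d => by
    have e : ((scalarEquiv S.V d.1 * x.1 : S.V ≃ₗ[S.F] S.V) : End S.F S.V) * (t.1 : End S.F S.V) =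
        (t.1 : End S.F S.V) * (scalarEquiv S.V d.1 * x.1 : S.V ≃ₗ[S.F] S.V) :=
      congrArg LinearEquiv.toLinearMap ((comm_sc_iff d.1 _ _).2 hxt.symm)
    rcases ht (((scalarEquiv S.V d.1 * x.1 : S.V ≃ₗ[S.F] S.V) : End S.F S.V) - 1)
      (by rw [sub_mul, mul_sub, e, one_mul, mul_one]) with h1 | h1
    · have h2 : scalarEquiv S.V d.1 * x.1 = 1 := LinearEquiv.toLinearMap_injective (sub_eq_zero.1 h1)
      have h3 : d = 1 := sc_eq_one h.2.2 (eq_inv_of_mul_eq_one_left h2 ▸ inv_mem x.2)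
      exact absurd (Subtype.ext (Subtype.ext (by simpa [h3] using h2))) hx1
    · rw [zt, (LinearMap.isUnit_iff_ker_eq_bot _).1 h1, finrank_bot, pow_zero, mul_one, h.1.neg_one_pow]
  change S.za a x = 0
  have h1 := sum_hom_units_eq_zero ((Units.coeHom ℂ).comp (a.comp invMonoidHom)) fun e => ha (by
    ext x
    simpa using DFunLike.congr_fun e x⁻¹)
  simp only [HS.za, this, finsum_eq_sum_of_fintype, ← Finset.sum_mul]
  exact mul_eq_zero_of_right _ (mul_eq_zero_of_left h1 _)

/-- No centraliser fixes a vector of the unipotent Weil module. -/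
theorem not_fx (A : JobA) (h : S.Good) : ¬ Fx S.ω := fun ⟨g, hg⟩ => hg <| by
  classical
  have := Fintype.ofFinite S.μ
  have := Fintype.ofFinite S.G
  have := Fintype.ofFinite S.Γ
  have h0 := A S h.1 ⟨g.1, g.2.1⟩
  let f : Subgroup.centralizer ({g} : Set S.G) × S.μ → Subgroup.centralizer ({⟨g.1, g.2.1⟩} : Set S.Γ) :=
    fun x => ⟨⟨scalarEquiv S.V x.2.1 * x.1.1.1, mul_mem (sc_mem x.2) x.1.1.2.1⟩,
      Subgroup.mem_centralizer_singleton_iff.2 (Subtype.ext ((comm_sc_iff _ _ _).2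
        (congrArg Subtype.val (Subgroup.mem_centralizer_singleton_iff.1 x.1.2))))⟩
  have hf : Function.Bijective f := by
    refine ⟨fun x y e => ?_, fun y => ?_⟩
    · have e1 : scalarEquiv S.V x.2.1 * x.1.1.1 = scalarEquiv S.V y.2.1 * y.1.1.1 := congrArg (·.1.1) e
      have e2 : y.2⁻¹ * x.2 = 1 := sc_eq_one h.2.2 (by
        rw [Subgroup.coe_mul, Subgroup.coe_inv, map_mul, map_inv, ← mul_inv_cancel_right (scalarEquiv S.V x.2.1) x.1.1.1,
          e1, mul_assoc, inv_mul_cancel_left]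
        exact mul_mem y.1.1.2 (inv_mem x.1.1.2))
      rw [inv_mul_eq_one] at e2
      rw [e2, mul_left_cancel_iff] at e1
      exact Prod.ext (Subtype.ext (Subtype.ext e1)) e2.symm
    · obtain ⟨c, hc⟩ := exists_sc h.2.2 y.1
      refine ⟨(⟨⟨_, hc⟩, Subgroup.mem_centralizer_singleton_iff.2 (Subtype.ext ((comm_sc_iff _ _ _).2
        (congrArg Subtype.val (Subgroup.mem_centralizer_singleton_iff.1 y.2))))⟩, c⁻¹), Subtype.ext (Subtype.ext ?_)⟩
      simp [f]
  rw [finsum_eq_sum_of_fintype, ← hf.sum_comp, Fintype.sum_prod_type] at h0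
  rw [av_eq_zero, finsum_eq_sum_of_fintype]
  simp only [ω, za, finsum_eq_sum_of_fintype, ← Finset.mul_sum, MonoidHom.one_apply, Units.val_one, one_mul]
  exact mul_eq_zero_of_right _ h0

theorem deg_ω (za : JobZa) (h : S.Good) : S.ω 1 = ((S.q ^ S.n - S.q) / (S.q + 1) : ℕ) := by
  obtain ⟨d, hd⟩ : ∃ d : ℕ, S.ω 1 = d := ((za S h).1 1).isCharacter.exists_degree
  have h1 := (za S h).2.2.1
  have h2 : S.q ≤ S.q ^ S.n := Nat.le_self_pow (by have := h.2.1; omega) _
  rw [hd] at h1 ⊢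
  have : d * (S.q + 1) = S.q ^ S.n - S.q := by exact_mod_cast (by push_cast [h2]; exact h1 : ((d * (S.q + 1) : ℕ) : ℂ) = (S.q ^ S.n - S.q : ℕ))
  rw [← this, Nat.mul_div_cancel _ (Nat.succ_pos _)]

theorem deg_eq_iff (za : JobZa) (h : S.Good) {x : ℂ} :
    x = ((S.q ^ S.n - S.q) / (S.q + 1) : ℕ) ↔ x * (S.q + 1) = S.q ^ S.n - S.q := by
  rw [← deg_ω za h, ← (za S h).2.2.1, mul_left_inj' S.q_add_one_ne]

theorem big (h : S.Good) : 2 * S.q + 1 < S.q ^ S.n := by
  have h1 := S.two_le_q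
  have h2 : S.q ^ 3 ≤ S.q ^ S.n := Nat.pow_le_pow_right (by omega) h.2.1
  nlinarith [Nat.mul_le_mul h1 h1]

theorem za_ne_one (za : JobZa) (h : S.Good) (a : S.μ →* ℂˣ) : S.za a ≠ fun _ => 1 := fun e => by
  have hb := big h
  by_cases ha : a = 1
  · have h1 := (za S h).2.2.1
    rw [ω, ← ha, e] at h1
    have : S.q ^ S.n = 2 * S.q + 1 := by exact_mod_cast (by linear_combination -h1 : (S.q : ℂ) ^ S.n = 2 * S.q + 1)
    omega
  · have h1 := (za S h).2.2.2.1 a ha
    rw [e] at h1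
    have : S.q ^ S.n = S.q := by exact_mod_cast (by linear_combination -h1 : (S.q : ℂ) ^ S.n = S.q)
    omega

/-- The irreducible characters with the Weil property. -/
theorem classify (za : JobZa) (wz : JobWZ) (bd : JobBd) (p3 : JobP3) (s3 : JobS3) (h : S.Good) {e : S.V}
    (he : S.Iso e) {χ : S.G → ℂ} (hχ : IsIrrCharacter _ χ) (hW : S.W χ) :
    χ = (fun _ => 1) ∨ (∃ a, χ = S.za a) ∨ (S.n = 3 ∧ av (S.Zs e) χ = 0) := by
  classical
  have := Fintype.ofFinite (S.μ →* ℂˣ)
  have hc : (Finset.univ.image S.za).card = S.q + 1 := by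
    rw [Finset.card_image_of_injective _ (za S h).2.1, Finset.card_univ, Fintype.card_eq_nat_card, S.card_dual]
  by_contra! H
  have hn : χ ∉ Finset.univ.image S.za := by simpa using fun a e => H.2.1 a e.symm
  rcases h.2.1.eq_or_lt with h3 | h4
  · have hq := S.two_le_q
    have := p3 S e h3.symm he (insert χ (insert (fun _ => 1) ((Finset.univ.image S.za).erase S.ω))) fun θ hθ => by
      simp only [Finset.mem_insert, Finset.mem_erase, Finset.mem_image, Finset.mem_univ, true_and] at hθ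
      rcases hθ with rfl | rfl | ⟨h1, a, rfl⟩
      · exact ⟨hχ, hW, hW e he ▸ H.2.2 h3.symm⟩
      · have : ∀ K : Subgroup S.G, av K (fun _ => 1) = 1 := fun K => by
          have := Fintype.ofFinite K
          rw [av, finsum_eq_sum_of_fintype]
          simp
        exact ⟨isIrrCharacter_one, fun _ _ => by rw [this, this], by simp [this]⟩
      · refine ⟨(za S h).1 a, wz S h a, wz S h a e he ▸ fun h0 => ?_⟩
        obtain ⟨ξ, hξ, -, h2⟩ := s3 S e h h3.symm he _ ((za S h).1 a).isCharacter h0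
        obtain ⟨d, hd⟩ := hξ.exists_degree
        have h4 := (za S h).2.2.2.1 a fun e => h1 (e ▸ rfl)
        have h5 := (za S h).2.2.1
        have h6 : S.za a 1 = S.ω 1 * d := hd ▸ h2 1
        rw [h6, mul_right_comm, h5, ← h3] at h4
        have : S.q ^ 3 * d = S.q * (S.q ^ 2 + d) + 1 := by
          exact_mod_cast (by linear_combination h4 : (S.q : ℂ) ^ 3 * d = S.q * (S.q ^ 2 + d) + 1)
        have h8 : S.q ∣ 1 := (Nat.dvd_add_right (Dvd.intro _ rfl)).1 (this ▸ Dvd.dvd.mul_right (dvd_pow_self _ (by omega)) _)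
        have := Nat.le_of_dvd one_pos h8
        omega
    rw [Finset.card_insert_of_notMem (by simp [H.1, hn]), Finset.card_insert_of_notMem
      (by simpa using fun _ a => za_ne_one za h a), Finset.card_erase_of_mem (by simp), hc] at this
    omega
  · have := bd S h h4 (insert χ (Finset.univ.image S.za)) fun θ hθ => by
      simp only [Finset.mem_insert, Finset.mem_image, Finset.mem_univ, true_and] at hθ
      rcases hθ with rfl | ⟨a, rfl⟩
      exacts [⟨hχ, hW, H.1⟩, ⟨(za S h).1 a, wz S h a, za_ne_one za h a⟩]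
    rw [Finset.card_insert_of_notMem hn, hc] at this
    omega

end HS

open HS in
theorem main (za : JobZa) (wz : JobWZ) (A : JobA) (irr : JobIrr) (nw : JobNW) (bd : JobBd) (p3 : JobP3)
    (s3 : JobS3) (d3 : JobD3) (e3 : JobE3) (S : HS) (h : S.Good) {χ : S.G → ℂ} (hχ : IsIrrCharacter _ χ) :
    (Fx χ ↔ χ ≠ S.ω) ∧ (χ 1 = ((S.q ^ S.n - S.q) / (S.q + 1) : ℕ) ↔ χ = S.ω) := by
  obtain ⟨e, he⟩ := exists_iso (S := S) (by have := h.2.1; omega)
  refine ⟨⟨fun h1 h2 => not_fx A h (h2 ▸ h1), fun h1 => ?_⟩, fun h1 => ?_, fun h1 => h1 ▸ deg_ω za h⟩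
  · by_cases hW : S.W χ
    · rcases classify za wz bd p3 s3 h he hχ hW with rfl | ⟨a, rfl⟩ | ⟨h3, h0⟩
      · exact fx_one
      · exact cox irr za h fun e => h1 (e ▸ rfl)
      · obtain ⟨ξ, hξ, h4, h5⟩ := s3 S e h h3 he χ hχ.isCharacter h0
        exact (d3 S e h h3 he χ ξ hχ.isCharacter hξ h4 h5).2.resolve_right fun h6 => h1 (e3 S e h h3 he χ _ hχ h6)
    · exact (nw S h χ hχ hW).1
  · have h2 := (deg_eq_iff za h).1 h1
    have hb := big h
    by_cases hW : S.W χ
    · rcases classify za wz bd p3 s3 h he hχ hW with rfl | ⟨a, rfl⟩ | ⟨h3, h0⟩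
      · have : S.q ^ S.n = 2 * S.q + 1 := by
          exact_mod_cast (by linear_combination -h2 : (S.q : ℂ) ^ S.n = 2 * S.q + 1)
        omega
      · by_contra h3
        rw [(za S h).2.2.2.1 a fun e => h3 (e ▸ rfl)] at h2
        exact S.q_add_one_ne (by linear_combination h2)
      · obtain ⟨ξ, hξ, h4, h5⟩ := s3 S e h h3 he χ hχ.isCharacter h0
        have h6 : ξ 1 = 1 := by
          have h7 : χ 1 = S.ω 1 * ξ 1 := h5 1
          rw [h1, ← deg_ω za h] at h7
          exact (mul_eq_left₀ ((za S h).1 1).apply_one_ne_zero).1 h7.symm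
        exact e3 S e h h3 he χ 1 hχ fun p hp => by
          rw [one_mul, (d3 S e h h3 he χ ξ hχ.isCharacter hξ h4 h5).1 h6 p hp]
    · have h3 := (nw S h χ hχ hW).2 _ h1
      have h4 : S.q ^ S.n = S.q ^ (S.n - 1) * S.q := by rw [← pow_succ]; congr 1; have := h.2.1; omega
      have h5 := Nat.div_mul_le_self (S.q ^ S.n - S.q) (S.q + 1)
      have h6 := Nat.mul_le_mul_right (S.q + 1) h3.le
      rw [mul_add, ← h4] at h6
      have := pow_pos (by have := S.two_le_q; omega : 0 < S.q) (S.n - 1)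
      omega

/-- The statement, from the classification on `SU`. -/
theorem asm (za : JobZa) (wz : JobWZ) (A : JobA) (irr : JobIrr) (nw : JobNW) (bd : JobBd) (p3 : JobP3)
    (s3 : JobS3) (d3 : JobD3) (e3 : JobE3) {G : Type*} [Group G] [Fintype G] (n q : ℕ) (F : Type*) [Field F]
    [Fintype F] (hF : Fintype.card F = q ^ 2) (hn : 3 ≤ n) (hcop : Nat.Coprime n (2 * (q + 1)))
    (hG : Nonempty (G ≃* PSU n F q)) :
    Nat.card {χ : IrrCharacter G // charDegree (χ : G → ℂ) = (q ^ n - q) / (q + 1)} = 1 ∧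
    ∀ χ : IrrCharacter G, classInner (χ : G → ℂ)
      (fun g : G => (Nat.card (Subgroup.centralizer ({g} : Set G)) : ℂ)) ≠ 0 ↔
        charDegree (χ : G → ℂ) ≠ (q ^ n - q) / (q + 1) := by
  classical
  obtain ⟨φ⟩ := hG
  let K := Shrink.{0} F
  have : Fintype K := Fintype.ofFinite K
  have hK : Fintype.card K = q ^ 2 := (Fintype.card_congr (equivShrink.{0} F).symm).trans hF
  let S : HS := ⟨K, q, hK, Fin n → K, uForm hK n, isHerm_uForm hK n⟩
  have hS : S.n = n := Module.finrank_fin_fun K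
  have hg : S.Good := by
    rw [HS.Good, hS]
    exact ⟨Nat.coprime_two_right.1 (Nat.Coprime.coprime_mul_right_right hcop), hn,
      Nat.Coprime.coprime_mul_left_right hcop⟩
  have hz : Subgroup.center S.G = ⊥ :=
    Subgroup.card_eq_one.1 ((IsHerm.card_center_sisom S.hF S.h (le_of_lt hg.2.1)).trans hg.2.2)
  let ψ : S.G ≃* G := (((φ.trans (H55.psuCongr (Shrink.ringEquiv.{0} F).symm n q)).trans (psuEquiv hK n)).trans
    ((QuotientGroup.quotientMulEquivOfEq hz).trans QuotientGroup.quotientBot)).symm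
  have := Fintype.ofFinite S.G
  have M := fun χ : IrrCharacter G => main za wz A irr nw bd p3 s3 d3 e3 S hg (χ.2.comp_mulEquiv ψ)
  have D : ∀ χ : IrrCharacter G, charDegree (χ : G → ℂ) = (q ^ n - q) / (q + 1) ↔ (fun x => χ.1 (ψ x)) = S.ω :=
    fun χ => by
      obtain ⟨d, hd⟩ := χ.2.isCharacter.exists_degree
      rw [← (M χ).2, map_one, hS, charDegree, hd]
      simp only [Complex.natCast_re, Nat.floor_natCast, Nat.cast_inj]
      rfl
  refine ⟨Nat.card_eq_one_iff_exists.2 ⟨⟨⟨_, ((za S hg).1 1).comp_mulEquiv ψ.symm⟩, (D _).2 (by simp)⟩,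
    fun χ => Subtype.ext (Subtype.ext (funext fun x => ?_))⟩, fun χ => ?_⟩
  · simpa using congrFun ((D _).1 χ.2) (ψ.symm x)
  · rw [Ne, Ne, D, ← Ne, ← Ne, ← (M χ).1, ← cc (χ.2.comp_mulEquiv ψ).isCharacter, classInner, classInner,
      Nat.card_congr ψ.toEquiv, ← ψ.toEquiv.sum_comp]
    have : ∀ g : S.G, Nat.card (Subgroup.centralizer ({ψ g} : Set G)) =
        Nat.card (Subgroup.centralizer ({g} : Set S.G)) := fun g =>
      (Nat.card_congr (H55.subCongr ψ _ _ fun x => by
        simp only [Subgroup.mem_centralizer_singleton_iff, ← map_mul, ψ.injective.eq_iff]).toEquiv).symm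
    simp only [← this]
    rfl

end H53.WU
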