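/- Tower WU (S4793): jobs Gs and A. -/
import Cfsg.Agent.H53.WUKit

set_option autoImplicit false

namespace H53.WU

open Cfsg H28 H59 Module

section

variable {F : Type} [Field F] [Fintype F] {q : ℕ} (hF : Fintype.card F = q ^ 2)

theorem gauss1 (ψ : AddChar F ℂ) (hψ : ∃ c, c + frob hF c = 0 ∧ ψ c ≠ 1) {t : F} (ht0 : t ≠ 0)
    (ht : t + frob hF t = 0) : ∑ a : F, ψ (frob hF a * a * t) = -q := by
  classical
  obtain ⟨c, hc, hc1⟩ := hψ
  have e0 : ∑ k : F, (if frob hF k = k then ψ (k * t) else 0) = 0 := by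
    have hk : frob hF (c / t) = c / t := by
      rw [map_div₀, eq_neg_of_add_eq_zero_right hc, eq_neg_of_add_eq_zero_right ht, neg_div_neg_eq]
    have := Equiv.sum_comp (Equiv.addRight (c / t)) fun k => if frob hF k = k then ψ (k * t) else 0
    simp only [Equiv.coe_addRight, map_add, hk, add_left_inj, add_mul, div_mul_cancel₀ _ ht0,
      AddChar.map_add_eq_mul] at this
    refine (mul_eq_zero.1 (?_ : _ * (ψ c - 1) = 0)).resolve_right (sub_ne_zero.2 hc1)
    rw [mul_sub, mul_one, Finset.sum_mul, sub_eq_zero, ← this]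
    exact Finset.sum_congr rfl fun k _ => by split_ifs <;> simp
  rw [← Finset.sum_fiberwise Finset.univ fun a : F => a ^ (q + 1)]
  have e1 : ∀ k : F, ∑ a with a ^ (q + 1) = k, ψ (frob hF a * a * t) =
      (q + 1) * (if frob hF k = k then ψ (k * t) else 0) - if k = 0 then (q : ℂ) else 0 := fun k => by
    rw [Finset.sum_congr rfl fun a ha => show ψ (frob hF a * a * t) = ψ (k * t) by
      rw [← (Finset.mem_filter.1 ha).2, frob_apply, pow_succ], Finset.sum_const, ← Fintype.card_subtype,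
      Fintype.card_eq_nat_card]
    by_cases h0 : k = 0
    · subst h0
      simp
    · by_cases h1 : frob hF k = k
      · rw [card_norm_eq hF h0 h1]
        simp [h0, h1]
      · have : IsEmpty {a : F // a ^ (q + 1) = k} := ⟨fun a => h1 (a.2 ▸ norm_fixed hF a.1)⟩
        simp [h0, h1]
  simp only [e1, Finset.sum_sub_distrib, ← Finset.mul_sum, e0]
  simp

end

theorem jobGs : JobGs := by
  intro F _ _ q hF U _ _ _ C ψ hC hψ
  induction hn : finrank F U using Nat.strong_induction_on generalizing U with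
  | _ n ih =>
  have := Fintype.ofFinite U
  by_cases h0 : ∀ x, C x x = 0
  · refine ⟨2 * finrank F U, ?_⟩
    simp only [h0, AddChar.map_zero_eq_one, finsum_eq_sum_of_fintype, Finset.sum_const, Finset.card_univ,
      Module.card_eq_pow_finrank (K := F) (V := U), hF, pow_mul]
    simp
  obtain ⟨p, hp⟩ := not_forall.1 h0
  have sk : ∀ x y, C x y = 0 → C y x = 0 := fun x y h => by
    obtain ⟨a, ha⟩ := exists_not_fixed (frob_ne_id hF)
    have h1 := hC (x + y)
    have h2 := hC (x + a • y)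
    have h3 := hC (a • y)
    simp only [map_add, LinearMap.add_apply, form_smul_left, form_smul_right, h, map_mul, frob_frob,
      map_zero] at h1 h2 h3
    refine (mul_eq_zero.1 (?_ : (frob hF a - a) * _ = 0)).resolve_left (sub_ne_zero.2 ha)
    linear_combination h2 - h3 - hC x - a * (h1 - hC x - hC y)
  let W := LinearMap.ker (C p)
  have := Fintype.ofFinite W
  obtain ⟨m, hm⟩ := ih _ (hn ▸ Submodule.finrank_lt (s := W) fun e => hp (e.ge Submodule.mem_top)) W
    (C.domRestrict₁₂ W W) (fun x => hC x) rfl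
  have hb : Function.Bijective fun x : F × W => x.1 • p + x.2.1 := by
    refine ⟨fun x y e => ?_, fun v => ⟨(C p v / C p p, ⟨v - (C p v / C p p) • p, ?_⟩), by simp⟩⟩
    · have e1 := congrArg (C p) e
      simp only [map_add, map_smul, LinearMap.mem_ker.1 x.2.2, LinearMap.mem_ker.1 y.2.2, add_zero, smul_eq_mul,
        mul_left_inj' hp] at e1
      simp only [e1, add_right_inj] at e
      exact Prod.ext e1 (Subtype.ext e)
    · simp [W, div_mul_cancel₀ _ hp]
  refine ⟨m + 1, ?_⟩
  rw [finsum_eq_sum_of_fintype] at hm ⊢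
  rw [← hb.sum_comp, Fintype.sum_prod_type, pow_succ', ← hm, ← gauss1 hF ψ hψ hp (hC p), Finset.sum_mul_sum]
  refine Finset.sum_congr rfl fun a _ => Finset.sum_congr rfl fun w _ => ?_
  have h1 : C p w = 0 := w.2
  rw [← AddChar.map_add_eq_mul]
  simp [h1, sk _ _ h1, mul_assoc, mul_left_comm, LinearMap.domRestrict₁₂_apply]

namespace HS

variable {S : HS}

theorem zt_ext {W : Submodule S.F S.V} (hW : Disjoint W (perp S.B W))
    (x : isom (S.B.domRestrict₁₂ (perp S.B W) (perp S.B W))) : S.zt (S.h.extPerp hW x).1 =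
      (S.q : ℂ) ^ finrank S.F W * (S.sub _ (S.h.disjoint_perp_perp hW)).zt x.1 := by
  have hc := S.h.isCompl_perp hW
  let K : Submodule S.F (perp S.B W) := LinearMap.ker ((x.1 : End S.F (perp S.B W)) - 1)
  have e1 : LinearMap.ker (((S.h.extPerp hW x).1 : End S.F S.V) - 1) = W ⊔ K.map (perp S.B W).subtype := by
    ext v
    obtain ⟨a, b, rfl⟩ := exists_add_eq_of_isCompl hc v
    have e2 : (S.h.extPerp hW x).1 (a + b : S.V) = a + (x.1 b).1 := sumHom_apply_add hc _ a b
    rw [LinearMap.mem_ker, LinearMap.sub_apply, LinearEquiv.coe_coe, e2, End.one_apply, add_sub_add_left_eq_sub]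
    refine ⟨fun h => add_mem (Submodule.mem_sup_left a.2) (Submodule.mem_sup_right ⟨b, Subtype.ext h, rfl⟩),
      fun h => ?_⟩
    obtain ⟨c, hc', _, ⟨d, hd, rfl⟩, e⟩ := Submodule.mem_sup.1 h
    have : b = d := Subtype.ext (sub_eq_zero.1 (Submodule.disjoint_def.1 hW _
      (by rw [show b.1 - d.1 = c - a.1 from by rw [sub_eq_sub_iff_add_eq_add, add_comm, ← e]; rfl]
          exact sub_mem hc' a.2) (sub_mem b.2 d.2)))
    exact congrArg Subtype.val (this ▸ hd : b ∈ K)
  have e3 := Submodule.finrank_sup_add_finrank_inf_eq W (K.map (perp S.B W).subtype)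
  rw [(hW.mono_right (Submodule.map_subtype_le _ K)).eq_bot, finrank_bot, Submodule.finrank_map_subtype_eq,
    add_zero] at e3
  rw [zt, e1, e3, n, ← S.h.finrank_add_finrank_perp W, pow_add, pow_add, mul_mul_mul_comm, ← mul_pow]
  simp only [neg_mul_neg, one_mul]
  rfl

end HS

open HS in
theorem jobA (z : JobZ) (a2 : JobA2) : JobA := by
  intro S hS g
  induction hn : S.n using Nat.strong_induction_on generalizing S with
  | _ n ih =>
  suffices ∃ C ≤ Subgroup.centralizer ({g} : Set S.Γ), ∑ᶠ x : C, S.zt x.1.1 = 0 by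
    obtain ⟨C, hC, h0⟩ := this
    exact av_eq_zero.1 (av_mono (z S) hC (av_eq_zero.2 h0))
  by_cases hU : ∀ U : Submodule S.F S.V, (∀ v ∈ U, g.1 v ∈ U) → Disjoint U (perp S.B U) → U = ⊥ ∨ U = ⊤
  · exact a2 S hS g hU
  obtain ⟨W, h1, hW, h2, h3⟩ : ∃ W : Submodule S.F S.V, (∀ v ∈ W, g.1 v ∈ W) ∧ Disjoint W (perp S.B W) ∧ W ≠ ⊥ ∧
      Odd (finrank S.F (perp S.B W)) := by
    push Not at hU
    obtain ⟨U, h1, h2, h3, h4⟩ := hU
    by_cases h : Odd (finrank S.F (perp S.B U))
    · exact ⟨U, h1, h2, h3, h⟩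
    · refine ⟨_, isom_mapsTo_perp g.2 h1, S.h.disjoint_perp_perp h2, fun e => h4 ?_, ?_⟩
      · simpa [e] using (S.h.isCompl_perp h2).sup_eq_top
      · rw [S.h.perp_perp]
        rw [HS.n, ← S.h.finrank_add_finrank_perp U] at hS
        exact (Nat.odd_add.1 hS).2 (Nat.not_odd_iff_even.1 h)
  have hc := S.h.isCompl_perp hW
  have hg := sumHom_restr hc g.1 h1 (isom_mapsTo_perp g.2 h1)
  let S' := S.sub _ (S.h.disjoint_perp_perp hW)
  let g' : isom (S.B.domRestrict₁₂ (perp S.B W) (perp S.B W)) := ⟨restr g.1 (isom_mapsTo_perp g.2 h1), fun x y => g.2 x.1 y.1⟩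
  have h0 : ∑ᶠ x : Subgroup.centralizer {g'}, S'.zt x.1.1 = 0 := ih S'.n (by
    have := Submodule.finrank_eq_zero.not.2 h2
    have h4 : _ = n := (S.h.finrank_add_finrank_perp W).trans hn
    change finrank S.F (perp S.B W) < _
    omega) S' h3 g' rfl
  refine ⟨(Subgroup.centralizer {g'}).map (S.h.extPerp hW), ?_, ?_⟩
  · rintro _ ⟨x, hx, rfl⟩
    refine Subgroup.mem_centralizer_singleton_iff.2 (Subtype.ext ?_)
    rw [Subgroup.coe_mul, Subgroup.coe_mul, ← hg, IsHerm.coe_extPerp, ← map_mul, ← map_mul]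
    exact congrArg _ (Prod.ext (by simp) (congrArg Subtype.val (Subgroup.mem_centralizer_singleton_iff.1 hx)))
  · have : Finite (perp S.B W ≃ₗ[S.F] perp S.B W) := finite_linearEquiv
    have := Fintype.ofFinite (Subgroup.centralizer {g'})
    rw [← finsum_comp_equiv (Subgroup.equivMapOfInjective _ _ (S.h.extPerp_injective hW)).toEquiv]
    rw [finsum_eq_sum_of_fintype] at h0 ⊢
    exact (Finset.sum_congr rfl fun x _ => zt_ext hW x.1).trans (by rw [← Finset.mul_sum, h0, mul_zero])

end H53.WU
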