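/- Tower WU (S4793): jobs Irr and GE. -/
import Cfsg.Agent.H53.WUKit

set_option autoImplicit false

namespace H53.WU

open Cfsg H28 H59 Module

theorem jobIrr : JobIrr := by
  intro S hn
  obtain ⟨p, k, hp, hc, -⟩ := exists_char_pow S.hF
  have := Fact.mk hp
  have : NeZero S.n := ⟨hn.pos.ne'⟩
  let K := FiniteField.Extension S.F p S.n
  have := Fintype.ofFinite K
  have hq := S.two_le_q
  have hK : Fintype.card K = (S.q ^ S.n) ^ 2 := by
    rw [Fintype.card_eq_nat_card, FiniteField.natCard_extension, Nat.card_eq_fintype_card, S.hF, ← pow_mul, ← pow_mul,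
      mul_comm]
  have hd : finrank S.F K = S.n := FiniteField.finrank_extension S.F p S.n
  have c1 : ∀ a : S.F, frob hK (algebraMap S.F K a) = algebraMap S.F K (frob S.hF a) := fun a => by
    obtain ⟨m, hm⟩ := hn
    rw [frob_apply, ← map_pow, show S.q ^ S.n = Fintype.card S.F ^ m * S.q by rw [S.hF, ← pow_mul, ← pow_succ, ← hm],
      pow_mul, FiniteField.pow_card_pow, frob_apply]
  have c2 : ∀ z : K, frob S.hF (Algebra.trace S.F K z) = Algebra.trace S.F K (frob hK z) := fun z => by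
    rw [Algebra.trace_eq_of_equiv_equiv (RingEquiv.ofBijective _ (conj_bijective (frob_frob S.hF)))
      (RingEquiv.ofBijective _ (conj_bijective (frob_frob hK))) (RingHom.ext fun a => (c1 a).symm) z]
    exact (RingEquiv.ofBijective _ (conj_bijective (frob_frob S.hF))).apply_symm_apply _
  let C : K →ₛₗ[frob S.hF] K →ₗ[S.F] S.F := LinearMap.mk₂'ₛₗ _ (RingHom.id _)
    (fun x y => Algebra.trace S.F K (frob hK x * y)) (fun a b v => by simp [add_mul])
    (fun c a v => by rw [Algebra.smul_def, map_mul (frob hK), c1, mul_assoc, ← Algebra.smul_def, map_smul])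
    (fun a b v => by simp [mul_add]) (fun c a v => by simp)
  have hC : IsHerm C := ⟨S.h.ne_id, S.h.invol, fun x y => (c2 _).trans (by rw [map_mul, frob_frob, mul_comm]; rfl),
    fun x h => (map_eq_zero _).1 ((traceForm_nondegenerate S.F K).1 (frob hK x) h)⟩
  obtain ⟨e, he⟩ := hC.exists_isometry S.h hd
  obtain ⟨ζ, hζ⟩ := IsCyclic.exists_ofOrder_eq_natCard (α := normOne K (S.q ^ S.n))
  rw [card_normOne hK, ← Subgroup.orderOf_coe] at hζ
  let m : Kˣ →* (K ≃ₗ[S.F] K) := DistribMulAction.toModuleAut S.F K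
  have hm : Function.Injective m := fun a b h => Units.ext (by simpa [m, Units.smul_def] using LinearEquiv.congr_fun h 1)
  have top : Algebra.adjoin S.F {(ζ.1 : K)} = ⊤ := by
    let L := IntermediateField.adjoin S.F {(ζ.1 : K)}
    have := Fintype.ofFinite L
    have h1 : finrank S.F L * finrank L K = S.n := (finrank_mul_finrank S.F L K).trans hd
    have h2 : S.q ^ S.n + 1 ∣ (S.q ^ 2) ^ finrank S.F L - 1 := by
      rw [← hζ, ← S.hF, ← card_eq_pow_finrank, orderOf_dvd_iff_pow_eq_one]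
      have := FiniteField.pow_card_sub_one_eq_one (⟨_, IntermediateField.mem_adjoin_simple_self S.F (ζ.1 : K)⟩ : L)
        fun h => ζ.1.ne_zero (congrArg Subtype.val h)
      exact Units.ext (by simpa using congrArg Subtype.val this)
    have h3 := Nat.le_of_dvd (Nat.sub_pos_of_lt (Nat.one_lt_pow finrank_pos.ne' (by nlinarith))) h2
    have h4 : S.n < 2 * finrank S.F L := (Nat.pow_lt_pow_iff_right hq).1 (by rw [pow_mul]; omega)
    have h5 : finrank L K = 1 := by
      have : 0 < finrank L K := finrank_pos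
      nlinarith
    rw [← IntermediateField.adjoin_simple_toSubalgebra_of_isAlgebraic (Algebra.IsAlgebraic.isAlgebraic _),
      ← IntermediateField.top_toSubalgebra]
    exact congrArg _ (IntermediateField.finrank_eq_one_iff_eq_top.1 h5)
  refine ⟨⟨linConj e (m ζ.1), (mem_isom_linConj e he _).1 fun x y => ?_⟩, ?_, fun x hx => ?_⟩
  · change Algebra.trace S.F K (frob hK (ζ.1 * x) * (ζ.1 * y)) = Algebra.trace S.F K _
    rw [map_mul (frob hK), mul_mul_mul_comm, (mem_normOne' hK).1 ζ.2, one_mul]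
  · rw [Subgroup.orderOf_mk, MulEquiv.orderOf_eq, orderOf_injective m hm, hζ]
  · have h1 : ∀ a ∈ Algebra.adjoin S.F {(ζ.1 : K)}, ∀ b, e.symm (x (e (a * b))) = a * e.symm (x (e b)) := by
      intro a ha
      induction ha using Algebra.adjoin_induction with
      | mem a ha => exact fun b => e.symm_apply_eq.2 (by simpa [linConj_apply, m, ha.trans rfl, Units.smul_def] using LinearMap.congr_fun hx (e b))
      | algebraMap r => simp [← Algebra.smul_def]
      | add a b _ _ ha hb => simp [add_mul, ha, hb]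
      | mul a b _ _ ha hb => simp [mul_assoc, ha, hb]
    have h2 : ∀ v, e.symm (x v) = e.symm v * e.symm (x (e 1)) := fun v => by
      simpa using h1 (e.symm v) (top.ge Algebra.mem_top) 1
    by_cases h3 : e.symm (x (e 1)) = 0
    · exact Or.inl (LinearMap.ext fun v => by simpa [h3] using h2 v)
    · exact Or.inr ((LinearMap.isUnit_iff_ker_eq_bot _).2 (LinearMap.ker_eq_bot'.2 fun v hv => by
        simpa [hv, h3] using h2 v))

section

variable {F V : Type} [Field F] [Fintype F] [AddCommGroup V] [Module F V] [FiniteDimensional F V] {q : ℕ}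
  {hF : Fintype.card F = q ^ 2} {B : V →ₛₗ[frob hF] V →ₗ[F] F}

/-- Levi decomposition of the stabiliser of an isotropic vector. -/
theorem stab_eq {e f : V} (H : IsHyp B e f) {g : V ≃ₗ[F] V} (hg : g ∈ sisom B) (he : g e = e) :
    ∃ u ∈ unipRad B e, ∃ k : isom (hypForm B e f), k.1 ∈ sisom (hypForm B e f) ∧
      g = u * (H.herm.extPerp (H.herm.disjoint_span_hyp H.ee (H.ef ▸ one_ne_zero)) k).1 := by
  obtain ⟨u, h1, h2, h3⟩ := H.herm.exists_unipRad_map H.ee H.ff H.ef (y := g f) (by rw [hg.1, H.ff])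
    (by rw [← H.ef, ← hg.1 e f, he])
  have h4 := mul_mem (inv_mem h1) hg
  obtain ⟨k, hk⟩ := (H.herm.mem_range_extPerp (H.herm.disjoint_span_hyp H.ee (H.ef ▸ one_ne_zero)) ⟨_, h4.1⟩).2
    fun x hx => by
      obtain ⟨a, b, rfl⟩ := Submodule.mem_span_pair.1 hx
      exact u.symm_apply_eq.2 (by simp [he, h2.2.1, h3])
  exact ⟨u, h2, k, mem_sisom.2 ⟨k.2, (H.herm.det_extPerp _ k).symm.trans (by rw [hk]; exact h4.2)⟩, by simp [hk]⟩

/-- The unipotent radicals generate `SU`. -/
theorem sisom_le (h : IsHerm B) {D : Subgroup (V ≃ₗ[F] V)} (hD : ∀ y, y ≠ 0 → B y y = 0 → unipRad B y ≤ D) :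
    sisom B ≤ D := by
  by_cases h3 : finrank F V = 3
  swap
  · rw [← h.tgrp_eq_sisom' hF fun a => h3 a.1]
    refine (Subgroup.closure_le _).2 fun t ⟨p, hp, ht⟩ => ?_
    by_cases hp0 : p = 0
    · obtain ⟨-, c, hc⟩ := ht
      rw [show t = 1 from LinearEquiv.ext fun x => by simp [hc, hp0]]
      exact one_mem D
    · exact hD p hp0 hp (axisGrp_le_unipRad hp ht)
  have t1 : ∀ y z, B y y = 0 → B z z = 0 → B y z ≠ 0 → ∃ d ∈ D ⊓ sisom B, d y = z := fun y z hy hz hb => by
    obtain ⟨w, hw, hw0⟩ := h.exists_self_ne_zero_perp (h.disjoint_span_hyp hy hb)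
      (by rw [h.finrank_span_hyp hy hb]; omega)
    obtain ⟨a, ha⟩ := h.exists_smul_norm_eq hw0 (c := -((B y z)⁻¹ + (B z y)⁻¹))
      (by rw [map_neg, map_add, map_inv₀, map_inv₀, h.symm, h.symm, add_comm])
    obtain ⟨w1, w2⟩ := mem_perp_pair.1 (Submodule.smul_mem _ a hw)
    have hb' : B z y ≠ 0 := mt h.eq_zero_comm.1 hb
    have x1 : B ((B z y)⁻¹ • y + (B y z)⁻¹ • z + a • w) y = 1 := by
      simp only [map_add, LinearMap.add_apply, h.eq_zero_comm.1 w1]
      simp [hy, h.symm, hb']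
    have x2 : B ((B z y)⁻¹ • y + (B y z)⁻¹ • z + a • w) z = 1 := by
      simp only [map_add, LinearMap.add_apply, h.eq_zero_comm.1 w2]
      simp [hz, h.symm, hb]
    have x3 : B ((B z y)⁻¹ • y + (B y z)⁻¹ • z + a • w) ((B z y)⁻¹ • y + (B y z)⁻¹ • z + a • w) = 0 := by
      rw [map_add, map_add, form_smul_right, form_smul_right, x1, x2, map_add, map_add, LinearMap.add_apply,
        LinearMap.add_apply, ha, form_smul_left, form_smul_left, w1, w2]
      ring
    obtain ⟨d, h1, h2, h4⟩ := h.exists_unipRad_map x3 hy x1 hz x2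
    exact ⟨d, ⟨hD _ (fun e => by simp [e] at x1) x3 h2, h1⟩, h4⟩
  intro g hg
  obtain ⟨y, -, y0, hy⟩ := h.exists_isotropic_mem (W := ⊤) (by simp [h3])
  obtain ⟨d, hd, e⟩ : ∃ d ∈ D ⊓ sisom B, d y = g y := by
    have hz : B (g y) (g y) = 0 := by rw [hg.1, hy]
    by_cases hb : B y (g y) = 0
    · obtain ⟨c, c1, c2⟩ := h.exists_ne_zero_ne_zero y0 (g.map_ne_zero_iff.2 y0)
      obtain ⟨z, z1, z2, a, b, rfl⟩ := h.exists_isotropic_partner hy c1
      have b0 : b ≠ 0 := fun e => by simp [e, hy] at z1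
      obtain ⟨d, h1, h2⟩ := t1 y _ hy z2 (z1 ▸ one_ne_zero)
      obtain ⟨d', h1', h2'⟩ := t1 _ _ z2 hz (mt h.eq_zero_comm.1 (by simp [h.eq_zero_comm.1 hb, b0, c2]))
      exact ⟨d' * d, mul_mem h1' h1, by rw [← h2', ← h2]; rfl⟩
    · exact t1 _ _ hy hz hb
  obtain ⟨f, f1, f2⟩ := h.exists_partner hy y0
  obtain ⟨u, hu, k, hk, e1⟩ := stab_eq ⟨h, hy, f2, f1⟩ (mul_mem (inv_mem hd.2) hg) (d.symm_apply_eq.2 e.symm)
  obtain ⟨c, hc, -⟩ := LinearMap.existsUnique_eq_smul_id_of_finrank_eq_one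
    (by have := h.finrank_hypPerp hy f1; omega) (k.1 : End F (hypPerp B y f))
  have h1 := det_of_scalar (g := k.1) (a := c) fun x => LinearMap.congr_fun hc x
  rw [(mem_sisom.1 hk).2, show finrank F (hypPerp B y f) = 1 by have := h.finrank_hypPerp hy f1; omega] at h1
  rw [show k = 1 from Subtype.ext (LinearEquiv.ext fun x => by
    simpa [show c = 1 by simpa using h1.symm] using LinearMap.congr_fun hc x), map_one] at e1
  rw [← mul_inv_cancel_left d g, e1]
  exact mul_mem hd.1 (mul_mem (hD y y0 hy hu) (one_mem D))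

end

theorem jobGE : JobGE := by
  intro S e he K hQ hK g hg
  obtain ⟨f, H⟩ := he.exists_hyp
  obtain ⟨u, hu, k, hk, e1⟩ := stab_eq H g.2 hg
  have hW := H.herm.disjoint_span_hyp H.ee (H.ef ▸ one_ne_zero)
  have hc := S.h.isCompl_perp hW
  have : k.1 ∈ (K.map S.G.subtype).comap ((sumHom hc).comp (MonoidHom.inr _ _)) := by
    refine sisom_le (S.h.restrict (S.h.disjoint_perp_perp hW)) (fun y y0 hy t ht => ?_) hk
    have h1 : ∀ (x : Submodule.span S.F {e, f}) (w : hypPerp S.B e f), sumHom hc (1, t) (x + w : S.V) = x + t w :=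
      sumHom_apply_add hc _
    have h2 : sumHom hc (1, t) ∈ unipRad S.B y := by
      refine ⟨(S.h.extPerp hW ⟨t, ht.1⟩).2, (sumHom_apply_right hc _ y).trans (congrArg _ ht.2.1), fun x hx => ?_⟩
      obtain ⟨a, w, rfl⟩ := exists_add_eq_of_isCompl hc x
      obtain ⟨c, h3⟩ := ht.2.2 w (by simpa [S.h.eq_zero_comm.1 (y.2 a a.2), LinearMap.domRestrict₁₂_apply] using hx)
      exact ⟨c, by rw [h1, h3, add_assoc]; rfl⟩
    have hy' : S.Iso y.1 := ⟨fun e => y0 (Subtype.ext e), hy⟩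
    exact ⟨⟨_, S.h.unipRad_le_sisom hy'.1 hy h2⟩, hK y hy' (IsHyp.ew y)
      ⟨h2, sumHom_apply_left hc _ ⟨e, Submodule.subset_span (by simp)⟩⟩, rfl⟩
  obtain ⟨x, hx, e2⟩ := this
  rw [show g = ⟨u, S.h.unipRad_le_sisom he.1 he.2 hu⟩ * x from Subtype.ext (e1.trans (congrArg _ e2.symm))]
  exact mul_mem (hQ hu) hx

end H53.WU
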