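import Cfsg.Agent.H53.Dsc

/-! Wall's classification of isometries of symmetric and alternating forms over finite fields of odd
order: similarity type and the discriminants `wd` of the forms on the multiplicity spaces of the
Jordan blocks for the eigenvalues `±1`. -/

set_option autoImplicit false

open Polynomial Module Matrix

namespace H53

open H56 (IsBasisMod SqCl sqcl sqcl_mul)
open H58 (gramB)
open H59 (perp mem_perp)

variable {F : Type*} [Field F] {ε c : F} {k : ℕ}
variable {V W : Type*} [AddCommGroup V] [Module F V] [AddCommGroup W] [Module F W]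
variable {ι : Type*} [Fintype ι] [DecidableEq ι]
variable {B : V →ₗ[F] V →ₗ[F] F} {B' : W →ₗ[F] W →ₗ[F] F} {f : End F V} {g : End F W}

/-- `f - c` -/
def nl (f : End F V) (c : F) : End F V := f - algebraMap F _ c

theorem nl_apply (v : V) : nl f c v = f v - c • v := rfl

theorem aeval_X_sub_C_pow (f : End F V) (c : F) (k : ℕ) : aeval f ((X - C c) ^ k) = nl f c ^ k := by
  simp [nl]

theorem intertwine_nl (e : V →ₗ[F] W) (he : ∀ v, e (f v) = g (e v)) (k : ℕ) (v : V) :
    e ((nl f c ^ k) v) = (nl g c ^ k) (e v) := by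
  rw [← aeval_X_sub_C_pow, ← aeval_X_sub_C_pow]
  exact intertwine_aeval e he _ v

theorem coe_nl_restrict {A : Submodule F V} (hA : ∀ v ∈ A, f v ∈ A) (k : ℕ) (v : A) :
    ((nl (f.restrict hA : End F A) c ^ k) v : V) = (nl f c ^ k) v :=
  intertwine_nl A.subtype (fun _ => rfl) k v

theorem nl_pow_mem {A : Submodule F V} (hA : ∀ v ∈ A, f v ∈ A) (k : ℕ) {v : V} (hv : v ∈ A) :
    (nl f c ^ k) v ∈ A := coe_nl_restrict hA k ⟨v, hv⟩ ▸ Subtype.prop _

theorem nl_pow_of_le {j : ℕ} {v : V} (hv : (nl f c ^ k) v = 0) (h : k ≤ j) : (nl f c ^ j) v = 0 :=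
  End.pow_map_zero_of_le h hv

/-- the form on the multiplicity space of the blocks of size `k + 1` -/
def tf (B : V →ₗ[F] V →ₗ[F] F) (f : End F V) (c : F) (k : ℕ) :
    LinearMap.ker (nl f c ^ (k + 1)) →ₗ[F] LinearMap.ker (nl f c ^ (k + 1)) →ₗ[F] F :=
  (B.compl₂ (nl f c ^ k)).domRestrict₁₂ _ _

theorem tf_apply (x y : LinearMap.ker (nl f c ^ (k + 1))) : tf B f c k x y = B x ((nl f c ^ k) y) := rfl

/-- the shift on `ι` Jordan strings -/
def sh (F ι : Type*) [Field F] (k : ℕ) : End F (ι × Fin (k + 1) → F) where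
  toFun m p := Fin.cases 0 (fun j => m (p.1, j.castSucc)) p.2
  map_add' a b := funext fun ⟨i, j⟩ => by cases j using Fin.cases <;> simp
  map_smul' a b := funext fun ⟨i, j⟩ => by cases j using Fin.cases <;> simp

/-- the model of `ι` Jordan blocks of size `k + 1` -/
def fM (ι : Type*) (k : ℕ) (c : F) : End F (ι × Fin (k + 1) → F) := sh F ι k + algebraMap F _ c

omit [Fintype ι] [DecidableEq ι] in
theorem exists_sh {m : ι × Fin (k + 1) → F} (h : ∀ i, m (i, 0) = 0) : ∃ m', sh F ι k m' = m :=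
  ⟨fun p => Fin.lastCases 0 (fun j => m (p.1, j.succ)) p.2, funext fun ⟨i, j⟩ => by
    cases j using Fin.cases <;> simp [sh, h]⟩

/-- the Jordan strings generated by `x` -/
def phi (f : End F V) (c : F) (k : ℕ) (x : ι → V) : (ι × Fin (k + 1) → F) →ₗ[F] V :=
  Fintype.linearCombination F fun p => (nl f c ^ p.2.1) (x p.1)

/-- the sign in the discriminant of a sum of Jordan blocks -/
def kap (F ι : Type*) [Field F] [Fintype ι] [DecidableEq ι] (k : ℕ) : F :=
  (Equiv.Perm.sign ((Equiv.refl ι).prodCongr (Fin.revPerm (n := k + 1))) : ℤ) *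
    ∏ j : Fin (k + 1), ((-1) ^ j.1) ^ Fintype.card ι

theorem kap_ne_zero : kap F ι k ≠ 0 :=
  mul_ne_zero (by
    rcases Int.units_eq_one_or (Equiv.Perm.sign ((Equiv.refl ι).prodCongr (Fin.revPerm (n := k + 1))))
      with h | h <;> simp [h])
    (Finset.prod_ne_zero_iff.2 fun _ _ => by simp)

variable {x : ι → V}

omit [DecidableEq ι] in
theorem phi_sh (hx : ∀ i, (nl f c ^ (k + 1)) (x i) = 0) (m : ι × Fin (k + 1) → F) :
    phi f c k x (sh F ι k m) = nl f c (phi f c k x m) := by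
  simp only [phi, Fintype.linearCombination_apply, map_sum, map_smul, Fintype.sum_prod_type,
    ← End.mul_apply, ← pow_succ']
  refine Finset.sum_congr rfl fun i _ => ?_
  rw [Fin.sum_univ_succ, Fin.sum_univ_castSucc]
  simp [sh, hx]

omit [DecidableEq ι] in
theorem phi_fM (hx : ∀ i, (nl f c ^ (k + 1)) (x i) = 0) (m : ι × Fin (k + 1) → F) :
    phi f c k x (fM ι k c m) = f (phi f c k x m) := by
  simp [fM, phi_sh hx, nl_apply]

omit [DecidableEq ι] in
theorem nl_pow_phi (hx : ∀ i, (nl f c ^ (k + 1)) (x i) = 0) (m : ι × Fin (k + 1) → F) :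
    (nl f c ^ (k + 1)) (phi f c k x m) = 0 := by
  simp only [phi, Fintype.linearCombination_apply, map_sum, map_smul, ← End.mul_apply, ← pow_add]
  exact Finset.sum_eq_zero fun p _ => by rw [nl_pow_of_le (hx _) (by omega), smul_zero]

theorem phi_single (p : ι × Fin (k + 1)) :
    phi f c k x (Pi.single p 1) = (nl f c ^ p.2.1) (x p.1) := by simp [phi]

variable [FiniteDimensional F V] [FiniteDimensional F W]

theorem exists_notMem_range (h : (X - C c) ^ (k + 1) ∈ ed f) :
    ∃ y, (nl f c ^ (k + 1)) y = 0 ∧ (nl f c ^ k) y ∉ LinearMap.range (nl f c ^ (k + 1)) := by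
  obtain ⟨d, h', ⟨e, he⟩, -⟩ := exists_sim_cyc_prodMap h
  have h0 : ∀ j v, e ((nl f c ^ j) v) = (AdjoinRoot.mk _ ((X - C c) ^ j) * (e v).1,
      aeval h' ((X - C c) ^ j) (e v).2) := fun j v => by
    have := intertwine_aeval e.toLinearMap he ((X - C c) ^ j) v
    rw [aeval_prodMap, aeval_X_sub_C_pow] at this
    rw [← aeval_cyc_apply]
    exact this
  refine ⟨e.symm (1, 0), e.injective ?_, fun ⟨v, hv⟩ => ?_⟩
  · rw [h0, AdjoinRoot.mk_self, LinearEquiv.apply_symm_apply, map_zero, map_zero, zero_mul]; rfl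
  · have := congrArg Prod.fst ((h0 _ v).symm.trans ((congrArg e hv).trans (h0 _ _)))
    simp only [AdjoinRoot.mk_self, zero_mul, LinearEquiv.apply_symm_apply, mul_one] at this
    have := natDegree_le_of_dvd (AdjoinRoot.mk_eq_zero.1 this.symm) (pow_ne_zero _ (X_sub_C_ne_zero c))
    simp at this

/-- Wall's invariant -/
noncomputable def wd (B : V →ₗ[F] V →ₗ[F] F) (f : End F V) (c : F) (k : ℕ) : SqCl F :=
  dsc (tf B f c k)

variable (hB : IsSF (σ := RingHom.id F) ε B) (hf : Inv B f) (hc : c * c = 1)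
include hB hf hc

theorem exists_nl_adj : ∃ h : End F V, IsUnit h ∧ Commute h (nl f c) ∧
    (∀ j, IsAdj (σ := RingHom.id F) B (nl f c ^ j) (h ^ j * nl f c ^ j)) ∧
      ∀ w, nl f c w = 0 → h w = -w := by
  obtain ⟨g, h1, h2, h3⟩ := hf.exists_inv hB
  have h4 : Commute ((-c) • g) (nl f c) :=
    ((show Commute g f from h2.trans h1.symm).sub_right (Algebra.commutes c g).symm).smul_left _
  refine ⟨(-c) • g, IsUnit.of_mul_eq_one ((-c) • f) (by simp [smul_smul, hc, h2]), h4,
    fun j => ?_, fun w hw => ?_⟩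
  · rw [← h4.mul_pow]
    refine IsAdj.pow (fun x y => ?_) j
    have h5 : g (f y) = y := LinearMap.congr_fun h2 y
    simp [nl_apply, h3 x y, h5, smul_sub, smul_smul, hc]
  · have h5 : g (f w) = w := LinearMap.congr_fun h2 w
    rw [sub_eq_zero.1 ((nl_apply w).symm.trans hw), map_smul] at h5
    rw [LinearMap.smul_apply, neg_smul, h5]

theorem nl_zero {j : ℕ} {y : V} (hy : (nl f c ^ j) y = 0) (x : V) : B ((nl f c ^ j) x) y = 0 := by
  obtain ⟨h, -, -, h1, -⟩ := exists_nl_adj hB hf hc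
  rw [h1, End.mul_apply, hy, map_zero, map_zero]

theorem nl_sign {j : ℕ} {y : V} (hy : (nl f c ^ (j + 1)) y = 0) (x : V) :
    B ((nl f c ^ j) x) y = (-1) ^ j * B x ((nl f c ^ j) y) := by
  obtain ⟨h, -, -, h1, h2⟩ := exists_nl_adj hB hf hc
  have h3 := h2 ((nl f c ^ j) y) (by rwa [← End.mul_apply, ← pow_succ'])
  have h4 : ∀ n, (h ^ n) ((nl f c ^ j) y) = (-1 : F) ^ n • (nl f c ^ j) y := fun n => by
    induction n with
    | zero => simp
    | succ n ih => rw [pow_succ, End.mul_apply, h3, map_neg, ih, pow_succ, mul_neg_one, neg_smul]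
  rw [h1, End.mul_apply, h4, map_smul, smul_eq_mul]

theorem perp_ker_nl (j : ℕ) : perp B (LinearMap.ker (nl f c ^ j)) = LinearMap.range (nl f c ^ j) := by
  obtain ⟨h, h0, h1, h2, -⟩ := exists_nl_adj hB hf hc
  rw [← (h2 j).range_eq hB, (h1.pow_pow j j).eq, End.mul_eq_comp, LinearMap.range_comp_of_range_eq_top _
    (LinearMap.range_eq_top.2 ((End.isUnit_iff _).1 (h0.pow j)).2)]

theorem tf_symm (x y : LinearMap.ker (nl f c ^ (k + 1))) :
    tf B f c k y x = ε * (-1) ^ k * tf B f c k x y := by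
  rw [tf_apply, hB.symm, RingHom.id_apply, nl_sign hB hf hc y.2, mul_assoc, tf_apply]

theorem tf_isRefl : (tf B f c k).IsRefl := fun x y h => by rw [tf_symm hB hf hc, h, mul_zero]

theorem mem_ker_tf (y : LinearMap.ker (nl f c ^ (k + 1))) : y ∈ LinearMap.ker (tf B f c k) ↔
    (nl f c ^ k) y ∈ LinearMap.range (nl f c ^ (k + 1)) := by
  rw [← perp_ker_nl hB hf hc, mem_perp]
  exact ⟨fun h x hx => tf_isRefl hB hf hc y ⟨x, hx⟩ (LinearMap.congr_fun h _),
    fun h => LinearMap.ext fun x => tf_isRefl hB hf hc x y (h _ x.2)⟩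

theorem gram_phi (hx : ∀ i, (nl f c ^ (k + 1)) (x i) = 0) :
    gramB B (fun p : ι × Fin (k + 1) => (nl f c ^ p.2.1) (x p.1)) =
      kap F ι k * gramB (B.compl₂ (nl f c ^ k)) x ^ (k + 1) := by
  let M : Matrix (ι × Fin (k + 1)) (ι × Fin (k + 1)) F :=
    of fun p q => B ((nl f c ^ p.2.1) (x p.1)) ((nl f c ^ q.2.rev.1) (x q.1))
  have h1 : M.BlockTriangular Prod.snd := fun p q h => nl_zero hB hf hc (by
    rw [← End.mul_apply, ← pow_add]
    exact nl_pow_of_le (hx _) (by rw [Fin.val_rev]; have := Fin.lt_def.1 h; omega)) _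
  have h2 : ∀ j, (M.toSquareBlock Prod.snd j).det =
      ((-1) ^ j.1) ^ Fintype.card ι * gramB (B.compl₂ (nl f c ^ k)) x := fun j => by
    let e : ι ≃ {p : ι × Fin (k + 1) // p.2 = j} :=
      ⟨fun i => ⟨(i, j), rfl⟩, fun p => p.1.1, fun _ => rfl, fun ⟨_, h⟩ => by subst h; rfl⟩
    rw [← det_submatrix_equiv_self e, gramB, ← det_smul]
    congr 1
    ext a b
    have h3 : j.1 + j.rev.1 = k := by rw [Fin.val_rev]; omega
    change B ((nl f c ^ j.1) (x a)) ((nl f c ^ j.rev.1) (x b)) = _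
    rw [nl_sign hB hf hc (by rw [← End.mul_apply, ← pow_add, add_right_comm, h3]; exact hx _),
      ← End.mul_apply, ← pow_add, h3]
    rfl
  have h3 := det_permute' ((Equiv.refl ι).prodCongr (Fin.revPerm (n := k + 1))) M
  rw [h1.det_fintype, Finset.prod_congr rfl fun j _ => h2 j, Finset.prod_mul_distrib,
    Finset.prod_const, Finset.card_univ, Fintype.card_fin, ← mul_assoc] at h3
  refine Eq.trans (congrArg det ?_) h3
  ext p q
  exact congrArg (fun j : Fin (k + 1) => B _ ((nl f c ^ j.1) (x q.1))) (Fin.rev_rev q.2).symm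

omit [DecidableEq ι] in
theorem form_phi_top (hx : ∀ i, (nl f c ^ (k + 1)) (x i) = 0) (m : ι × Fin (k + 1) → F) (l : ι) :
    B (phi f c k x m) ((nl f c ^ k) (x l)) = ∑ i, m (i, 0) * B (x i) ((nl f c ^ k) (x l)) := by
  simp only [phi, Fintype.linearCombination_apply, map_sum, map_smul, Fintype.sum_prod_type,
    LinearMap.sum_apply, LinearMap.smul_apply, smul_eq_mul]
  refine Finset.sum_congr rfl fun i _ => ?_
  rw [Fin.sum_univ_succ, Finset.sum_eq_zero fun j _ => ?_, add_zero]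
  · rfl
  · rw [nl_zero hB hf hc, mul_zero]
    rw [← End.mul_apply, ← pow_add]
    exact nl_pow_of_le (hx _) (by simp)

theorem isSF_pull_phi (hx : ∀ i, (nl f c ^ (k + 1)) (x i) = 0)
    (h0 : gramB (B.compl₂ (nl f c ^ k)) x ≠ 0) :
    IsSF (σ := RingHom.id F) ε (pull B (phi f c k x)) :=
  ⟨hB.invol, hB.eps, fun _ _ => hB.symm _ _, fun m hm => eq_zero_of_gramB
    (gram_phi hB hf hc hx ▸ mul_ne_zero kap_ne_zero (pow_ne_zero _ h0)) fun q => by
      have := hm (Pi.single q 1)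
      rw [pull_apply, phi_single] at this
      simpa [phi, Fintype.linearCombination_apply] using this⟩

theorem dsc_pull_phi (hx : ∀ i, (nl f c ^ (k + 1)) (x i) = 0)
    (h0 : gramB (B.compl₂ (nl f c ^ k)) x ≠ 0) : dsc (pull B (phi f c k x)) =
      sqcl (kap F ι k) * sqcl (gramB (B.compl₂ (nl f c ^ k)) x) ^ (k + 1) := by
  rw [(isSF_pull_phi hB hf hc hx h0).dsc_eq (Pi.basisFun F _), ← H56.sqcl_pow,
    ← sqcl_mul kap_ne_zero (pow_ne_zero _ h0), ← gram_phi hB hf hc hx]
  simp only [gramB, pull_apply, Pi.basisFun_apply, phi_single]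

theorem exists_piece (hx : ∀ i, (nl f c ^ (k + 1)) (x i) = 0)
    (h0 : gramB (B.compl₂ (nl f c ^ k)) x ≠ 0) :
    ∃ hA : ∀ v ∈ LinearMap.range (phi f c k x), f v ∈ LinearMap.range (phi f c k x),
      Disjoint (LinearMap.range (phi f c k x)) (perp B (LinearMap.range (phi f c k x))) ∧
      Iso (σ := RingHom.id F) (pull B (phi f c k x)) (fM ι k c) (B.domRestrict₁₂ _ _) (f.restrict hA) := by
  have h1 := isSF_pull_phi hB hf hc hx h0
  refine ⟨by rintro _ ⟨m, rfl⟩; exact ⟨_, phi_fM hx m⟩, hB.disjoint_of_restrict ?_,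
    LinearEquiv.ofInjective _ ((injective_iff_map_eq_zero _).2 fun m hm => h1.nondeg m fun y => by
      simp [hm]), fun m => Subtype.ext (phi_fM hx m), fun _ _ => rfl⟩
  rintro _ ⟨m, rfl⟩ hm
  rw [h1.nondeg m fun y => hm _ ⟨y, rfl⟩, map_zero]

theorem iso_pull_phi [Finite F] (h2 : (2 : F) ≠ 0) (hB' : IsSF (σ := RingHom.id F) ε B') (hg : Inv B' g)
    {y : ι → W} (hx : ∀ i, (nl f c ^ (k + 1)) (x i) = 0) (hy : ∀ i, (nl g c ^ (k + 1)) (y i) = 0)
    (h0 : gramB (B.compl₂ (nl f c ^ k)) x ≠ 0)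
    (h : ∀ i j, B' (y i) ((nl g c ^ k) (y j)) = B (x i) ((nl f c ^ k) (x j))) :
    Iso (σ := RingHom.id F) (pull B' (phi g c k y)) (fM ι k c) (pull B (phi f c k x)) (fM ι k c) := by
  have h1 := isSF_pull_phi hB hf hc hx h0
  obtain ⟨s, h3, h4, -, h5⟩ := h1.exists_rep_form (isSF_pull_phi hB' hg hc hy
    (by simpa only [gramB, LinearMap.compl₂_apply, h] using h0))
  have h6 := h5 (fM ι k c) (fun a b => by simp only [pull_apply, phi_fM hx, hf _ _])
    fun a b => by simp only [pull_apply, phi_fM hy, hg _ _]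
  have h7 : Commute (s - 1) (sh F ι k) := by
    have := (h6.symm.sub_right (Algebra.commutes c s).symm).sub_left (Commute.one_left _)
    rwa [fM, add_sub_cancel_right] at this
  have h8 : ∀ m, ∃ m', sh F ι k m' = (s - 1) m := fun m => exists_sh (congrFun (eq_zero_of_gramB h0
    fun l => by
      have := h3 m (Pi.single (l, Fin.last k) 1)
      simp only [pull_apply, phi_single, Fin.val_last, form_phi_top hB' hg hc hy, h] at this
      simp only [LinearMap.compl₂_apply, ← form_phi_top hB hf hc hx, LinearMap.sub_apply, map_sub,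
        this, End.one_apply, sub_self]))
  have h9 : ∀ n m, ∃ m', (sh F ι k ^ n) m' = ((s - 1) ^ n) m := fun n => by
    induction n with
    | zero => exact fun m => ⟨m, rfl⟩
    | succ n ih =>
      intro m
      obtain ⟨a, ha⟩ := ih m
      obtain ⟨b, hb⟩ := h8 a
      exact ⟨b, by rw [pow_succ, pow_succ', End.mul_apply, End.mul_apply, hb, ← ha, ← End.mul_apply,
        ← (h7.pow_right n).eq, End.mul_apply]⟩
  refine iso_of_isNilpotent h2 h3 h4 h6 ⟨k + 1, LinearMap.ext fun m => ?_⟩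
  obtain ⟨a, ha⟩ := h9 (k + 1) m
  refine ha ▸ h1.nondeg _ fun y => ?_
  rw [pull_apply, intertwine_pow _ (phi_sh hx), nl_pow_phi hx, map_zero, LinearMap.zero_apply]

/-- splitting off all Jordan blocks of size `k + 1` for the eigenvalue `c` -/
theorem exists_peel {x : ι → LinearMap.ker (nl f c ^ (k + 1))}
    (hx : IsBasisMod (LinearMap.ker (tf B f c k)) x) :
    ∃ (A : Submodule F V) (hA : ∀ v ∈ A, f v ∈ A), Disjoint A (perp B A) ∧
      Iso (σ := RingHom.id F) (pull B (phi f c k fun i => x i)) (fM ι k c) (B.domRestrict₁₂ A A)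
        (f.restrict hA) ∧
      (X - C c) ^ (k + 1) ∉ ed (f.restrict (hf.perp_mapsTo hB hA) : End F _) ∧
      (∀ c' j, c' * c' = 1 → (c', j) ≠ (c, k) → wd (B.domRestrict₁₂ (perp B A) (perp B A))
        (f.restrict (hf.perp_mapsTo hB hA)) c' j = wd B f c' j) ∧
      dsc (B.domRestrict₁₂ A A) = sqcl (kap F ι k) * wd B f c k ^ (k + 1) := by
  have h0 : gramB (B.compl₂ (nl f c ^ k)) (fun i => (x i : V)) ≠ 0 :=
    gramB_ne_zero_of_mod (β := tf B f c k) (tf_isRefl hB hf hc) hx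
  obtain ⟨hA, hd, h1⟩ := exists_piece hB hf hc (fun i => (x i).2) h0
  have hA' := hf.perp_mapsTo hB hA
  have hB' := hB.restrict (hB.disjoint_perp hd)
  refine ⟨_, hA, hd, h1, fun h => ?_, fun c' j hc' hne => ?_, ?_⟩
  · obtain ⟨y, h2, h3⟩ := exists_notMem_range h
    refine h3 ((mem_ker_tf hB' (hf.restrict hA') hc ⟨y, h2⟩).1 (LinearMap.ext fun z => ?_))
    have h4 : ∀ z : LinearMap.ker (nl (f.restrict hA' : End F _) c ^ (k + 1)),
        z.1.1 ∈ LinearMap.ker (nl f c ^ (k + 1)) := fun z =>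
      (coe_nl_restrict hA' _ _).symm.trans (congrArg Subtype.val z.2)
    obtain ⟨a, ha⟩ := hx.span ⟨y, h4 ⟨y, h2⟩⟩
    obtain rfl : a = 0 := eq_zero_of_gramB h0 fun l => by
      have h5 := LinearMap.congr_fun ha (x l)
      have h6 : B y ((nl f c ^ k) (x l)) = 0 :=
        hB.eq_zero_comm.1 (y.2 _ ⟨_, phi_single (l, Fin.last k)⟩)
      simpa [tf_apply, h6] using h5
    have h5 := LinearMap.congr_fun ha ⟨z, h4 z⟩
    simp only [Pi.zero_apply, zero_smul, Finset.sum_const_zero, sub_zero] at h5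
    exact (congrArg (B y) (coe_nl_restrict hA' k z)).trans h5
  · refine dsc_comp (tf_isRefl hB hf hc') (LinearMap.codRestrict _ ((perp B _).subtype ∘ₗ
      Submodule.subtype _) fun z => (coe_nl_restrict hA' _ _).symm.trans (congrArg Subtype.val z.2))
      (fun a b => congrArg (B a) (coe_nl_restrict hA' j b)) fun w => ?_
    obtain ⟨_, ⟨m, rfl⟩, v, hv, hw⟩ := Submodule.mem_sup.1 ((hB.isCompl_perp hd).sup_eq_top ▸
      Submodule.mem_top (x := w.1))
    have h2 : (nl f c' ^ (j + 1)) (phi f c k (fun i => (x i : V)) m) + (nl f c' ^ (j + 1)) v = 0 := by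
      rw [← map_add, hw]; exact w.2
    have h3 : (nl f c' ^ (j + 1)) v = 0 := (Submodule.disjoint_def.1 hd _ (eq_neg_of_add_eq_zero_right
      h2 ▸ neg_mem (nl_pow_mem hA _ ⟨m, rfl⟩)) (nl_pow_mem hA' _ hv))
    rw [h3, add_zero] at h2
    refine ⟨⟨⟨v, hv⟩, Subtype.ext ((coe_nl_restrict hA' _ _).trans h3)⟩,
      (mem_ker_tf hB hf hc' _).2 ?_⟩
    change (nl f c' ^ j) (w.1 - v) ∈ _
    rw [← hw, add_sub_cancel_right]
    have h4 := nl_pow_phi (fun i => (x i).2) m
    by_cases h : c' = c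
    · subst h
      rcases lt_trichotomy j k with h | rfl | h
      · obtain ⟨m, rfl⟩ := exists_sh (m := m) (congrFun (eq_zero_of_gramB h0 fun l => by
          exact (form_phi_top hB hf hc (fun i => (x i).2) m l).symm.trans
            (hB.eq_zero_comm.1 (nl_zero hB hf hc (nl_pow_of_le h2 h) _))))
        exact ⟨_, by rw [phi_sh fun i => (x i).2, pow_succ, End.mul_apply]⟩
      · exact absurd rfl hne
      · exact nl_pow_of_le h4 h ▸ zero_mem _
    · obtain ⟨a, b, h5⟩ := (isCoprime_X_sub_C_of_isUnit_sub (sub_ne_zero.2 h).isUnit).pow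
        (m := j + 1) (n := k + 1)
      have h6 := LinearMap.congr_fun (congrArg (aeval f) h5) (phi f c k (fun i => (x i : V)) m)
      simp only [map_add, map_mul, aeval_X_sub_C_pow, LinearMap.add_apply, End.mul_apply, h2, h4,
        map_zero, add_zero, map_one, End.one_apply] at h6
      rw [← h6, map_zero]
      exact zero_mem _
  · rw [← h1.dsc_eq (hB.restrict hd).isRefl, dsc_pull_phi hB hf hc (fun i => (x i).2) h0, wd,
      dsc_eq (tf_isRefl hB hf hc) hx]
    rfl

theorem Sim.exists_isBasisMod (hB' : IsSF (σ := RingHom.id F) ε B') (hg : Inv B' g) (h : Sim f g)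
    {x : ι → LinearMap.ker (nl f c ^ (k + 1))} (hx : IsBasisMod (LinearMap.ker (tf B f c k)) x) :
    ∃ y : ι → LinearMap.ker (nl g c ^ (k + 1)), IsBasisMod (LinearMap.ker (tf B' g c k)) y := by
  obtain ⟨C, e, he, hC⟩ := h.exists_iso B'
  have h1 : IsSF (σ := RingHom.id F) ε C := Iso.isSF ⟨e, he, hC⟩ hB'
  have h2 : Inv C f := Iso.inv ⟨e, he, hC⟩ hg
  have h3 : LinearMap.ker (tf B f c k) = LinearMap.ker (tf C f c k) := Submodule.ext fun y => by
    rw [mem_ker_tf hB hf hc, mem_ker_tf h1 h2 hc]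
  have h4 := intertwine_nl (c := c) e.toLinearMap he
  exact ⟨_, isBasisMod_comp (tf_isRefl hB' hg hc) (LinearMap.codRestrict _ (e.toLinearMap ∘ₗ
    Submodule.subtype _) fun z => (h4 _ _).symm.trans ((congrArg e z.2).trans (map_zero e)))
    (fun a b => (hC _ _).symm.trans (congrArg (B' (e a)) (h4 k b)))
    (fun w => ⟨⟨e.symm w, e.injective ((h4 _ _).trans (by simp))⟩,
      bot_le (a := LinearMap.ker _) (sub_eq_zero.2 (Subtype.ext (e.apply_symm_apply w).symm))⟩) (h3 ▸ hx)⟩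

theorem Iso.wd_eq (h : Iso (σ := RingHom.id F) B' g B f) : wd B' g c k = wd B f c k := by
  obtain ⟨e, he, hC⟩ := h
  have h4 := intertwine_nl (c := c) e.toLinearMap he
  exact dsc_comp (tf_isRefl hB hf hc) (LinearMap.codRestrict _ (e.toLinearMap ∘ₗ
    Submodule.subtype _) fun z => (h4 _ _).symm.trans ((congrArg e z.2).trans (map_zero e)))
    (fun a b => (hC _ _).symm.trans (congrArg (B (e a)) (h4 k b)))
    fun w => ⟨⟨e.symm w, e.injective ((h4 _ _).trans (by simp))⟩,
      bot_le (a := LinearMap.ker _) (sub_eq_zero.2 (Subtype.ext (e.apply_symm_apply w).symm))⟩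

omit hB hf hc

theorem peel_pair (hB : IsSF (σ := RingHom.id F) ε B) (hB' : IsSF (σ := RingHom.id F) ε B')
    (hf : Inv B f) (hg : Inv B' g) (h : ed f = ed g) {A : Submodule F V} {C : Submodule F W}
    {hA : ∀ v ∈ A, f v ∈ A} {hC : ∀ v ∈ C, g v ∈ C} (hd : Disjoint A (perp B A))
    (hd' : Disjoint C (perp B' C)) (h1 : Sim (f.restrict hA : End F A) (g.restrict hC)) :
    ed (f.restrict (hf.perp_mapsTo hB hA) : End F _) = ed (g.restrict (hg.perp_mapsTo hB' hC)) :=
  add_left_cancel ((hf.ed_eq_add hB hA hd).symm.trans (h.trans (h1.ed_eq ▸ hg.ed_eq_add hB' hC hd')))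

universe u v in
/-- **Wall's theorem** in odd characteristic. -/
theorem wall [Finite F] (h2 : (2 : F) ≠ 0) {V : Type u} {W : Type v} [AddCommGroup V] [Module F V]
    [AddCommGroup W] [Module F W] [FiniteDimensional F V] [FiniteDimensional F W]
    {B : V →ₗ[F] V →ₗ[F] F} {B' : W →ₗ[F] W →ₗ[F] F} {f : End F V} {g : End F W}
    (hB : IsSF (σ := RingHom.id F) ε B) (hB' : IsSF (σ := RingHom.id F) ε B') (hf : Inv B f)
    (hg : Inv B' g) (h : ed f = ed g) (H : ∀ c, c * c = 1 → ∀ k, ε * (-1) ^ k = 1 →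
      (X - C c) ^ (k + 1) ∈ ed f → wd B f c k = wd B' g c k) :
    Iso (σ := RingHom.id F) B f B' g := by
  generalize hn : (ed f).card = n
  induction n using Nat.strong_induction_on generalizing V W with | _ n ih => ?_
  by_cases h1 : ∃ c, c * c = 1 ∧ ∃ k, (X - C c) ^ (k + 1) ∈ ed f
  swap
  · refine iso_of_sim hB hB' hf hg ((rigid_iff_ed f).2 (.inr fun P hP => (ed_isPP f P hP).isCoprime_or.elim
      id fun ⟨k, hk, h3⟩ => (h1 ?_).elim)) (sim_of_ed_eq h)
    obtain ⟨k, rfl⟩ := Nat.exists_eq_add_one_of_ne_zero hk.ne'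
    rcases h3 with rfl | rfl
    · exact ⟨1, one_mul 1, k, by simpa using hP⟩
    · exact ⟨-1, by simp, k, by simpa using hP⟩
  obtain ⟨c, hc, k, hP⟩ := h1
  obtain ⟨x, hx⟩ := H56.exists_isBasisMod (LinearMap.ker (tf B f c k))
  obtain ⟨y, hy⟩ := (sim_of_ed_eq h).exists_isBasisMod hB hf hc hB' hg hx
  obtain ⟨y, hy, h3⟩ := exists_gram_eq_of_dsc h2 (ε := ε * (-1) ^ k) (by
    rw [mul_mul_mul_comm, ← mul_pow, show ε * ε = 1 from hB.eps]; simp)
    (tf_symm hB hf hc) (tf_symm hB' hg hc) hx hy fun h => H c hc k h hP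
  obtain ⟨A, hA, hd, h4, h5, h6, -⟩ := exists_peel hB hf hc hx
  obtain ⟨C, hC, hd', h7, -, h8, -⟩ := exists_peel hB' hg hc hy
  have h9 := h4.symm.trans ((iso_pull_phi hB hf hc h2 hB' hg (fun i => (x i).2) (fun i => (y i).2)
    (gramB_ne_zero_of_mod (β := tf B f c k) (tf_isRefl hB hf hc) hx) h3).symm.trans h7)
  have h10 := hf.ed_eq_add hB hA hd
  refine (hf.iso_sumForm hB hA hd).symm.trans ((h9.prodMap (ih _ ?_ (hB.restrict (hB.disjoint_perp hd))
    (hB'.restrict (hB'.disjoint_perp hd')) (hf.restrict _) (hg.restrict _)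
    (peel_pair hB hB' hf hg h hd hd' h9.sim) (fun c' hc' j h11 h12 => ?_) rfl)).trans
      (hg.iso_sumForm hB' hC hd'))
  · rw [← hn, h10, Multiset.card_add]
    exact lt_add_of_pos_left _ (Multiset.card_pos.2 fun h => h5 (by rwa [h10, h, zero_add] at hP))
  · have h13 : (c', j) ≠ (c, k) := fun h => by cases h; exact h5 h12
    rw [h6 c' j hc' h13, h8 c' j hc' h13]
    exact H c' hc' j h11 (h10 ▸ Multiset.mem_add.2 (.inr h12))

/-- For symmetric forms the discriminant of the form determines one of the invariants. -/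
theorem wall_symm [Finite F] (h2 : (2 : F) ≠ 0) (hB : IsSF (σ := RingHom.id F) 1 B)
    (hB' : IsSF (σ := RingHom.id F) 1 B') (hf : Inv B f) (hg : Inv B' g) (h : ed f = ed g)
    (hd : dsc B = dsc B') (p : F × ℕ) (H : ∀ c, c * c = 1 → ∀ k, 1 * (-1 : F) ^ k = 1 → (c, k) ≠ p →
      (X - C c) ^ (k + 1) ∈ ed f → wd B f c k = wd B' g c k) :
    Iso (σ := RingHom.id F) B f B' g := by
  refine wall h2 hB hB' hf hg h fun c hc k hk hP => ?_
  by_cases hp : (c, k) = p
  swap
  · exact H c hc k hk hp hP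
  subst hp
  obtain ⟨x, hx⟩ := H56.exists_isBasisMod (LinearMap.ker (tf B f c k))
  obtain ⟨y, hy⟩ := (sim_of_ed_eq h).exists_isBasisMod hB hf hc hB' hg hx
  obtain ⟨A, hA, hd1, h4, h5, h6, h7⟩ := exists_peel hB hf hc hx
  obtain ⟨C, hC, hd', h8, -, h9, h10⟩ := exists_peel hB' hg hc hy
  have h11 := (wall h2 (hB.restrict (hB.disjoint_perp hd1)) (hB'.restrict (hB'.disjoint_perp hd'))
    (hf.restrict _) (hg.restrict _) (peel_pair hB hB' hf hg h hd1 hd' (h4.sim.symm.trans h8.sim))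
    fun c' hc' j h11 h12 => by
      have h13 : (c', j) ≠ (c, k) := fun h => by cases h; exact h5 h12
      rw [h6 c' j hc' h13, h9 c' j hc' h13]
      exact H c' hc' j h11 h13 (hf.ed_eq_add hB hA hd1 ▸ Multiset.mem_add.2 (.inr h12))).dsc_eq
    (hB'.restrict (hB'.disjoint_perp hd')).isRefl
  rw [hB.dsc_eq_mul hd1, hB'.dsc_eq_mul hd', h11, mul_left_inj, h7, h10, mul_right_inj] at hd
  obtain ⟨j, rfl⟩ : Even k := (neg_one_pow_eq_one_iff_even (by
    intro h; exact h2 (by linear_combination -h))).1 (by simpa using hk)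
  simpa only [pow_succ, pow_add, H56.SqCl.mul_self, one_mul] using hd

end H53
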