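import Cfsg.Agent.H99.WrBase
import Cfsg.Agent.H99.BenderB
import Cfsg.Agent.H82.Hub
import Cfsg.Agent.H69.FTInst
import Cfsg.Agent.S3121
import Cfsg.Agent.S1347

/-! STD-H, Job0. -/

set_option autoImplicit false
open Subgroup Cfsg H98 H1.Gold H99.Wr
open scoped commutatorElement

universe u

namespace H53.Wr0

variable {G : Type u} [Group G]

/-- `u ∈ C(L) L` -/
def KL (L : Subgroup G) (u : G) : Prop := ∃ k ∈ cen L, ∃ l ∈ L, u = k * l

theorem conj_pow_of_comm {L : Subgroup G} {a b : G} (ha : a ∈ L)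
    (hc : a * b * a⁻¹ * b⁻¹ ∈ cen L) (n : ℕ) :
    a ^ n * b * (a ^ n)⁻¹ = (a * b * a⁻¹ * b⁻¹) ^ n * b := by
  induction n with
  | zero => simp
  | succ n ih =>
    have h1 := mem_cen.1 (pow_mem hc n) a ha
    calc a ^ (n + 1) * b * (a ^ (n + 1))⁻¹ = a * (a ^ n * b * (a ^ n)⁻¹) * a⁻¹ := by
          rw [pow_succ']; group
      _ = (a * b * a⁻¹ * b⁻¹) ^ n * (a * b * a⁻¹ * b⁻¹) * b := by
          rw [ih, ← mul_assoc a, h1]; group
      _ = _ := by rw [pow_succ]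

theorem comm_pow_eq_one {L : Subgroup G} {a b : G} (ha : a ∈ L)
    (hc : a * b * a⁻¹ * b⁻¹ ∈ cen L) {n : ℕ} (hn : a ^ n = 1) : (a * b * a⁻¹ * b⁻¹) ^ n = 1 := by
  have := conj_pow_of_comm ha hc n
  rw [hn, one_mul, inv_one, mul_one] at this
  exact right_eq_mul.mp this

theorem eq_one_of_coprime {c : G} {n m : ℕ} (h1 : c ^ n = 1) (h2 : c ^ m = 1)
    (h : n.Coprime m) : c = 1 :=
  orderOf_eq_one_iff.mp (Nat.eq_one_of_dvd_coprimes h (orderOf_dvd_iff_pow_eq_one.mpr h1)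
    (orderOf_dvd_iff_pow_eq_one.mpr h2))

theorem comm_of_coprime {L : Subgroup G} {a b : G} (ha : a ∈ L) (hb : b ∈ L)
    (hc : a * b * a⁻¹ * b⁻¹ ∈ cen L) {n m : ℕ} (hn : a ^ n = 1) (hm : b ^ m = 1)
    (h : n.Coprime m) : a * b = b * a := by
  have h1 := comm_pow_eq_one ha hc hn
  have h0 : b * a * b⁻¹ * a⁻¹ = (a * b * a⁻¹ * b⁻¹)⁻¹ := by group
  have h2 := comm_pow_eq_one hb (h0 ▸ inv_mem hc) hm
  rw [h0, inv_pow, inv_eq_one] at h2
  have h3 := eq_one_of_coprime h1 h2 h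
  rwa [mul_inv_eq_one, mul_inv_eq_iff_eq_mul] at h3

/-- if `k l` and `k' l'` commute then `[l, l']` is central -/
theorem comm_mem_cen {L : Subgroup G} {k l k' l' : G} (hk : k ∈ cen L) (hl : l ∈ L)
    (hk' : k' ∈ cen L) (hl' : l' ∈ L) (h : k * l * (k' * l') = k' * l' * (k * l)) :
    l * l' * l⁻¹ * l'⁻¹ ∈ cen L := by
  have h1 : k * k' * (l * l') = k' * k * (l' * l) := by
    calc k * k' * (l * l') = k * (k' * l) * l' := by group
      _ = k * l * (k' * l') := by rw [← mem_cen.1 hk' l hl]; group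
      _ = k' * (l' * k) * l := by rw [h]; group
      _ = _ := by rw [mem_cen.1 hk l' hl']; group
  have h2 : l * l' * l⁻¹ * l'⁻¹ = (k * k')⁻¹ * (k' * k) := by
    calc l * l' * l⁻¹ * l'⁻¹ = (k * k')⁻¹ * (k * k' * (l * l')) * l⁻¹ * l'⁻¹ := by group
      _ = _ := by rw [h1]; group
  rw [h2]; exact mul_mem (inv_mem (mul_mem hk hk')) (mul_mem hk' hk)

variable [Finite G]

theorem KL.dec {L : Subgroup G} {u : G} {p : ℕ} (hp : p.Prime) (h : KL L u)
    (hu : ∃ a, u ^ p ^ a = 1) :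
    ∃ k ∈ cen L, ∃ l ∈ L, u = k * l ∧ (∃ a, k ^ p ^ a = 1) ∧ ∃ a, l ^ p ^ a = 1 := by
  obtain ⟨k, hk, l, hl, e⟩ := h
  obtain ⟨a, ha⟩ := hu
  obtain ⟨b, m, hm, hbm⟩ := Nat.exists_eq_pow_mul_and_not_dvd (Nat.card_pos (α := G)).ne' p hp.ne_one
  have h1 : u ∈ zpowers (u ^ m) := mem_zpowers_pow_iff.mpr (by
    rw [Nat.gcd_comm]
    exact (((Nat.Prime.coprime_iff_not_dvd hp).mpr hm).pow_left a).coprime_dvd_left
      (orderOf_dvd_iff_pow_eq_one.mpr ha))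
  obtain ⟨j, hj⟩ := mem_powers_iff_mem_zpowers.mpr h1
  have key : ∀ x : G, (x ^ (m * j)) ^ p ^ b = 1 := fun x => by
    rw [← pow_mul, show m * j * p ^ b = p ^ b * m * j by ring, ← hbm, pow_mul, pow_card_eq_one',
      one_pow]
  refine ⟨k ^ (m * j), pow_mem hk _, l ^ (m * j), pow_mem hl _, ?_, ⟨b, key k⟩, ⟨b, key l⟩⟩
  rw [← (show Commute k l from (mem_cen.1 hk l hl).symm).mul_pow, ← e, pow_mul]
  exact hj.symm

theorem KL.dec2 {L : Subgroup G} {u : G} (hZ : Odd (Nat.card ↥(L ⊓ cen L))) (h : KL L u)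
    (hu : u * u = 1) : ∃ k ∈ cen L, ∃ l ∈ L, u = k * l ∧ k * k = 1 ∧ l * l = 1 := by
  obtain ⟨k, hk, l, hl, e, -, a, ha⟩ := h.dec Nat.prime_two ⟨1, by rw [pow_one, pow_two, hu]⟩
  have h1 : k * k * (l * l) = 1 := by
    calc k * k * (l * l) = k * (k * l) * l := by group
      _ = k * (l * k) * l := by rw [mem_cen.1 hk l hl]
      _ = k * l * (k * l) := by group
      _ = 1 := by rw [← e, hu]
  have h2 : l * l ∈ L ⊓ cen L :=
    mem_inf.mpr ⟨mul_mem hl hl, eq_inv_of_mul_eq_one_right h1 ▸ inv_mem (mul_mem hk hk)⟩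
  have h3 : l * l = 1 := one_of_odd (odd_of_mem hZ h2) (k := a) (by
    rw [(Commute.refl l).mul_pow, ha, one_mul])
  exact ⟨k, hk, l, hl, e, by rwa [h3, mul_one] at h1, h3⟩

/-- some conjugate of `K = C(L)` meets `N(K)` in a group of even order -/
theorem exists_te {L : Subgroup G} {P : G → Subgroup G} (hA : AS G) (hL : IsStandardSubgroup L)
    (hP : P0 L P) : ∃ g, g ∉ nor (cen L) ∧ 2 ∣ Nat.card ↥(cj g (cen L) ⊓ nor (cen L)) := by
  have := hA.1
  obtain ⟨hq, hK, hst, hn⟩ := hL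
  obtain ⟨t, ht, ht2⟩ := H14.exists_involution_mem hK.1.two_dvd
  have hKn : ¬ (cen L).Normal := fun h => by
    have h1 := hA.le_of_nor (X := cen L) (fun e => H14.ne_one_of_two ht2 (mem_bot.mp (e.le ht)))
      le_normalizer_of_normal
    refine H14.quasi_sub_ne_bot hq (eq_bot_iff.mpr ?_)
    rw [← hA.cen_eq]
    exact le_centralizer_iff.mp h1
  have hO : oddCore G = ⊥ := by
    by_contra h
    have h1 := hA.le_of_nor h le_normalizer_of_normal
    have h2 := H69.ft _ (H99.odd_card_oddCore (G := G))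
    exact H14.quasi_not_le_solvable (H14.quasi_of_simple hA.2) h2 h1
  have hLF : L ≤ generalizedFittingSubgroup G := by
    rcases Cfsg.Agent.S1347.result L ⟨hq, hK, hst, hn⟩ hO t ht2 ht with h | h | h
    · exact absurd (normal_of_top_le_normalizer (by rw [← hn]; exact le_normalizer_of_normal)) hKn
    · exfalso
      obtain ⟨X, hX, hX', -, hc, hi, hs, -⟩ := h
      have hX1 : X ≠ ⊥ := H14.quasi_sub_ne_bot (H14.quasi_of_simple hX')
      have h1 := hA.le_of_nor (X := layer G) (fun e => hX1 (eq_bot_iff.mpr (e ▸ hs ▸ le_sup_left)))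
        le_normalizer_of_normal
      have h2 := hA.le_of_nor hX1 (h1.trans (hs ▸ sup_le le_normalizer
        (le_normalizer_of_le_centralizer fun b hb => mem_cen.2 fun a ha => hc a ha b hb)))
      have h3 : cj t X ≤ X := (le_sup_right.trans hs.le).trans (H14.layer_le_fstar.trans h2)
      exact hX1 (cj_eq_bot_iff.mp (by rw [← hi]; exact (inf_of_le_right h3).symm))
    · exact h.1.trans H14.layer_le_fstar
  by_contra hno
  push Not at hno
  rcases Cfsg.Agent.S3121.result hA.1 hA.2 (cen L) hK (fun g hg =>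
    Nat.not_even_iff_odd.mp fun e => hno g hg e.two_dvd) with h | ⟨M, hM⟩
  · exact hKn h
  obtain ⟨y, hy, hy2⟩ := H14.exists_involution_mem (H := L) (by
    by_contra h
    exact H14.quasi_not_solvable hq (H69.ft _ (Nat.not_even_iff_odd.mp fun e => h e.two_dvd)))
  have hs := H99.se_isSolvable H82.hub hM (H99.se_twoRank_of_simple hM)
  obtain ⟨v, hv, hv2⟩ := H88.se_exists_involution hM
  obtain ⟨c, hc⟩ := isConj_iff.mp (H88.se_isConj hM hv2 (b := ⟨y, hLF hy⟩) (by simpa using hy2))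
  have h1 := H88.se_centralizer_le (H88.se_map_conj hM c) (t := ⟨y, hLF hy⟩)
    (hc ▸ conj_mem_cj hv) (by simpa using hy2)
  have h2 : P y ≤ (cj c M).map (generalizedFittingSubgroup G).subtype := fun x hx =>
    ⟨⟨x, hLF (hP.le y hy hy2 hx).1⟩, h1 (mem_centralizer_singleton_iff.mpr
      (Subtype.ext (H99.Wr.mem_cen1.1 (hP.le y hy hy2 hx).2))), rfl⟩
  have h3 : Group.IsSolvable ((cj c M).map (generalizedFittingSubgroup G).subtype) := by
    have : Group.IsSolvable M := hs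
    have : Group.IsSolvable (cj c M) := Group.isSolvable_of_surjective (MonoidHom.subgroupMap_surjective _ M)
    exact Group.isSolvable_of_surjective (MonoidHom.subgroupMap_surjective _ _)
  have h4 := H14.eq_bot_of_perfect_of_le_solvable (hP.perf y hy hy2) h2 h3
  exact H14.ne_one_of_two hy2 (by simpa [h4] using hP.mem y hy hy2)

/-- the Sylow 2-subgroups of `C(L)` have order two, and `t` is fused to `x` or `t x` -/
theorem core {L : Subgroup G} {P : G → Subgroup G} (hL : IsStandardSubgroup L)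
    (hZ : Odd (Nat.card ↥(L ⊓ cen L))) (hP : P0 L P)
    (hodd : ∀ d ∈ nor L, Odd (orderOf d) → KL L d)
    (hT : ∀ g, g ∉ nor (cen L) → ∀ u ∈ cj g (cen L) ⊓ nor (cen L), (∃ a, u ^ 2 ^ a = 1) → KL L u)
    {g : G} (hg : g ∉ nor (cen L)) (h2 : 2 ∣ Nat.card ↥(cj g (cen L) ⊓ nor (cen L))) :
    ∃ t ∈ cen L, orderOf t = 2 ∧ IsSyl 2 (zpowers t) (cen L) ∧ ∃ x ∈ L, orderOf x = 2 ∧
      ∃ h : G, h * t * h⁻¹ = x ∨ h * t * h⁻¹ = t * x := by
  obtain ⟨hq, hK, hst, hn⟩ := hL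
  set K := cen L with hKd
  have hK' := H14.te_cj hK g
  obtain ⟨T, hTs⟩ := exists_isSyl 2 (cj g K ⊓ nor K)
  have hT1 : T ≠ ⊥ := fun e => hTs.eq_bot_iff.mp e h2
  have hTK : T ≤ cj g K := hTs.le.trans inf_le_left
  have hTn : T ≤ nor K := hTs.le.trans inf_le_right
  obtain ⟨S, hS, hTS⟩ := exists_isSyl_le hTs.isPGroup (le_sup_right : T ≤ K ⊔ T)
  obtain ⟨a1, -, -, ⟨φ⟩⟩ := H14.te_structure hK hg hT1 hTs hS hTS
  set T0 := S ⊓ nor T ⊓ K with hT0
  have hcT : Nat.card T0 = Nat.card T := Nat.card_congr φ.toEquiv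
  have hT2 : 2 ∣ Nat.card T := by
    by_contra h
    exact hT1 ((isSyl_self hTs.isPGroup).eq_bot_iff.mpr h)
  obtain ⟨t, ht, ht2⟩ := H14.exists_involution_mem (H := T0) (hcT ▸ hT2)
  obtain ⟨s, hs, hs2, hsc⟩ := H14.exists_central_involution hTs.isPGroup hT1
  have hTK1 : ∀ u ∈ T, u ∈ K → u = 1 := fun u h1 h2 => by
    have : u ∈ T ⊓ K := ⟨h1, h2⟩
    rwa [a1] at this
  have two_T := isPGroup_iff_forall.mp hTs.isPGroup
  obtain ⟨k, hk, x, hx, es, kk, xx⟩ := (hT g hg s (hTs.le hs) (two_T s hs)).dec2 hZ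
    (H14.mul_self_of_two hs2)
  have hx1 : x ≠ 1 := fun e => H14.ne_one_of_two hs2 (hTK1 s hs (by rwa [es, e, mul_one]))
  have hx2 : orderOf x = 2 := orderOf_eq_prime (by rw [pow_two, xx]) hx1
  -- the involution `t'' = g⁻¹ t g`
  have hg' : g⁻¹ ∉ nor K := fun h => hg (inv_mem_iff.mp h)
  have htn : t ∈ nor (cj g K) := H14.te_normalizer_le hK' hT2 hTK ht.1.2
  have ht'' : g⁻¹ * t * g ∈ cj g⁻¹ K ⊓ nor K :=
    ⟨by simpa using conj_mem_cj (g := g⁻¹) ht.2, mem_cj.mp ((cj_normalizer g K).ge htn)⟩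
  have tt := H14.mul_self_of_two ht2
  have tt'' : g⁻¹ * t * g * (g⁻¹ * t * g) = 1 := by
    calc _ = g⁻¹ * (t * t) * g := by group
      _ = 1 := by rw [tt]; group
  obtain ⟨k', hk', y, hy, et, -, yy⟩ := (hT g⁻¹ hg' _ ht''
    ⟨1, by rw [pow_one, pow_two, tt'']⟩).dec2 hZ tt''
  have hy1 : y ≠ 1 := fun e => hg (H14.te_mem_normalizer hK ht2 ht.2
    (mem_cj.mpr (by rwa [et, e, mul_one])))
  have hy2 : orderOf y = 2 := orderOf_eq_prime (by rw [pow_two, yy]) hy1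
  have hct : ∀ c ∈ L ⊓ cen1 y, g * c * g⁻¹ ∈ nor K := fun c hc => by
    refine H14.te_centralizer_le hK ht2 ht.2 (H99.Wr.mem_cen1.2 ?_)
    have h1 : c * (g⁻¹ * t * g) = g⁻¹ * t * g * c := by
      rw [et, ← mul_assoc, mem_cen.1 hk' c hc.1, mul_assoc, H99.Wr.mem_cen1.1 hc.2, mul_assoc]
    calc g * c * g⁻¹ * t = g * (c * (g⁻¹ * t * g)) * g⁻¹ := by group
      _ = _ := by rw [h1]; group
  obtain ⟨p, hp, hp2, ⟨d, hd, ⟨a, hda⟩, hdK⟩, hprime⟩ := hP.prime y hy hy2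
  have hcop : ∀ i j, (p ^ i).Coprime (2 ^ j) := fun i j =>
    (((Nat.coprime_primes hp Nat.prime_two).mpr hp2).pow_left i).pow_right j
  have hd' : (g * d * g⁻¹) ^ p ^ a = 1 := by rw [conj_pow, hda]; group
  obtain ⟨k₁, hk₁, l, hl, ed, -, b, hlb⟩ := (hodd _ (hn.ge (hct d hd)) (Nat.coprime_two_right.mp
    ((hcop a 1).coprime_dvd_left (orderOf_dvd_iff_pow_eq_one.mpr hd')))).dec hp ⟨a, hd'⟩
  have hlK : l ∉ K := by
    intro hlK
    have hK'' := H14.te_cj hK g⁻¹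
    have h1 : L ⊓ cen1 y ≤ nor (cj g⁻¹ K) := fun c hc =>
      (cj_normalizer g⁻¹ K).le (mem_cj.mpr (by simpa using hct c hc))
    have h3 := hprime y hy hy2 (cj g⁻¹ K ⊓ (L ⊓ cen1 y)) inf_le_right
      (le_normalizer_inf h1 le_normalizer) d
      ⟨mem_cj.mpr (by rw [inv_inv, ed]; exact mul_mem hk₁ hlK), hd⟩ ⟨a, hda⟩ hdK
    have h4 := hP.gen y hy hy2 (nor (cj g⁻¹ K)) fun r hr hr2 =>
      inf_le_right.trans (H14.te_centralizer_le hK'' hr2 (h3 hr).1)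
    rcases H14.quasi_sub_normalized hq h4 with h | h
    · refine hst g⁻¹ (fun e => hg' (hn.le (cj_eq_self_iff.mp e))) ?_
      rw [commutator_eq_bot_iff_le_centralizer]
      exact h.trans (cj_centralizer g⁻¹ L).le
    · rw [commutator_eq_bot_iff_le_centralizer] at h
      have h5 : y ∈ L ⊓ K := ⟨hy, h ⟨(h3 (hP.mem y hy hy2)).1, hy⟩⟩
      exact hy1 (one_of_odd_sq (odd_of_mem hZ h5) yy)
  -- `Yb`
  let Yb : Set G := {v | v ∈ L ∧ (∃ j, v ^ 2 ^ j = 1) ∧ ∃ k₂ ∈ K, k₂ * v ∈ cj g K}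
  have hlY : ∀ v ∈ Yb, l * v = v * l := by
    rintro v ⟨hv, ⟨j, hj⟩, k₂, hk₂, hkv⟩
    refine comm_of_coprime hl hv (comm_mem_cen hk₁ hl hk₂ hv ?_) hlb hj (hcop b j)
    rw [← ed]
    exact mem_cen.1 ((cj_centralizer g L).le hkv) _ (conj_mem_cj hd.1)
  have hxY : x ∈ Yb := ⟨hx, ⟨1, by rw [pow_one, pow_two, xx]⟩, k, hk, es ▸ hTK hs⟩
  have hYc : ∀ c ∈ L ⊓ cen1 x, ∀ v ∈ Yb, c * v * c⁻¹ ∈ Yb := by
    rintro c hc v ⟨hv, ⟨j, hj⟩, k₂, hk₂, hkv⟩
    refine ⟨mul_mem (mul_mem hc.1 hv) (inv_mem hc.1), ⟨j, by rw [conj_pow, hj]; group⟩, k₂, hk₂, ?_⟩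
    have h1 : c ∈ nor (cj g K) := H14.te_centralizer_le hK' hs2 (hTK hs) (H99.Wr.mem_cen1.2 (by
      rw [es, ← mul_assoc, mem_cen.1 hk c hc.1, mul_assoc, H99.Wr.mem_cen1.1 hc.2, mul_assoc]))
    have h3 := conj_mem_of_mem_normalizer h1 hkv
    rwa [← mul_assoc, mem_cen.1 hk₂ c hc.1, mul_assoc, mul_assoc, ← mul_assoc c] at h3
  have hPx := hprime x hx hx2 (L ⊓ cen1 x ⊓ centralizer Yb) inf_le_left (by
      refine le_normalizer_inf le_normalizer ?_
      rw [le_normalizer_iff]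
      intro c hc w hw
      refine mem_centralizer_iff.mpr fun v hv => ?_
      have h1 := mem_centralizer_iff.mp hw _ (hYc c⁻¹ (inv_mem hc) v hv)
      calc v * (c * w * c⁻¹) = c * (c⁻¹ * v * c⁻¹⁻¹ * w) * c⁻¹ := by group
        _ = _ := by rw [h1]; group) l
    ⟨⟨hl, H99.Wr.mem_cen1.2 (hlY x hxY)⟩, mem_centralizer_iff.mpr fun v hv => (hlY v hv).symm⟩
    ⟨b, hlb⟩ hlK
  have hTz : T = zpowers s := by
    refine le_antisymm (fun u hu => ?_) (zpowers_le.mpr hs)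
    obtain ⟨k₂, hk₂, v, hv, eu, -, j, hj⟩ :=
      (hT g hg u (hTs.le hu) (two_T u hu)).dec Nat.prime_two (two_T u hu)
    have hvY : v ∈ Yb := ⟨hv, ⟨j, hj⟩, k₂, hk₂, eu ▸ hTK hu⟩
    rcases hP.cenP x hx hx2 v hv (mem_cen.2 fun w hw =>
      (mem_centralizer_iff.mp (hPx hw).2 v hvY).symm) with h | h
    · rw [hTK1 u hu (eu ▸ mul_mem hk₂ h)]; exact one_mem _
    · have h1 : u * s = 1 := hTK1 _ (mul_mem hu hs) (by
        rw [eu, es, mul_assoc, ← mul_assoc v, mem_cen.1 hk v hv, mul_assoc]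
        exact mul_mem hk₂ (mul_mem hk h))
      rw [eq_inv_of_mul_eq_one_left h1]; exact inv_mem (mem_zpowers s)
  have hT0z : zpowers t = T0 := eq_of_le_of_card_ge (zpowers_le.mpr ht) (by
    rw [hcT, hTz, Nat.card_zpowers, Nat.card_zpowers, hs2, ht2])
  -- `R = S ∩ K`
  have hSn : S ≤ nor K := hS.le.trans (sup_le le_normalizer hTn)
  have hR := hS.inf_of_le_normalizer le_sup_left hSn
  have hact : ∀ r ∈ K, k * r * k⁻¹ = s * r * s⁻¹ := fun r hr => by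
    rw [es]
    calc k * r * k⁻¹ = k * (x * r * x⁻¹) * k⁻¹ := by rw [cj_of_comm (mem_cen.1 hr x hx)]
      _ = _ := by group
  have hkR : k ∈ S ⊓ K := by
    refine hR.le_of_le_normalizer' (isPGroup_zpowers (k := 1) (by rw [pow_one, pow_two, kk]))
      (zpowers_le.mpr hk) (zpowers_le.mpr (mem_normalizer_of_cj_le ?_)) (mem_zpowers k)
    rintro _ ⟨r, hr, rfl⟩
    show k * r * k⁻¹ ∈ S ⊓ K
    refine mem_inf.mpr ⟨?_, K.mul_mem (K.mul_mem hk hr.2) (K.inv_mem hk)⟩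
    rw [hact r hr.2]
    exact S.mul_mem (S.mul_mem (hTS hs) hr.1) (S.inv_mem (hTS hs))
  have hCR : ∀ r ∈ S ⊓ K, k * r = r * k → r ∈ zpowers t := fun r hr h => by
    rw [hT0z]
    refine ⟨⟨hr.1, ?_⟩, hr.2⟩
    have h1 : s * r = r * s := comm_of_cj (by rw [← hact r hr.2, cj_of_comm h])
    rw [hTz]
    refine centralizer_le_normalizer _ (mem_cen.2 fun w hw => ?_)
    rcases (mem_zpowers_sq (H14.mul_self_of_two hs2)).1 hw with rfl | rfl
    · simp
    · exact h1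
  have hkt := (mem_zpowers_sq tt).1 (hCR k hkR rfl)
  have hRz : S ⊓ K = zpowers t := by
    have hle : zpowers t ≤ S ⊓ K := zpowers_le.mpr ⟨ht.1.1, ht.2⟩
    by_contra hne
    have h1 := lt_inf_normalizer hR.isPGroup (lt_of_le_of_ne hle (Ne.symm hne))
    refine h1.not_ge fun r hr => hCR r hr.1 ?_
    rcases hkt with rfl | rfl
    · simp
    · rcases (mem_zpowers_sq tt).1 (conj_mem_of_mem_normalizer hr.2 (mem_zpowers k)) with h | h
      · exact absurd (by simpa using h) (H14.ne_one_of_two ht2)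
      · exact (comm_of_cj h).symm
  rw [hRz] at hR
  refine ⟨t, ht.2, ht2, hR, x, hx, hx2, ?_⟩
  have ss := H14.mul_self_of_two hs2
  have ss' : g⁻¹ * s * g * (g⁻¹ * s * g) = 1 := by
    calc _ = g⁻¹ * (s * s) * g := by group
      _ = 1 := by rw [ss]; group
  obtain ⟨c, -, hc⟩ := hR.exists_le_cj (isPGroup_zpowers (x := g⁻¹ * s * g) (k := 1)
    (by rw [pow_one, pow_two, ss'])) (zpowers_le.mpr (mem_cj.mp (hTK hs)))
  have h5 : g * c * t * (g * c)⁻¹ = s := by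
    rcases (mem_zpowers_sq tt).1 (mem_cj.mp (hc (mem_zpowers _))) with h | h
    · exfalso
      apply H14.ne_one_of_two hs2
      calc s = g * c * (c⁻¹ * (g⁻¹ * s * g) * c) * (g * c)⁻¹ := by group
        _ = 1 := by rw [h]; group
    · rw [← h]; group
  refine ⟨g * c, ?_⟩
  rw [h5, es]
  rcases hkt with h | h
  · left; rw [h, one_mul]
  · right; rw [h]

theorem job0 : Job0.{u} := by
  intro G _ _ L E P hA hL hZ hN hP hinv
  obtain ⟨g, hg, h2⟩ := exists_te hA hL hP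
  obtain ⟨t, htK, ht2, hR, x, hx, hx2, h, hh⟩ := core hL hZ hP (fun d hd _ => hN d hd)
    (fun g _ u hu _ => hN u (hL.2.2.2.ge hu.2)) hg h2
  obtain ⟨hq, hK, -, hn⟩ := hL
  have tt := H14.mul_self_of_two ht2
  have hnL : cen1 t ≤ nor L := (H14.te_centralizer_le hK ht2 htK).trans hn.ge
  have htt : zpowers t ≤ cen L ⊓ cen1 t := zpowers_le.mpr ⟨htK, H99.Wr.mem_cen1.2 rfl⟩
  obtain ⟨hO, hdec⟩ := dec_of_central (hR.of_le htt inf_le_left)
    (zpowers_le.mpr (mem_cen.2 fun a ha => H99.Wr.mem_cen1.1 ha.2))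
  set O := res 2 (cen L ⊓ cen1 t) with hOd
  have hOle : O ≤ cen L ⊓ cen1 t := res_le _
  have hLt : ∀ l ∈ L, l * t = t * l := mem_cen.1 htK
  have hF : Full t L O := fun c hc => by
    obtain ⟨k, hk, l, hl, e⟩ := hN c (hnL hc)
    have h1 : k ∈ cen1 t := (mul_mem_cancel_right (H99.Wr.mem_cen1.2 (hLt l hl))).mp (e ▸ hc)
    obtain ⟨w, hw, o, ho, e'⟩ := hdec k ⟨hk, h1⟩
    refine ⟨o, ho, l, hl, ?_⟩
    rcases (mem_zpowers_sq tt).1 hw with rfl | rfl
    · left; rw [e, e', one_mul]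
    · right; rw [e, e', mul_assoc]
  have hzL : L ⊓ cen L ≤ O := fun a ha =>
    mem_res_of_coprime ⟨ha.2, H99.Wr.mem_cen1.2 (hLt a ha.1)⟩ (Nat.coprime_two_right.mpr (odd_of_mem hZ ha))
  have hnc : ∀ g : G, g * t * g⁻¹ ∉ L := fun g hy => by
    have hy2 : orderOf (g * t * g⁻¹) = 2 := by rw [← ht2]; exact (MulAut.conj g).orderOf_eq t
    have h1 : ⁅cen1 t, cen1 t⁆ ≤ O ⊔ L := by
      have key : ∀ c ∈ cen1 t, ∃ a ∈ O ⊔ L, ∃ z, (∀ b ∈ cen1 t, b * z = z * b) ∧ c = z * a :=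
        fun c hc => by
          obtain ⟨o, ho, l, hl, e | e⟩ := hF c hc
          · exact ⟨_, mul_mem (mem_sup_left ho) (mem_sup_right hl), 1, by simp, by rw [e, one_mul]⟩
          · exact ⟨_, mul_mem (mem_sup_left ho) (mem_sup_right hl), t, fun b hb => H99.Wr.mem_cen1.1 hb, e⟩
      have hle : O ⊔ L ≤ cen1 t := sup_le (hOle.trans inf_le_right) fun l hl => H99.Wr.mem_cen1.2 (hLt l hl)
      refine commutator_le.mpr fun c hc c' hc' => ?_
      obtain ⟨a, ha, z, hz, e⟩ := key c hc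
      obtain ⟨b, hb, w, hw, e'⟩ := key c' hc'
      have h2 : c * c' * c⁻¹ = a * c' * a⁻¹ := by
        have h3 := hz _ (mul_mem (mul_mem (hle ha) hc') (inv_mem (hle ha)))
        calc c * c' * c⁻¹ = z * (a * c' * a⁻¹) * z⁻¹ := by rw [e]; group
          _ = _ := by rw [← h3]; group
      have h4 : c' * a⁻¹ * c'⁻¹ = b * a⁻¹ * b⁻¹ := by
        have h3 := hw _ (mul_mem (mul_mem (hle hb) (inv_mem (hle ha))) (inv_mem (hle hb)))
        calc c' * a⁻¹ * c'⁻¹ = w * (b * a⁻¹ * b⁻¹) * w⁻¹ := by rw [e']; group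
          _ = _ := by rw [← h3]; group
      rw [commutatorElement_def, h2, mul_assoc, mul_assoc, ← mul_assoc c', h4]
      exact mul_mem ha (mul_mem (mul_mem hb (inv_mem ha)) (inv_mem hb))
    have h2 : P (g * t * g⁻¹) ≤ cj g (cen1 t) := fun c hc => mem_cj.mpr (H99.Wr.mem_cen1.2 (by
      have h3 := H99.Wr.mem_cen1.1 (hP.le _ hy hy2 hc).2
      calc g⁻¹ * c * g * t = g⁻¹ * (c * (g * t * g⁻¹)) * g := by group
        _ = _ := by rw [h3]; group))
    have h3 : g * t * g⁻¹ ∈ cj g (O ⊔ L) := by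
      refine cj_mono g h1 ?_
      rw [cj_commutator]
      exact commutator_mono h2 h2 ((hP.perf _ hy hy2).ge (hP.mem _ hy hy2))
    rw [conj_mem_cj_iff, mem_sup_left_norm
      (le_normalizer_of_le_centralizer (hOle.trans inf_le_left))] at h3
    obtain ⟨o, ho, l, hl, e⟩ := h3
    have h4 : l ∈ O := hzL ⟨hl, ((cen L).mul_mem_cancel_left (hOle ho).1).mp (e ▸ htK)⟩
    exact H14.ne_one_of_two ht2 (one_of_odd_sq (odd_of_mem hO (e ▸ mul_mem ho h4)) tt)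
  refine ⟨t, O, ⟨ht2, htK, hOle.trans inf_le_left, hOle.trans inf_le_right, hO,
    le_normalizer_res (le_normalizer_inf (le_normalizer_centralizer hnL) le_normalizer), hnL, hzL,
    fun c hc _ => hF c hc, fun A hA _ _ _ a ha => hF a (hA ha), hnc, ?_⟩, hF⟩
  obtain ⟨l, hl, he⟩ := hinv x hx (H14.mul_self_of_two hx2)
  refine ⟨l * h, _, he, by simpa using H14.ne_one_of_two hx2, ?_⟩
  have h1 := hh.resolve_left fun e => hnc h (e ▸ hx)
  calc l * h * t * (l * h)⁻¹ = l * (h * t * h⁻¹) * l⁻¹ := by group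
    _ = l * t * x * l⁻¹ := by rw [h1]; group
    _ = _ := by rw [hLt l hl]; group

end H53.Wr0
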